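import Cfsg.Agent.WalterCons.Semisimple
import Cfsg.Agent.AutPSL.FieldCentralizer
import Cfsg.Agent.AutPSL.Main
import Cfsg.Agent.AutPSL.FieldAut
import Cfsg.Agent.GroupPartition.SL2
import Cfsg.Agent.ClassSizePSLTwo.Sylow
import Cfsg.Agent.Linear.SylowChar
import Mathlib

/-!
# Automorphisms of `PSL₂(q)` of odd prime power order fixing a Sylow subgroup
-/

set_option autoImplicit false
set_option linter.style.haveILetI false
set_option linter.unusedSectionVars false

namespace CfsgLib.WalterCons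

open Matrix CfsgLib.AutPSL
open scoped MatrixGroups

variable {F : Type*} [Field F] [Fintype F]

local notation "PST" => Matrix.ProjectiveSpecialLinearGroup (Fin 2) F

theorem form_two (β : MulAut PST) :
    ∃ (g : GL (Fin 2) F) (σ : F ≃+* F), β = toPSLAut (conjSL g * fieldSL σ) :=
  (form_cases le_rfl β).resolve_right fun h => absurd h.1 (by norm_num)

/-- An automorphism of diagonal type of odd order is inner. -/
theorem inner_of_odd_pow (g : GL (Fin 2) F) {N : ℕ} (hN : Odd N)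
    (h : toPSLAut (conjSL g) ^ N = (1 : MulAut PST)) :
    ∃ s : SL(2, F), toPSLAut (conjSL g) = MulAut.conj (QuotientGroup.mk s : PST) := by
  obtain ⟨k, rfl⟩ := hN
  obtain ⟨s, hs⟩ := GroupPartition.SL2.exists_inner_of_isSquare (A := (g * g) ^ (k + 1))
    ⟨(g.det : F) ^ (k + 1), by
      rw [map_pow, map_mul, Units.val_pow_eq_pow_val, Units.val_mul, mul_pow]⟩
  refine ⟨s, ?_⟩
  rw [← hs]
  simp only [map_pow, ← pow_two, ← pow_mul]
  rw [show 2 * (k + 1) = 2 * k + 1 + 1 by ring, pow_succ, h, one_mul]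

variable {p : ℕ} [Fact p.Prime] [CharP F p]

include p in
/-- A field component fixing the upper unipotents pointwise is trivial. -/
theorem field_trivial_of_fix_upper (g : GL (Fin 2) F) (σ : F ≃+* F)
    (h : ∀ a : F, toPSLAut (conjSL g * fieldSL σ) (QuotientGroup.mk (xe (0 : Fin 2) 1 a) : PST) =
      QuotientGroup.mk (xe (0 : Fin 2) 1 a)) : σ = 1 := by
  have h01 : (0 : Fin 2) ≠ 1 := by decide
  have key : ∀ a : F, (g : Matrix (Fin 2) (Fin 2) F) * (1 + Matrix.single 0 1 (σ a)) =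
      (1 + Matrix.single 0 1 a) * (g : Matrix (Fin 2) (Fin 2) F) := by
    intro a
    have h1 : (conjSL g * fieldSL σ : MulAut SL(2, F)) (xe (0 : Fin 2) 1 a) = xe (0 : Fin 2) 1 a :=
      eq_of_mk_eq p (k := 1) (by rw [← map_pow, xe_pow_char, map_one]) (xe_pow_char p _ _ a)
        (by have := h a; rwa [toPSLAut_mk] at this)
    have h2 := congrArg (fun s : SL(2, F) => s.1 * g.1) h1
    simp only [MulAut.mul_apply, fieldSL_xe, conjSL_coe, xe_coe h01] at h2
    rwa [Matrix.mul_assoc, g.inv_mul, Matrix.mul_one] at h2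
  have e00 := congrArg (fun M : Matrix (Fin 2) (Fin 2) F => M 0 0) (key 1)
  have e01 : ∀ a, (g : Matrix (Fin 2) (Fin 2) F) 0 0 * σ a = a * (g : Matrix (Fin 2) (Fin 2) F) 1 1 := by
    intro a
    have := congrArg (fun M : Matrix (Fin 2) (Fin 2) F => M 0 1) (key a)
    simp [Matrix.mul_apply, Fin.sum_univ_two, Matrix.single, Matrix.add_apply] at this
    linear_combination this
  simp [Matrix.mul_apply, Fin.sum_univ_two, Matrix.single, Matrix.add_apply] at e00
  have e1 := e01 1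
  rw [map_one, mul_one, one_mul] at e1
  have hA : (g : Matrix (Fin 2) (Fin 2) F) 0 0 ≠ 0 := by
    intro h0
    apply g.det.ne_zero
    rw [Matrix.GeneralLinearGroup.val_det_apply, Matrix.det_fin_two, ← e1, h0, e00]
    ring
  refine RingEquiv.ext fun a => ?_
  have := e01 a
  rw [← e1, mul_comm a] at this
  exact mul_left_cancel₀ hA this

/-- The field component is trivial, at the characteristic. -/
theorem field_trivial_char (g : GL (Fin 2) F) (σ : F ≃+* F) (R : Sylow p PST)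
    (hR : ∀ x ∈ (R : Subgroup PST), toPSLAut (conjSL g * fieldSL σ) x = x) : σ = 1 := by
  obtain ⟨w, hw⟩ := MulAction.exists_smul_eq PST (upPSylow (n := 2) (F := F) p) R
  obtain ⟨w, rfl⟩ := QuotientGroup.mk'_surjective _ w
  set W : GL (Fin 2) F := Matrix.SpecialLinearGroup.toGL w
  have hW : toPSLAut (conjSL W) = MulAut.conj (QuotientGroup.mk w : PST) := by
    rw [conjSL_toGL, toPSLAut_conj]
  refine field_trivial_of_fix_upper (p := p) (W⁻¹ * g * mapGL σ W) σ fun a => ?_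
  have hmem : (QuotientGroup.mk (xe (0 : Fin 2) 1 a) : PST) ∈ upP 2 F :=
    ⟨_, xe_mem_uni (by simp [upB]) a, rfl⟩
  have hR' := hR (QuotientGroup.mk w * QuotientGroup.mk (xe (0 : Fin 2) 1 a) * (QuotientGroup.mk w)⁻¹) (by
    rw [← hw, Sylow.coe_subgroup_smul]
    exact Subgroup.smul_mem_pointwise_smul _ _ _ hmem)
  have hsplit : toPSLAut (conjSL (W⁻¹ * g * mapGL σ W) * fieldSL σ) =
      (toPSLAut (conjSL W))⁻¹ * toPSLAut (conjSL g * fieldSL σ) * toPSLAut (conjSL W) := by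
    rw [show conjSL (W⁻¹ * g * mapGL σ W) * fieldSL σ =
        (conjSL W)⁻¹ * (conjSL g * fieldSL σ) * conjSL W by
      rw [map_mul, map_mul, map_inv, mul_assoc _ _ (fieldSL σ), ← fieldSL_mul_conjSL]
      simp only [mul_assoc], map_mul, map_mul, map_inv]
  rw [hsplit, MulAut.mul_apply, MulAut.mul_apply, hW, MulAut.conj_apply, hR', MulAut.conj_inv_apply]
  group

/-- The field component is trivial, away from the characteristic. -/
theorem field_trivial_torus {r : ℕ} [hr : Fact r.Prime] (hr2 : r ≠ 2) (hrp : r ≠ p)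
    (g : GL (Fin 2) F) (σ : F ≃+* F) {j : ℕ} (hσ : orderOf σ = r ^ j) (R : Sylow r PST)
    (hR1 : (R : Subgroup PST) ≠ ⊥)
    (hR : ∀ x ∈ (R : Subgroup PST), toPSLAut (conjSL g * fieldSL σ) x = x) : σ = 1 := by
  by_contra hne
  have hp : p.Prime := Fact.out
  have hj : j ≠ 0 := fun h0 => hne (orderOf_eq_one_iff.1 (by rw [hσ, h0, pow_zero]))
  obtain ⟨f, -, hF⟩ := FiniteField.card F p
  have hof : r ^ j ∣ (f : ℕ) := hσ ▸ orderOf_dvd_degree (p := p) hF f.2 σ
  obtain ⟨m, hm⟩ := hof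
  set Q := p ^ m with hQ
  have hcard : Fintype.card F = Q ^ r ^ j := by rw [hF, hm, hQ, ← pow_mul, mul_comm]
  have hfix : Nat.card (FixedField.fixedSub σ) = Q :=
    FixedField.card_fixed σ (pow_ne_zero _ hr.out.ne_zero) hσ hcard
  -- a generator of `R`
  obtain ⟨e, he⟩ := R.isPGroup'.exists_card_eq
  have he0 : e ≠ 0 := fun h0 => hR1 (Subgroup.eq_bot_of_card_eq _ (by rw [he, h0, pow_zero]))
  haveI := ClassSizePSLTwo.isCyclic_sylow_PSL (p := p) hr2 hrp R
  obtain ⟨⟨x, hxR⟩, hx⟩ := IsCyclic.exists_generator (α := (R : Subgroup PST))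
  have hxo : orderOf x = r ^ e := by
    rw [← he, ← orderOf_eq_card_of_forall_mem_zpowers hx, Subgroup.orderOf_mk]
  obtain ⟨s₀, rfl⟩ := SL2Trace.proj_surjective x
  -- a lift of odd order
  obtain ⟨N, hN⟩ : Odd (r ^ e) := (hr.out.odd_of_ne_two hr2).pow
  obtain ⟨s, hsx, hs⟩ : ∃ s : SL(2, F), SL2Trace.proj s = SL2Trace.proj s₀ ∧ s ^ r ^ e = 1 := by
    have h1 : SL2Trace.proj (s₀ ^ r ^ e) = 1 := by
      show (QuotientGroup.mk (s₀ ^ r ^ e) : PST) = 1
      rw [QuotientGroup.mk_pow]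
      exact hxo ▸ pow_orderOf_eq_one _
    rcases (SL2Trace.proj_eq_one_iff _).1 h1 with h | h
    · exact ⟨s₀, rfl, h⟩
    · refine ⟨-s₀, ?_, by rw [hN, Odd.neg_pow ⟨N, rfl⟩, ← hN, h, neg_neg]⟩
      rw [show SL2Trace.proj (-s₀) = SL2Trace.proj (-1 : SL(2, F)) * SL2Trace.proj s₀ from by
          show (QuotientGroup.mk (-s₀) : PST) = QuotientGroup.mk (-1) * QuotientGroup.mk s₀
          rw [← QuotientGroup.mk_mul, neg_one_mul],
        (SL2Trace.proj_eq_one_iff _).2 (Or.inr rfl), one_mul]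
  rw [← hsx] at hxo hxR
  set α := conjSL g * fieldSL σ with hα
  have hαs : α s = s := by
    have h1 := hR _ hxR
    rw [show toPSLAut α (SL2Trace.proj s) = SL2Trace.proj (α s) from toPSLAut_mk α s] at h1
    have h2 : SL2Trace.proj (s⁻¹ * α s) = 1 := by
      show (QuotientGroup.mk (s⁻¹ * α s) : PST) = 1
      rw [QuotientGroup.mk_mul, QuotientGroup.mk_inv]
      exact inv_mul_eq_one.2 h1.symm
    rcases (SL2Trace.proj_eq_one_iff _).1 h2 with h | h
    · exact (inv_mul_eq_one.1 h).symm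
    · rw [inv_mul_eq_iff_eq_mul, mul_neg, mul_one] at h
      have h3 : (-1 : SL(2, F)) = 1 := by
        have h4 : (α s) ^ r ^ e = 1 := by rw [← map_pow, hs, map_one]
        rw [h, hN, Odd.neg_pow ⟨N, rfl⟩, ← hN, hs] at h4
        exact h4
      rw [h, ← neg_one_mul s, h3, one_mul]
  set t := Matrix.trace s.1 with ht
  have htσ : σ t = t := by
    have h1 := congrArg (fun s : SL(2, F) => Matrix.trace s.1) hαs
    simp only [hα, MulAut.mul_apply, conjSL_coe, fieldSL_coe] at h1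
    rw [Matrix.trace_mul_comm, ← Matrix.mul_assoc, g.inv_mul, Matrix.one_mul] at h1
    rw [ht, Matrix.trace_fin_two, map_add]
    rw [Matrix.trace_fin_two, Matrix.trace_fin_two] at h1
    simpa [Matrix.map_apply] using h1
  have htQ : t ^ Q = t := by
    haveI : Fintype (FixedField.fixedSub σ) := Fintype.ofFinite _
    have h1 := congrArg Subtype.val (FiniteField.pow_card (⟨t, htσ⟩ : FixedField.fixedSub σ))
    rwa [SubmonoidClass.coe_pow, ← Nat.card_eq_fintype_card, hfix] at h1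
  have hdvd : ∀ n, s ^ n = 1 → r ^ e ∣ n := fun n hn => by
    rw [← hxo]
    refine orderOf_dvd_of_pow_eq_one ?_
    show (QuotientGroup.mk s : PST) ^ n = 1
    rw [← QuotientGroup.mk_pow, hn, QuotientGroup.mk_one]
  by_cases h4 : t ^ 2 = 4
  · have h1 := (dvd_pow_self r he0).trans (hdvd _ (sl_two_pow_two_mul_eq_one (p := p) s h4))
    rcases hr.out.dvd_mul.1 h1 with h | h
    · exact hr2 ((Nat.prime_dvd_prime_iff_eq hr.out Nat.prime_two).1 h)
    · exact hrp ((Nat.prime_dvd_prime_iff_eq hr.out hp).1 h)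
  have hre : r ^ e ∣ Q ^ 2 - 1 := hdvd _ (sl_two_pow_sub_one_eq_one (p := p) m s htQ h4)
  -- one more factor `r` divides `|PSL₂(q)|`
  have hr1 : r ∣ Q ^ 2 - 1 := (dvd_pow_self r he0).trans hre
  have hQ1 : 1 ≤ Q ^ 2 := Nat.one_le_pow _ _ (pow_pos hp.pos m)
  have hgeom : r ^ (e + 1) ∣ (Q ^ 2) ^ r - 1 := by
    rw [← geom_sum_mul_of_one_le hQ1 r, pow_succ, mul_comm (r ^ e)]
    refine mul_dvd_mul ?_ hre
    rw [← ZMod.natCast_eq_zero_iff] at hr1 ⊢
    rw [Nat.cast_sub hQ1, Nat.cast_one, sub_eq_zero] at hr1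
    rw [Nat.cast_sum]
    simp only [Nat.cast_pow, hr1, one_pow, Finset.sum_const, Finset.card_range, nsmul_eq_mul,
      ZMod.natCast_self, zero_mul]
  have hq2 : (Q ^ 2) ^ r - 1 ∣ Fintype.card F ^ 2 - 1 := by
    obtain ⟨i, rfl⟩ : ∃ i, j = i + 1 := ⟨j - 1, by omega⟩
    have hX : ∀ X : ℕ, (X ^ r ^ (i + 1)) ^ 2 = ((X ^ 2) ^ r) ^ r ^ i := fun X => by
      rw [← pow_mul, ← pow_mul, ← pow_mul]
      congr 1
      ring
    rw [hcard, hX]
    simpa using Nat.sub_dvd_pow_sub_pow ((Q ^ 2) ^ r) 1 (r ^ i)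
  have h1 : r ^ (e + 1) ∣ Nat.card PST := by
    have h2 := Linear.card_PSL_two_mul (F := F)
    have h3 : r ^ (e + 1) ∣ Nat.gcd 2 (Fintype.card F - 1) * Nat.card PST :=
      h2 ▸ dvd_mul_of_dvd_right (hgeom.trans hq2) _
    refine (Nat.Coprime.dvd_of_dvd_mul_left ?_ h3)
    exact Nat.Coprime.coprime_dvd_right (Nat.gcd_dvd_left _ _)
      (Nat.Coprime.pow_left _ ((Nat.coprime_primes hr.out Nat.prime_two).2 hr2))
  have := R.pow_dvd_card_of_pow_dvd_card h1
  rw [he] at this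
  have := (Nat.pow_dvd_pow_iff_le_right hr.out.one_lt).1 this
  omega

omit [Fact p.Prime] [CharP F p] in
/-- An automorphism of odd prime power order fixing a Sylow subgroup pointwise is inner. -/
theorem psl_inner_of_fix {r : ℕ} [hr : Fact r.Prime] (hr2 : r ≠ 2)
    (hrd : r ∣ Nat.card PST) (β : MulAut PST) {k : ℕ} (hβ : orderOf β = r ^ k) (R : Sylow r PST)
    (hR : ∀ x ∈ (R : Subgroup PST), β x = x) : ∃ s : PST, β = MulAut.conj s := by
  obtain ⟨p, hp⟩ := CharP.exists F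
  have : Fact p.Prime := ⟨CharP.char_is_prime F p⟩
  obtain ⟨g, σ, rfl⟩ := form_two β
  have hpow := hβ ▸ pow_orderOf_eq_one (toPSLAut (conjSL g * fieldSL σ) : MulAut PST)
  obtain ⟨hσ, -⟩ := (mul_field_pow_eq_one_iff p σ g _).1 hpow
  obtain ⟨j, -, hj⟩ := (Nat.dvd_prime_pow hr.out).1 (orderOf_dvd_of_pow_eq_one hσ)
  have hσ1 : σ = 1 := by
    by_cases hrp : r = p
    · subst hrp
      exact field_trivial_char g σ R hR
    · refine field_trivial_torus (p := p) hr2 hrp g σ hj R (fun hb => ?_) hR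
      have := R.dvd_card_of_dvd_card hrd
      rw [hb, Subgroup.card_bot] at this
      exact hr.out.one_lt.ne' (Nat.dvd_one.1 this)
  subst hσ1
  rw [map_one, mul_one] at hpow ⊢
  obtain ⟨s, hs⟩ := inner_of_odd_pow g ((hr.out.odd_of_ne_two hr2).pow (n := k)) hpow
  exact ⟨_, hs⟩

end CfsgLib.WalterCons
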