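import Cfsg.Agent.WalterCons.JR
import Cfsg.Agent.WalterCons.PSLFix
import Cfsg.Agent.Walter.Setting
import Cfsg.Agent.SporadicOut.J1Aut
import Cfsg.Agent.Characters.Burnside
import Cfsg.Agent.PLocal.Cores
import Cfsg.Agent.S0251
import Cfsg.Agent.S0252
import Cfsg.Agent.S0253
import Cfsg.Agent.S4593
import Cfsg.Agent.S2065
import Mathlib

/-!
# Consequences of the classification of simple groups with abelian Sylow 2-subgroups

The classification is the hypothesis `AbelianTwoThm`: such a group is `PSL₂(2^a)`, `PSL₂(q)` with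
`q ≡ 3, 5 (mod 8)`, or of Janko–Ree type.  `all_sylow_abelian` is S2554, `automorphism_inner` is
S2555.
-/

set_option autoImplicit false
set_option linter.unusedSectionVars false
set_option linter.style.haveILetI false

namespace CfsgLib.WalterCons

universe u

/-- Simple groups with abelian Sylow 2-subgroups. -/
def AbelianTwoThm : Prop :=
  ∀ (G : Type u) [Group G] [Finite G], IsSimpleGroup G → ¬ IsMulCommutative G →
    ∀ S : Sylow 2 G, IsMulCommutative ↥(S : Subgroup G) →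
      (∃ a : ℕ, 2 ≤ a ∧ ∃ (F : Type) (_ : Field F) (_ : Fintype F), Fintype.card F = 2 ^ a ∧
          Nonempty (G ≃* Matrix.ProjectiveSpecialLinearGroup (Fin 2) F)) ∨
        (∃ (F : Type) (_ : Field F) (_ : Fintype F),
          (Fintype.card F % 8 = 3 ∨ Fintype.card F % 8 = 5) ∧
            Nonempty (G ≃* Matrix.ProjectiveSpecialLinearGroup (Fin 2) F)) ∨
        Walter.IsJR G

variable {G : Type u} [Group G] [Finite G] [IsSimpleGroup G]

theorem four_le_of_simple {F : Type} [Field F] [Fintype F]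
    (hna : ¬ IsMulCommutative G) (h : Fintype.card F % 8 = 3 ∨ Fintype.card F % 8 = 5)
    (e : G ≃* Matrix.ProjectiveSpecialLinearGroup (Fin 2) F) : 4 ≤ Fintype.card F := by
  by_contra hlt
  obtain ⟨e'⟩ := Cfsg.Agent.S0251.result (show Fintype.card F = 3 by omega)
  have hcard : Nat.card G = 12 := by
    rw [Nat.card_congr (e.trans e').toEquiv, nat_card_alternatingGroup, Nat.card_fin]
    rfl
  exact hna ⟨⟨IsSimpleGroup.comm_iff_isSolvable.2 (Characters.isSolvable_of_card_eq_primePow_mul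
    2 3 2 1 Nat.prime_two Nat.prime_three (by rw [hcard]; norm_num))⟩⟩

theorem all_sylow_abelian (hW : AbelianTwoThm.{u}) (hna : ¬ IsMulCommutative G)
    (hA : ∀ (p : ℕ), p.Prime → ∀ (P : Sylow p G), IsMulCommutative ↥P) :
    Cfsg.Spor.IsoJ1 G ∨
      ∃ (F : Type) (_ : Field F) (_ : Fintype F), 3 < Fintype.card F ∧
        (Fintype.card F % 8 = 0 ∨ Fintype.card F % 8 = 3 ∨ Fintype.card F % 8 = 5) ∧
        Nonempty (G ≃* Matrix.ProjectiveSpecialLinearGroup (Fin 2) F) := by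
  obtain ⟨S⟩ : Nonempty (Sylow 2 G) := inferInstance
  rcases hW G inferInstance hna S (hA 2 Nat.prime_two S) with
    ⟨a, ha, F, iF, fF, hF, ⟨e⟩⟩ | ⟨F, iF, fF, hF, ⟨e⟩⟩ | hJ
  · right
    rcases Nat.lt_or_ge a 3 with h3 | h3
    · have ha2 : a = 2 := by omega
      haveI : Fact (Nat.Prime 5) := ⟨by norm_num⟩
      obtain ⟨e₁⟩ := Cfsg.Agent.S0252.result (hF.trans (by rw [ha2]; rfl))
      obtain ⟨e₂⟩ := Cfsg.Agent.S0253.result (ZMod.card 5)
      exact ⟨ZMod 5, inferInstance, inferInstance, by rw [ZMod.card]; norm_num,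
        by rw [ZMod.card]; norm_num, ⟨(e.trans e₁).trans e₂.symm⟩⟩
    · obtain ⟨b, rfl⟩ : ∃ b, a = 3 + b := ⟨a - 3, by omega⟩
      refine ⟨F, iF, fF, ?_, Or.inl ?_, ⟨e⟩⟩
      · rw [hF, pow_add]
        have := Nat.one_le_two_pow (n := b)
        omega
      · rw [hF, pow_add]
        norm_num
  · exact Or.inr ⟨F, iF, fF, four_le_of_simple hna hF e, Or.inr hF, ⟨e⟩⟩
  · exact Or.inl (isoJ1_of_isJR hna (fun p hp P => hA p hp.out P) hJ)

omit [Finite G] [IsSimpleGroup G] in
/-- Transport of automorphisms along an isomorphism. -/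
theorem inner_of_equiv {H : Type*} [Group H] (e : G ≃* H) (α : MulAut G)
    (h : ∃ s : H, MulAut.congr e α = MulAut.conj s) : ∃ g : G, ∀ x : G, α x = g * x * g⁻¹ := by
  obtain ⟨s, hs⟩ := h
  refine ⟨e.symm s, fun x => e.injective ?_⟩
  have := DFunLike.congr_fun hs (e x)
  simp only [MulAut.conj_apply] at this
  rw [map_mul, map_mul, map_inv, e.apply_symm_apply, ← this]
  simp

theorem j1_inner (β : MulAut ↥Cfsg.Spor.J1) :
    ∃ s : ↥Cfsg.Spor.J1, β = MulAut.conj s := by
  have h := Cfsg.Agent.S2065.result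
  obtain ⟨hs, -⟩ := Nat.card_eq_one_iff_unique.1 h
  obtain ⟨s, hs'⟩ := (QuotientGroup.eq_one_iff β).1
    (Subsingleton.elim (β : Cfsg.Out ↥Cfsg.Spor.J1) 1)
  exact ⟨s, hs'.symm⟩

theorem automorphism_inner (hW : AbelianTwoThm.{u}) (hna : ¬ IsMulCommutative G)
    (hA : ∀ (p : ℕ), p.Prime → ∀ (P : Sylow p G), IsMulCommutative ↥P)
    (r : ℕ) [hr : Fact r.Prime] (hrd : r ∣ Nat.card G) (α : G ≃* G) (k : ℕ)
    (hα : orderOf α = r ^ k) (R : Sylow r G) (hR : ∀ x ∈ (R : Subgroup G), α x = x) :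
    ∃ g : G, ∀ x : G, α x = g * x * g⁻¹ := by
  by_cases hr2 : r = 2
  · subst hr2
    have hZ : Subgroup.center G = ⊥ :=
      (IsSimpleGroup.eq_bot_or_eq_top_of_normal _ inferInstance).resolve_right fun h =>
        hna ⟨⟨fun a b => (Subgroup.mem_center_iff.1 (h ▸ Subgroup.mem_top b) a)⟩⟩
    have hcore : Cfsg.pPrimeCore 2 G = ⊥ :=
      (IsSimpleGroup.eq_bot_or_eq_top_of_normal _ inferInstance).resolve_right fun h => by
        have := PLocal.coprime_card_pPrimeCore 2 G
        rw [h, Subgroup.card_top] at this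
        exact (Nat.prime_two.coprime_iff_not_dvd.1 this.symm) hrd
    exact Cfsg.Agent.S4593.result hZ hcore R (hA 2 Nat.prime_two R) α ⟨k, hα⟩ hR
  rcases all_sylow_abelian hW hna hA with ⟨⟨e⟩⟩ | ⟨F, iF, fF, h3, -, ⟨e⟩⟩
  · exact inner_of_equiv e α (j1_inner _)
  · refine inner_of_equiv e α ?_
    let R' : Sylow r (Matrix.ProjectiveSpecialLinearGroup (Fin 2) F) :=
      R.mapSurjective (f := e.toMonoidHom) e.surjective
    refine psl_inner_of_fix hr2 (by rwa [← Nat.card_congr e.toEquiv]) (MulAut.congr e α) (k := k)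
      ((MulEquiv.orderOf_eq (MulAut.congr e) α).trans hα) R' ?_
    rintro _ ⟨x, hx, rfl⟩
    simp [hR x hx]

end CfsgLib.WalterCons
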