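import Cfsg.Agent.Characters.Induction
import Cfsg.Agent.Characters.Linear
import Mathlib.GroupTheory.FiniteAbelian.Duality
import Mathlib.RingTheory.RootsOfUnity.AlgebraicallyClosed
import Mathlib.Analysis.Complex.Polynomial.Basic

/-!
# The dual of a finite abelian group
-/

set_option autoImplicit false
set_option linter.style.haveILetI false
set_option linter.unusedSectionVars false

namespace CfsgLib.WalterCons

open scoped ComplexConjugate

universe u

variable {K : Type u} [CommGroup K] [Finite K]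

instance neZero_exponent_complex : NeZero ((Monoid.exponent K : ℕ) : ℂ) :=
  ⟨Nat.cast_ne_zero.mpr Monoid.exponent_ne_zero_of_finite⟩

theorem card_dual : Nat.card (K →* ℂˣ) = Nat.card K :=
  CommGroup.card_monoidHom_of_hasEnoughRootsOfUnity K ℂ

instance finite_dual : Finite (K →* ℂˣ) :=
  Nat.finite_of_card_ne_zero (by rw [card_dual]; exact Nat.card_pos.ne')

/-- Characters trivial on a subgroup are those of the quotient. -/
noncomputable def dualQuotEquiv (I : Subgroup K) :
    {l : K →* ℂˣ // ∀ x ∈ I, l x = 1} ≃ ((K ⧸ I) →* ℂˣ) where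
  toFun l := QuotientGroup.lift I l.1 fun x hx => MonoidHom.mem_ker.2 (l.2 x hx)
  invFun f := ⟨f.comp (QuotientGroup.mk' I), fun x hx => by
    rw [MonoidHom.comp_apply, QuotientGroup.mk'_apply, (QuotientGroup.eq_one_iff x).2 hx, map_one]⟩
  left_inv l := Subtype.ext (MonoidHom.ext fun x => rfl)
  right_inv f := MonoidHom.ext fun x => by
    induction x using QuotientGroup.induction_on with
    | H g => rfl

theorem card_dual_trivial (I : Subgroup K) :
    Nat.card {l : K →* ℂˣ // ∀ x ∈ I, l x = 1} = I.index := by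
  rw [Nat.card_congr (dualQuotEquiv I), card_dual, ← Subgroup.index_eq_card]

theorem exists_dual_trivial_ne_one {I : Subgroup K} {x : K} (hx : x ∉ I) :
    ∃ l : K →* ℂˣ, (∀ y ∈ I, l y = 1) ∧ l x ≠ 1 := by
  obtain ⟨f, hf⟩ := CommGroup.exists_apply_ne_one_of_hasEnoughRootsOfUnity (K ⧸ I) ℂ
    (a := (x : K ⧸ I)) fun h => hx ((QuotientGroup.eq_one_iff x).1 h)
  exact ⟨f.comp (QuotientGroup.mk' I), ((dualQuotEquiv I).symm f).2, hf⟩

theorem dual_conj (l : K →* ℂˣ) (x : K) : conj ((l x : ℂˣ) : ℂ) = ((l x⁻¹ : ℂˣ) : ℂ) := by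
  have hn : ‖((l x : ℂˣ) : ℂ)‖ = 1 := Complex.norm_eq_one_of_pow_eq_one
    (by rw [← Units.val_pow_eq_pow_val, ← map_pow, pow_orderOf_eq_one, map_one, Units.val_one])
    (orderOf_pos x).ne'
  rw [← Complex.inv_eq_conj hn, map_inv, Units.val_inv_eq_inv_val]

/-- Column orthogonality over the characters trivial on a subgroup. -/
theorem sum_dual_trivial (I : Subgroup K) [Fintype {l : K →* ℂˣ // ∀ y ∈ I, l y = 1}]
    (x : K) [Decidable (x ∈ I)] :
    ∑ l : {l : K →* ℂˣ // ∀ y ∈ I, l y = 1}, ((l.1 x : ℂˣ) : ℂ) =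
      if x ∈ I then (I.index : ℂ) else 0 := by
  split_ifs with hx
  · rw [Finset.sum_congr rfl fun l _ => show ((l.1 x : ℂˣ) : ℂ) = 1 by rw [l.2 x hx, Units.val_one],
      Finset.sum_const, Finset.card_univ, ← Nat.card_eq_fintype_card, card_dual_trivial]
    simp
  · obtain ⟨m, hm, hmx⟩ := exists_dual_trivial_ne_one hx
    set S := ∑ l : {l : K →* ℂˣ // ∀ y ∈ I, l y = 1}, ((l.1 x : ℂˣ) : ℂ)
    have h : ((m x : ℂˣ) : ℂ) * S = S := by
      rw [Finset.mul_sum]
      refine Fintype.sum_bijective (fun l => (⟨m * l.1, fun y hy => by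
        rw [MonoidHom.mul_apply, hm y hy, l.2 y hy, mul_one]⟩ :
          {l : K →* ℂˣ // ∀ y ∈ I, l y = 1})) ?_ _ _ fun l => ?_
      · refine ⟨fun a b e => Subtype.ext (mul_left_cancel (congrArg Subtype.val e)), fun b =>
          ⟨⟨m⁻¹ * b.1, fun y hy => ?_⟩, Subtype.ext (MonoidHom.ext fun z => by simp [MonoidHom.mul_apply, MonoidHom.inv_apply])⟩⟩
        rw [MonoidHom.mul_apply, MonoidHom.inv_apply, hm y hy, b.2 y hy, inv_one, mul_one]
      · simp
    by_contra hS
    exact hmx (Units.val_eq_one.1 (mul_right_cancel₀ hS (h.trans (one_mul S).symm)))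

theorem sum_dual [Fintype (K →* ℂˣ)] (x : K) [Decidable (x = 1)] :
    ∑ l : K →* ℂˣ, ((l x : ℂˣ) : ℂ) = if x = 1 then (Nat.card K : ℂ) else 0 := by
  classical
  letI : Fintype {l : K →* ℂˣ // ∀ y ∈ (⊥ : Subgroup K), l y = 1} := Fintype.ofFinite _
  have h := sum_dual_trivial (⊥ : Subgroup K) x
  simp only [Subgroup.mem_bot, Subgroup.index_bot] at h
  rw [← h]
  refine (Fintype.sum_equiv (Equiv.subtypeUnivEquiv fun l y hy => ?_) _ _ fun l => rfl).symm
  rw [Subgroup.mem_bot.1 hy, map_one]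

/-- A function on a finite abelian group is the sum of its Fourier components. -/
theorem dual_expansion [Fintype K] [Fintype (K →* ℂˣ)] (f : K → ℂ) (x : K) :
    ∑ l : K →* ℂˣ, Cfsg.classInner f (fun g => ((l g : ℂˣ) : ℂ)) * ((l x : ℂˣ) : ℂ) = f x := by
  classical
  simp only [Cfsg.classInner, mul_assoc, Finset.sum_mul]
  rw [← Finset.mul_sum, Finset.sum_comm, Finset.sum_eq_single x]
  · simp only [dual_conj, ← Units.val_mul, ← map_mul, inv_mul_cancel, map_one, Units.val_one,
      mul_one, Finset.sum_const, Finset.card_univ, ← Nat.card_eq_fintype_card, card_dual,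
      nsmul_eq_mul]
    rw [← mul_assoc, inv_mul_cancel₀ (Nat.cast_ne_zero.2 Nat.card_pos.ne'), one_mul]
  · intro g _ hg
    simp only [dual_conj, ← Units.val_mul, ← map_mul, ← Finset.mul_sum]
    rw [sum_dual, if_neg fun e => hg (by rwa [inv_mul_eq_one] at e), mul_zero]
  · exact fun h => absurd (Finset.mem_univ _) h

end CfsgLib.WalterCons
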