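import Cfsg.Agent.Characters.Orthogonality
import Cfsg.Agent.Characters.RepBasic
import Cfsg.Agent.Characters.Linear
import Mathlib

/-!
# A linear character of a subgroup with two double cosets inducing irreducibly
-/

set_option autoImplicit false
set_option linter.unusedSectionVars false
set_option linter.style.haveILetI false

namespace CfsgLib.WalterCons

open scoped ComplexConjugate

universe u

variable {G : Type u} [Group G] [Fintype G] {H : Subgroup G} [Fintype H]

theorem conj_lin_val (l : H →* ℂˣ) (h : H) :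
    conj ((l h : ℂˣ) : ℂ) = (((l h)⁻¹ : ℂˣ) : ℂ) := by
  have hn : ‖((l h : ℂˣ) : ℂ)‖ = 1 := by
    refine Complex.norm_eq_one_of_pow_eq_one (n := orderOf h) ?_ (orderOf_pos h).ne'
    rw [← Units.val_pow_eq_pow_val, ← map_pow, pow_orderOf_eq_one, map_one, Units.val_one]
  rw [Units.val_inv_eq_inv_val, Complex.inv_eq_conj hn]

theorem exists_lin_mult (l : H →* ℂˣ) : ∃ m : Cfsg.IrrCharacter G → ℕ, ∀ χ : Cfsg.IrrCharacter G,
    ∑ k : H, (χ : G → ℂ) k * (((l k)⁻¹ : ℂˣ) : ℂ) = (Nat.card H : ℂ) * (m χ : ℂ) := by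
  classical
  have h : ∀ χ : Cfsg.IrrCharacter G, ∃ m : ℕ,
      ∑ k : H, (χ : G → ℂ) k * (((l k)⁻¹ : ℂˣ) : ℂ) = (Nat.card H : ℂ) * (m : ℂ) := by
    intro χ
    obtain ⟨m, hm⟩ := Characters.classInner_character_irr
      (Characters.isCharacter_restrict H (Characters.isCharacter_of_isIrr χ.2))
      (Characters.isIrr_linChar l)
    refine ⟨m, ?_⟩
    rw [← hm, Cfsg.classInner, ← mul_assoc,
      mul_inv_cancel₀ (Nat.cast_ne_zero.2 Nat.card_pos.ne'), one_mul]
    exact Finset.sum_congr rfl fun k _ => by simp [conj_lin_val]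
  choose m hm using h
  exact ⟨m, hm⟩

/-- Outside `H` there is one double coset `H w H` and `l` is moved by `w`: every constituent of
the induced character vanishes at elements without conjugate in `H`. -/
theorem eq_zero_of_two_cosets (l : H →* ℂˣ) {w : G} {d : H} (hwd : w * (d : G) * w⁻¹ ∈ H)
    (hne : l ⟨_, hwd⟩ ≠ l d)
    (htwo : ∀ x : G, x ∉ H → ∃ a b : H, x = (a : G) * w * (b : G))
    {χ : Cfsg.IrrCharacter G} (hχ : ∑ k : H, (χ : G → ℂ) k * (((l k)⁻¹ : ℂˣ) : ℂ) ≠ 0)
    {g : G} (hg : ∀ x : G, x * g * x⁻¹ ∉ H) : (χ : G → ℂ) g = 0 := by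
  classical
  obtain ⟨m, hm⟩ := exists_lin_mult l
  set N : G → G → ℕ := fun a b => Nat.card {x : G // x * a * x⁻¹ = b} with hN
  have hcol : ∀ a : G, ∑ χ : Cfsg.IrrCharacter G, (χ : G → ℂ) a * ((Nat.card H : ℂ) * (m χ : ℂ)) =
      ∑ k : H, ((l k : ℂˣ) : ℂ) * (N a k : ℂ) := by
    intro a
    have hm' : ∀ χ : Cfsg.IrrCharacter G,
        (Nat.card H : ℂ) * (m χ : ℂ) = ∑ k : H, conj ((χ : G → ℂ) k) * ((l k : ℂˣ) : ℂ) := by
      intro χ
      have h := congrArg conj (hm χ)
      simp only [map_sum, map_mul, Complex.conj_natCast, ← conj_lin_val, Complex.conj_conj] at h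
      exact h.symm
    simp only [hm', Finset.mul_sum]
    rw [Finset.sum_comm]
    refine Finset.sum_congr rfl fun k _ => ?_
    rw [hN, ← Characters.sum_irr_mul_conj, Finset.mul_sum]
    exact Finset.sum_congr rfl fun χ _ => by ring
  -- the norm
  have hnorm : ∑ χ : Cfsg.IrrCharacter G,
      ((Nat.card H : ℂ) * (m χ : ℂ)) * ((Nat.card H : ℂ) * (m χ : ℂ)) = (Nat.card H : ℂ) ^ 2 := by
    have hS : ∀ x : G, ∑ j : H, (if h : x * (j : G) * x⁻¹ ∈ H then
        (((l j)⁻¹ : ℂˣ) : ℂ) * ((l ⟨_, h⟩ : ℂˣ) : ℂ) else 0) =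
          if x ∈ H then (Nat.card H : ℂ) else 0 := by
      intro x
      by_cases hx : x ∈ H
      · rw [if_pos hx, Finset.sum_congr rfl (g := fun _ => (1 : ℂ)) fun j _ => ?_, Finset.sum_const,
          Finset.card_univ, nsmul_eq_mul, mul_one, Nat.card_eq_fintype_card]
        rw [dif_pos (H.mul_mem (H.mul_mem hx j.2) (H.inv_mem hx)),
          show (⟨x * (j : G) * x⁻¹, H.mul_mem (H.mul_mem hx j.2) (H.inv_mem hx)⟩ : H) =
            ⟨x, hx⟩ * j * ⟨x, hx⟩⁻¹ from rfl, map_mul, map_mul, map_inv,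
          mul_comm (l ⟨x, hx⟩), mul_inv_cancel_right, ← Units.val_mul, inv_mul_cancel, Units.val_one]
      · rw [if_neg hx]
        let K : Subgroup G := H.comap (MulAut.conj x).toMonoidHom ⊓ H
        let μ : K →* ℂˣ :=
          { toFun := fun j => (l ⟨j, j.2.2⟩)⁻¹ * l ⟨x * (j : G) * x⁻¹, j.2.1⟩
            map_one' := by
              rw [show (⟨((1 : K) : G), (1 : K).2.2⟩ : H) = 1 from rfl, map_one, inv_one, one_mul]
              rw [show (⟨x * ((1 : K) : G) * x⁻¹, (1 : K).2.1⟩ : H) = 1 from Subtype.ext (by simp),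
                map_one]
            map_mul' := fun a b => by
              rw [show (⟨((a * b : K) : G), (a * b).2.2⟩ : H) = ⟨a, a.2.2⟩ * ⟨b, b.2.2⟩ from rfl,
                show (⟨x * ((a * b : K) : G) * x⁻¹, (a * b).2.1⟩ : H) =
                  ⟨x * (a : G) * x⁻¹, a.2.1⟩ * ⟨x * (b : G) * x⁻¹, b.2.1⟩ from Subtype.ext (by
                    simp [mul_assoc]), map_mul, map_mul, mul_inv]
              exact mul_mul_mul_comm _ _ _ _ }
        have hμ : μ ≠ 1 := by
          intro hμ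
          obtain ⟨a, b, rfl⟩ := htwo x hx
          apply hne
          have hjK : (b : G)⁻¹ * d * b ∈ K := by
            refine ⟨?_, H.mul_mem (H.mul_mem (H.inv_mem b.2) d.2) b.2⟩
            show (a : G) * w * b * ((b : G)⁻¹ * d * b) * ((a : G) * w * b)⁻¹ ∈ H
            rw [show (a : G) * w * b * ((b : G)⁻¹ * d * b) * ((a : G) * w * b)⁻¹ =
              (a : G) * (w * d * w⁻¹) * (a : G)⁻¹ by group]
            exact H.mul_mem (H.mul_mem a.2 hwd) (H.inv_mem a.2)
          have h := DFunLike.congr_fun hμ ⟨_, hjK⟩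
          change (l ⟨(b : G)⁻¹ * d * b, _⟩)⁻¹ *
            l ⟨(a : G) * w * b * ((b : G)⁻¹ * d * b) * ((a : G) * w * b)⁻¹, _⟩ = 1 at h
          rw [inv_mul_eq_one] at h
          have e1 : (⟨(b : G)⁻¹ * d * b, hjK.2⟩ : H) = b⁻¹ * d * b := rfl
          have e2 : (⟨(a : G) * w * b * ((b : G)⁻¹ * d * b) * ((a : G) * w * b)⁻¹, hjK.1⟩ : H) =
              a * ⟨_, hwd⟩ * a⁻¹ := Subtype.ext (by
            show (a : G) * w * b * ((b : G)⁻¹ * d * b) * ((a : G) * w * b)⁻¹ =
              (a : G) * (w * d * w⁻¹) * (a : G)⁻¹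
            group)
          rw [e1, e2, map_mul, map_mul, map_mul, map_mul, map_inv, map_inv,
            inv_mul_cancel_comm, mul_inv_cancel_comm] at h
          exact h.symm
        have hsum := sum_hom_units_eq_zero ((Units.coeHom ℂ).comp μ) fun hc => hμ
          (MonoidHom.ext fun j => Units.ext (by simpa using DFunLike.congr_fun hc j))
        refine Eq.trans ?_ hsum
        rw [← Finset.sum_filter_add_sum_filter_not Finset.univ (fun j : H => x * (j : G) * x⁻¹ ∈ H),
          Finset.sum_eq_zero (s := Finset.univ.filter fun j : H => ¬ x * (j : G) * x⁻¹ ∈ H)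
            (fun j hj => dif_neg (Finset.mem_filter.1 hj).2), add_zero]
        refine Finset.sum_bij (fun j hj => (⟨(j : G), (Finset.mem_filter.1 hj).2, j.2⟩ : K))
          (fun _ _ => Finset.mem_univ _) (fun a _ b _ e => Subtype.ext (congrArg Subtype.val e :))
          (fun j _ => ⟨⟨j, j.2.2⟩, Finset.mem_filter.2 ⟨Finset.mem_univ _, j.2.1⟩, rfl⟩) fun j hj => ?_
        rw [dif_pos (Finset.mem_filter.1 hj).2]
        simp [μ]
    calc ∑ χ : Cfsg.IrrCharacter G, ((Nat.card H : ℂ) * (m χ : ℂ)) * ((Nat.card H : ℂ) * (m χ : ℂ))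
        = ∑ j : H, (((l j)⁻¹ : ℂˣ) : ℂ) * ∑ k : H, ((l k : ℂˣ) : ℂ) * (N j k : ℂ) := by
          simp only [← hcol, Finset.mul_sum]
          rw [Finset.sum_comm]
          refine Finset.sum_congr rfl fun χ _ => ?_
          rw [← hm χ, Finset.sum_mul]
          refine Finset.sum_congr rfl fun j _ => ?_
          rw [hm χ]
          ring
      _ = ∑ j : H, ∑ x : G, (if h : x * (j : G) * x⁻¹ ∈ H then
            (((l j)⁻¹ : ℂˣ) : ℂ) * ((l ⟨_, h⟩ : ℂˣ) : ℂ) else 0) := by
          refine Finset.sum_congr rfl fun j _ => ?_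
          rw [Finset.mul_sum]
          have hNs : ∀ k : H, (N j k : ℂ) = ∑ x : G, if x * (j : G) * x⁻¹ = k then (1 : ℂ) else 0 := by
            intro k
            simp only [hN]
            rw [Finset.sum_boole, Nat.card_eq_fintype_card, Fintype.card_subtype]
          simp only [hNs, Finset.mul_sum]
          rw [Finset.sum_comm]
          refine Finset.sum_congr rfl fun x _ => ?_
          split_ifs with h
          · rw [Finset.sum_eq_single (⟨_, h⟩ : H) (fun k _ hk => by
                rw [if_neg fun e => hk (Subtype.ext e.symm), mul_zero, mul_zero])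
              (fun hh => absurd (Finset.mem_univ _) hh), if_pos rfl, mul_one]
          · exact Finset.sum_eq_zero fun k _ => by
              rw [if_neg (fun e => h (by rw [e]; exact k.2)), mul_zero, mul_zero]
      _ = _ := by
          rw [Finset.sum_comm, Finset.sum_congr rfl fun x _ => hS x, ← Finset.sum_filter,
            Finset.sum_const, nsmul_eq_mul, pow_two]
          congr 2
          rw [← Fintype.card_subtype, Nat.card_eq_fintype_card]
  have hH0 : (Nat.card H : ℂ) ≠ 0 := Nat.cast_ne_zero.2 Nat.card_pos.ne'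
  have hsq : ∑ χ : Cfsg.IrrCharacter G, m χ * m χ = 1 := by
    have h : (Nat.card H : ℂ) ^ 2 * ((∑ χ : Cfsg.IrrCharacter G, m χ * m χ : ℕ) : ℂ) =
        (Nat.card H : ℂ) ^ 2 * ((1 : ℕ) : ℂ) := by
      rw [Nat.cast_one, mul_one]
      conv_rhs => rw [← hnorm]
      push_cast
      rw [Finset.mul_sum]
      exact Finset.sum_congr rfl fun χ _ => by ring
    exact_mod_cast mul_left_cancel₀ (pow_ne_zero 2 hH0) h
  have hmχ : m χ ≠ 0 := fun h => hχ (by rw [hm χ, h, Nat.cast_zero, mul_zero])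
  have hmχ1 : m χ = 1 := by
    have h := Finset.single_le_sum (f := fun i : Cfsg.IrrCharacter G => m i * m i)
      (fun i _ => Nat.zero_le _) (Finset.mem_univ χ)
    rw [hsq] at h
    have := Nat.le_mul_self (m χ)
    omega
  have hother : ∀ i, i ≠ χ → m i = 0 := by
    intro i hi
    rw [← Finset.add_sum_erase _ _ (Finset.mem_univ χ), hmχ1] at hsq
    have hz : ∑ x ∈ Finset.univ.erase χ, m x * m x = 0 := by omega
    exact mul_self_eq_zero.1 (Finset.sum_eq_zero_iff.1 hz i
      (Finset.mem_erase.2 ⟨hi, Finset.mem_univ _⟩))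
  have h := hcol g
  rw [Fintype.sum_eq_single χ (fun i hi => by rw [hother i hi, Nat.cast_zero, mul_zero, mul_zero]),
    hmχ1, Nat.cast_one, mul_one,
    Finset.sum_eq_zero (s := (Finset.univ : Finset H)) fun k _ => ?_] at h
  · exact (mul_eq_zero.1 h).resolve_right hH0
  · haveI : IsEmpty {x : G // x * g * x⁻¹ = (k : G)} :=
      ⟨fun x => hg x.1 (by rw [x.2]; exact k.2)⟩
    rw [hN]
    simp

end CfsgLib.WalterCons
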