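import Cfsg.Agent.Solvable.Fitting
import Cfsg.Agent.FgsSix.InvolutionAction
import Cfsg.Agent.S0205
import Mathlib

/-!
# An involution acting on a group of odd order: a criterion for having no element of order `p`
-/

set_option autoImplicit false
set_option linter.style.haveILetI false
set_option linter.unusedSectionVars false

namespace CfsgLib.WalterCons

open Subgroup

variable {Y : Type*} [Group Y] [Finite Y]

/-- A coset fixed by an involution contains a fixed element. -/
theorem exists_fixed_in_coset {τ : Y} (hτ : τ * τ = 1) {K : Subgroup Y} (hK : Odd (Nat.card K))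
    {x : Y} (hx : x⁻¹ * (τ * x * τ) ∈ K) :
    ∃ d ∈ K, τ * d * τ = d⁻¹ ∧ (x * d) * τ = τ * (x * d) := by
  have hti : τ⁻¹ = τ := inv_eq_of_mul_eq_one_right hτ
  set c := x⁻¹ * (τ * x * τ) with hc
  have hck : c ^ Nat.card K = 1 := by
    have h := pow_card_eq_one' (G := K) (x := ⟨c, hx⟩)
    exact congrArg Subtype.val h
  obtain ⟨j, hj⟩ := hK
  have htc : τ * c * τ⁻¹ = c⁻¹ := by
    rw [hti, hc, mul_inv_rev, mul_inv_rev, mul_inv_rev, inv_inv, hti]
    calc τ * (x⁻¹ * (τ * x * τ)) * τ = τ * x⁻¹ * τ * x * (τ * τ) := by group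
      _ = τ * (x⁻¹ * τ) * x := by rw [hτ, mul_one]; group
  have hdd : c ^ (j + 1) * c ^ (j + 1) = c := by
    rw [← pow_add, show j + 1 + (j + 1) = Nat.card K + 1 by omega, pow_succ, hck, one_mul]
  have hd : τ * c ^ (j + 1) * τ = (c ^ (j + 1))⁻¹ := by
    have h : τ * c ^ (j + 1) * τ⁻¹ = (c ^ (j + 1))⁻¹ := by rw [← conj_pow, htc, inv_pow]
    rwa [hti] at h
  refine ⟨c ^ (j + 1), pow_mem hx _, hd, ?_⟩
  set d := c ^ (j + 1) with hdef
  have htx : τ * x * τ = x * c := by rw [hc, mul_inv_cancel_left]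
  calc x * d * τ = x * (d * d) * (d⁻¹) * τ := by group
    _ = x * c * d⁻¹ * τ := by rw [hdd]
    _ = τ * x * τ * (τ * d * τ) * τ := by rw [← htx, hd]
    _ = τ * x * (τ * τ) * d * (τ * τ) := by group
    _ = τ * (x * d) := by rw [hτ]; group

/-- Without fixed elements of a subgroup of odd order an involution inverts it. -/
theorem inverts_of_fixed_free {τ : Y} (hτ : τ * τ = 1) {K : Subgroup Y} (hK : Odd (Nat.card K))
    (hn : ∀ x ∈ K, τ * x * τ ∈ K) (h : ∀ x ∈ K, x * τ = τ * x → x = 1) {x : Y} (hx : x ∈ K) :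
    τ * x * τ = x⁻¹ := by
  obtain ⟨d, hdK, hd, hfix⟩ := exists_fixed_in_coset hτ hK (x := x) (mul_mem (inv_mem hx) (hn x hx))
  have h1 := h _ (mul_mem hx hdK) hfix
  rw [eq_inv_of_mul_eq_one_left h1, inv_inv]
  have := congrArg (fun y => y⁻¹) hd
  simp only [mul_inv_rev, inv_inv, inv_eq_of_mul_eq_one_right hτ, ← mul_assoc] at this
  exact this

/-- An element whose square commutes with `x`, of odd order, commutes with `x`. -/
theorem commute_of_sq {s x : Y} (hs : Odd (orderOf s)) (h : Commute (s * s) x) : Commute s x := by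
  obtain ⟨j, hj⟩ := hs
  have : (s * s) ^ (j + 1) = s := by
    rw [← pow_two, ← pow_mul, show 2 * (j + 1) = orderOf s + 1 by omega, pow_succ,
      pow_orderOf_eq_one, one_mul]
  exact this ▸ h.pow_left _

/-- If the fixed elements of an involution on a normal subgroup `X` of odd order have exponent
dividing `u` prime to `p`, the normal `ℓ`-subgroups in `X` are fixed for `ℓ ∣ u`, and `X` has no
normal `p`-subgroup, then `p` does not divide `|X|`. -/
theorem not_dvd_of_involution {τ : Y} (hτ : τ * τ = 1) {X : Subgroup Y} [X.Normal]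
    (hX : Odd (Nat.card X)) {p : ℕ} [hp : Fact p.Prime] {u : ℕ} (hpu : ¬ p ∣ u)
    (hfix : ∀ x ∈ X, x * τ = τ * x → x ^ u = 1)
    (hell : ∀ ℓ : ℕ, ℓ.Prime → ℓ ∣ u → ∀ K : Subgroup Y, K ≤ X → K.Normal → IsPGroup ℓ K →
      ∀ x ∈ K, x * τ = τ * x)
    (hO : ∀ K : Subgroup Y, K ≤ X → K.Normal → IsPGroup p K → K = ⊥) :
    ¬ p ∣ Nat.card X := by
  intro hdvd
  have hti : τ⁻¹ = τ := inv_eq_of_mul_eq_one_right hτ
  have hXn : τ ∈ normalizer (X : Set Y) := by rw [normalizer_eq_top]; exact mem_top _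
  obtain ⟨S, hS⟩ := FgsSix.exists_fixed_sylow X hX p ((pow_two τ).trans hτ) hXn
  set T := (S : Subgroup X).map X.subtype with hT
  have hTX : T ≤ X := map_subtype_le _
  have hTodd : Odd (Nat.card T) := hX.of_dvd_nat (card_dvd_of_le hTX)
  have hTp : IsPGroup p T := S.2.map _
  have hinv : ∀ s ∈ T, τ * s * τ = s⁻¹ := by
    intro s hs
    refine inverts_of_fixed_free hτ hTodd (fun x hx => ?_) (fun x hx hc => ?_) hs
    · have := (mem_normalizer_iff.1 hS x).1 hx
      rwa [hti] at this
    · obtain ⟨i, hi⟩ := hTp ⟨x, hx⟩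
      have hi' : x ^ p ^ i = 1 := congrArg Subtype.val hi
      refine orderOf_eq_one_iff.1 (Nat.dvd_one.1 ?_)
      have hcop : Nat.Coprime (p ^ i) u :=
        ((hp.out.coprime_iff_not_dvd).2 hpu).pow_left i
      rw [← hcop.gcd_eq_one]
      exact Nat.dvd_gcd (orderOf_dvd_of_pow_eq_one hi')
        (orderOf_dvd_of_pow_eq_one (hfix x (hTX hx) hc))
  haveI : Group.IsSolvable X := Cfsg.Agent.S0205.result hX
  haveI := CfsgLib.Solvable.fittingSubgroup_normal (G := X)
  have hcent : (S : Subgroup X) ≤ centralizer (Cfsg.fittingSubgroup X : Set X) := by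
    intro s hs
    rw [← zpowers_le]
    rw [Subgroup.le_centralizer_iff, CfsgLib.Solvable.fittingSubgroup_eq_iSup, iSup_le_iff]
    rintro ⟨ℓ, hℓ⟩ x hx
    haveI : Fact ℓ.Prime := ⟨hℓ⟩
    refine mem_centralizer_iff.2 ?_
    have hsx : Commute (s : Y) (x : Y) := by
      haveI := CfsgLib.Solvable.pCore_characteristic (G := X) ℓ
      set K := (Cfsg.pCore ℓ X).map X.subtype with hK
      haveI hKn : K.Normal := inferInstance
      have hKX : K ≤ X := map_subtype_le _
      have hKp : IsPGroup ℓ K := (CfsgLib.Solvable.isPGroup_pCore ℓ).map _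
      have hxK : (x : Y) ∈ K := ⟨x, hx, rfl⟩
      have hcx : (s : Y) * x * (s : Y)⁻¹ ∈ K := hKn.conj_mem _ hxK _
      have hsT : (s : Y) ∈ T := ⟨s, hs, rfl⟩
      have hsi := hinv _ hsT
      have hsodd : Odd (orderOf (s : Y)) :=
        hX.of_dvd_nat (X.orderOf_dvd_natCard s.2)
      refine commute_of_sq hsodd ?_
      have key : τ * ((s : Y) * x * (s : Y)⁻¹) * τ = (s : Y)⁻¹ * (τ * x * τ) * s := by
        calc τ * ((s : Y) * x * (s : Y)⁻¹) * τ
            = τ * s * (τ * τ) * x * (τ * τ) * (s : Y)⁻¹ * τ := by rw [hτ]; group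
          _ = τ * s * τ * (τ * x * τ) * (τ * s * τ)⁻¹ := by
              rw [mul_inv_rev, mul_inv_rev, hti]; group
          _ = (s : Y)⁻¹ * (τ * x * τ) * s := by rw [hsi, inv_inv]
      have hmul : (s : Y)⁻¹ * x * s = s * x * (s : Y)⁻¹ := by
        by_cases hℓu : ℓ ∣ u
        · have h1 := hell ℓ hℓ hℓu K hKX hKn hKp _ hxK
          have h2 := hell ℓ hℓ hℓu K hKX hKn hKp _ hcx
          have e1 : τ * x * τ = (x : Y) := by rw [← h1, mul_assoc, hτ, mul_one]
          have e2 : τ * ((s : Y) * x * (s : Y)⁻¹) * τ = s * x * (s : Y)⁻¹ := by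
            rw [← h2, mul_assoc, hτ, mul_one]
          rw [key, e1] at e2
          exact e2
        · have hKi : ∀ y ∈ K, τ * y * τ = y⁻¹ := fun y hy =>
            inverts_of_fixed_free hτ (hX.of_dvd_nat (card_dvd_of_le hKX))
              (fun z hz => by
                have := hKn.conj_mem z hz τ
                rwa [hti] at this)
              (fun z hz hc => by
                obtain ⟨i, hi⟩ := hKp ⟨z, hz⟩
                have hi' : z ^ ℓ ^ i = 1 := congrArg Subtype.val hi
                refine orderOf_eq_one_iff.1 (Nat.dvd_one.1 ?_)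
                have hcop : Nat.Coprime (ℓ ^ i) u :=
                  ((hℓ.coprime_iff_not_dvd).2 hℓu).pow_left i
                rw [← hcop.gcd_eq_one]
                exact Nat.dvd_gcd (orderOf_dvd_of_pow_eq_one hi')
                  (orderOf_dvd_of_pow_eq_one (hfix z (hKX hz) hc))) hy
          have e2 := hKi _ hcx
          rw [key, hKi _ hxK] at e2
          simpa [mul_assoc] using congrArg (·⁻¹) e2
      show (s : Y) * s * x = x * ((s : Y) * s)
      calc (s : Y) * s * x = s * (s * x * (s : Y)⁻¹) * s := by group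
        _ = s * ((s : Y)⁻¹ * x * s) * s := by rw [hmul]
        _ = x * ((s : Y) * s) := by group
    intro z hz
    obtain ⟨k, rfl⟩ := mem_zpowers_iff.1 hz
    exact Subtype.ext ((hsx.zpow_left k).eq)
  have hle : (S : Subgroup X) ≤ Cfsg.pCore p X := by
    have hF := hcent.trans CfsgLib.Solvable.centralizer_fittingSubgroup_le
    haveI := CfsgLib.Solvable.fittingSubgroup_isNilpotent (G := X)
    haveI := (S.subtype hF).characteristic_of_normal inferInstance
    have he : ((S.subtype hF : Sylow p (Cfsg.fittingSubgroup X)) :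
        Subgroup (Cfsg.fittingSubgroup X)).map (Cfsg.fittingSubgroup X).subtype = (S : Subgroup X) := by
      rw [Sylow.coe_subtype, subgroupOf_map_subtype, inf_of_le_left hF]
    haveI : (S : Subgroup X).Normal := he ▸ inferInstance
    exact CfsgLib.Solvable.le_pCore S.2
  haveI := CfsgLib.Solvable.pCore_characteristic (G := X) p
  have hbot := hO ((Cfsg.pCore p X).map X.subtype) (map_subtype_le _) inferInstance
    ((CfsgLib.Solvable.isPGroup_pCore p).map _)
  rw [(Cfsg.pCore p X).map_eq_bot_iff_of_injective X.subtype_injective] at hbot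
  rw [hbot, le_bot_iff] at hle
  exact S.ne_bot_of_dvd_card hdvd hle

end CfsgLib.WalterCons
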