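import Cfsg.Agent.WalterCons.ReeFalse
import Cfsg.Agent.Walter.Setting
import Cfsg.Agent.JankoThompson.Final
import Cfsg.Agent.S1644
import Cfsg.Agent.S0253
import Mathlib

/-!
# A Janko–Ree group with abelian Sylow subgroups is `J₁`
-/

set_option autoImplicit false
set_option linter.unusedSectionVars false
set_option linter.style.haveILetI false

namespace CfsgLib.WalterCons

open CfsgLib.ReeTypeS3

universe u

theorem two_dvd_card {G : Type u} [Group G] [Finite G] [IsSimpleGroup G]
    (hna : ¬ IsMulCommutative G) : 2 ∣ Nat.card G := by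
  rw [← even_iff_two_dvd, ← Nat.not_odd_iff_even]
  intro h
  exact hna ⟨⟨IsSimpleGroup.comm_iff_isSolvable.2 (Cfsg.Agent.S0205.result h)⟩⟩

theorem isoJ1_of_isJR {G : Type u} [Group G] [Finite G] [IsSimpleGroup G]
    (hna : ¬ IsMulCommutative G) (hA : AGroups.AbelianSylows G) (hJ : Walter.IsJR G) :
    Cfsg.Spor.IsoJ1 G := by
  haveI : Fact (Nat.Prime 2) := ⟨Nat.prime_two⟩
  obtain ⟨t, ht⟩ := exists_prime_orderOf_dvd_card' (G := G) 2 (two_dvd_card hna)
  obtain ⟨F, _, _, hmod, h5, ⟨e⟩⟩ := hJ.2 t ht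
  have hab : ∀ P : Sylow 2 G, ∀ a b : P, a * b = b * a := fun P a b =>
    (hA 2 P).is_comm.comm a b
  rcases JankoThompson.main hab (by omega) t ht e with ⟨m, hm, hq, hG⟩ | ⟨hq, hJ1⟩
  · exfalso
    obtain ⟨⟨l, n, hlm⟩, hcen⟩ := JankoThompson.psl_facts (F := F) (by omega)
    obtain ⟨E, -⟩ := JankoThompson.exists_emb hcen ht e
    obtain ⟨hperf, -⟩ := JankoThompson.perfect_of_noncomm (G := G) (l := E.ι l) (m := E.ι n)
      fun h => hlm (E.inj (by rw [map_mul, map_mul, h]))
    haveI := Fintype.ofFinite G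
    have hyp : AHyp E :=
      { jt :=
          { simple := inferInstance
            perf := hperf
            ab := hab
            mod8 := ⟨by omega, hmod⟩ }
        three := ⟨m, hm, hq⟩
        card := by rw [hG, hq]
        ab := hA }
    exact hyp.false
  · have h : Fintype.card F = 5 := by omega
    obtain ⟨e₀⟩ := Cfsg.Agent.S0253.result h
    obtain ⟨S⟩ : Nonempty (Sylow 2 G) := inferInstance
    refine Cfsg.Agent.S1644.result S (hA 2 S) ?_ t ht
      (e.trans (MulEquiv.prodCongr (MulEquiv.refl _) e₀))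
    exact Linear.card_sylow_of_card_eq 2 (k := 3) (r := 21945) (by rw [hJ1.2]; norm_num)
      (by norm_num) S

end CfsgLib.WalterCons
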