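import Cfsg.Agent.WalterCons.ReeTwoTransitive
import Cfsg.Agent.WalterCons.Consumers
import Mathlib

/-!
# Simple groups with abelian Sylow 2-subgroups and no doubly transitive action

The classification is the hypothesis `AbelianTwoThm`; the conclusion is S4272.
-/

set_option autoImplicit false
set_option linter.unusedSectionVars false
set_option linter.style.haveILetI false

namespace CfsgLib.WalterCons

open CfsgLib.ReeTypeS3 MulAction

universe u w

variable {G : Type u} [Group G] [Finite G] [IsSimpleGroup G]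

/-- A doubly transitive action on a finite type with at least two points gives one in `Type`. -/
theorem exists_small_action {X : Type w} [Finite X] [MulAction G X]
    (h2 : IsMultiplyPretransitive G X 2) (hX : Nontrivial X) :
    ∃ (n : ℕ) (_ : MulAction G (Fin n)), FaithfulSMul G (Fin n) ∧
      IsMultiplyPretransitive G (Fin n) 2 := by
  obtain ⟨n, ⟨e⟩⟩ := Finite.exists_equiv_fin X
  let f : G →* Equiv.Perm (Fin n) := e.permCongrHom.toMonoidHom.comp (MulAction.toPermHom G X)
  letI A : MulAction G (Fin n) := MulAction.compHom _ f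
  have hsmul : ∀ (g : G) (x : X), g • e x = e (g • x) := fun g x => by
    show f g (e x) = _
    simp [f, Equiv.permCongrHom_coe, Equiv.permCongr_apply]
  have h2' : IsMultiplyPretransitive G (Fin n) 2 := by
    rw [is_two_pretransitive_iff] at h2 ⊢
    intro a b c d hab hcd
    obtain ⟨g, hg1, hg2⟩ := h2 (a := e.symm a) (b := e.symm b) (c := e.symm c) (d := e.symm d)
      (fun h => hab (e.symm.injective h)) (fun h => hcd (e.symm.injective h))
    refine ⟨g, ?_, ?_⟩
    · rw [← e.apply_symm_apply a, hsmul, hg1, e.apply_symm_apply]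
    · rw [← e.apply_symm_apply b, hsmul, hg2, e.apply_symm_apply]
  refine ⟨n, A, ?_, h2'⟩
  rcases IsSimpleGroup.eq_bot_or_eq_top_of_normal f.ker inferInstance with h | h
  · exact ⟨fun hg => (f.ker_eq_bot_iff).1 h (Equiv.ext fun x => hg x)⟩
  · exfalso
    obtain ⟨a, b, hab⟩ := exists_pair_ne X
    obtain ⟨g, hg1, -⟩ := is_two_pretransitive_iff.1 h2 hab hab.symm
    have hg : f g = 1 := by
      rw [← MonoidHom.mem_ker, h]
      exact Subgroup.mem_top _
    have h1 : g • e a = e a := by
      show f g (e a) = _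
      rw [hg]
      rfl
    rw [hsmul, hg1] at h1
    exact hab (e.injective h1).symm

/-- Groups isomorphic to `PSL₂(q)` act doubly transitively. -/
theorem exists_psl_action {F : Type} [Field F] [Fintype F]
    (e : G ≃* Matrix.ProjectiveSpecialLinearGroup (Fin 2) F) :
    ∃ (n : ℕ) (_ : MulAction G (Fin n)), FaithfulSMul G (Fin n) ∧
      IsMultiplyPretransitive G (Fin n) 2 := by
  letI : MulAction G (Projectivization F (Fin 2 → F)) :=
    MulAction.compHom _ e.toMonoidHom
  haveI : Finite (Projectivization F (Fin 2 → F)) := Quotient.finite _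
  refine exists_small_action (X := Projectivization F (Fin 2 → F)) ?_ ?_
  · have h := (inferInstance : IsMultiplyPretransitive (Matrix.SpecialLinearGroup (Fin 2) F)
      (Projectivization F (Fin 2 → F)) 2)
    rw [is_two_pretransitive_iff] at h ⊢
    intro a b c d hab hcd
    obtain ⟨g, hg1, hg2⟩ := h hab hcd
    refine ⟨e.symm (g : Matrix.ProjectiveSpecialLinearGroup (Fin 2) F), ?_, ?_⟩
    · show e (e.symm (g : Matrix.ProjectiveSpecialLinearGroup (Fin 2) F)) • a = c
      rw [e.apply_symm_apply]; exact hg1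
    · show e (e.symm (g : Matrix.ProjectiveSpecialLinearGroup (Fin 2) F)) • b = d
      rw [e.apply_symm_apply]; exact hg2
  · refine ⟨⟨Projectivization.mk F ![1, 0] (fun h => one_ne_zero (congrFun h 0)),
      Projectivization.mk F ![0, 1] (fun h => one_ne_zero (congrFun h 1)), fun h => ?_⟩⟩
    obtain ⟨a, ha⟩ := (Projectivization.mk_eq_mk_iff' _ _ _ _ _).1 h
    exact one_ne_zero (α := F) (by simpa using (congrFun ha 0).symm)

/-- S4272, given the classification. -/
theorem card_eq_of_no_two_transitive (hW : AbelianTwoThm.{u}) (hna : ¬ IsMulCommutative G)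
    (P : Sylow 2 G) (hP : IsMulCommutative (P : Subgroup G))
    (hno : ∀ (Ω : Type) [Fintype Ω] [MulAction G Ω] [FaithfulSMul G Ω],
      ¬ MulAction.IsMultiplyPretransitive G Ω 2) : Nat.card G = 175560 := by
  haveI : Fact (Nat.Prime 2) := ⟨Nat.prime_two⟩
  have hpsl : ∀ (F : Type) [Field F] [Fintype F],
      (G ≃* Matrix.ProjectiveSpecialLinearGroup (Fin 2) F) → False := by
    intro F _ _ e
    obtain ⟨n, A, hf, h2⟩ := exists_psl_action e
    exact @hno (Fin n) _ A hf h2
  rcases hW G inferInstance hna P hP with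
    ⟨a, -, F, iF, fF, -, ⟨e⟩⟩ | ⟨F, iF, fF, -, ⟨e⟩⟩ | hJ
  · exact (hpsl F e).elim
  · exact (hpsl F e).elim
  obtain ⟨t, ht⟩ := exists_prime_orderOf_dvd_card' (G := G) 2 (two_dvd_card hna)
  obtain ⟨F, _, _, hmod, h5, ⟨e⟩⟩ := hJ.2 t ht
  have hab : ∀ Q : Sylow 2 G, ∀ a b : Q, a * b = b * a := by
    intro Q a b
    obtain ⟨g, hg⟩ := MulAction.exists_smul_eq G Q P
    let f := Sylow.equiv Q P
    exact f.injective (by rw [map_mul, map_mul]; exact hP.is_comm.comm _ _)
  rcases JankoThompson.main hab (by omega) t ht e with ⟨m, hm, hq, hG⟩ | ⟨-, hJ1⟩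
  swap
  · exact hJ1.2
  exfalso
  haveI := Fintype.ofFinite G
  obtain ⟨⟨l, n, hlm⟩, hcen⟩ := JankoThompson.psl_facts (F := F) (by omega)
  obtain ⟨E, -⟩ := JankoThompson.exists_emb hcen ht e
  obtain ⟨hperf, -⟩ := JankoThompson.perfect_of_noncomm (G := G) (l := E.ι l) (m := E.ι n)
    fun h => hlm (E.inj (by rw [map_mul, map_mul, h]))
  have hyp : RHyp E :=
    { jt :=
        { simple := inferInstance
          perf := hperf
          ab := hab
          mod8 := ⟨by omega, hmod⟩ }
      three := ⟨m, hm, hq⟩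
      card := by rw [hG, hq] }
  obtain ⟨H, hH, h2⟩ := hyp.exists_two_pretransitive
  have hX : Nontrivial (G ⧸ H) := by
    rw [← Finite.one_lt_card_iff_nontrivial, ← Subgroup.index_eq_card, hH]
    have : 1 ≤ Fintype.card F ^ 3 := Nat.one_le_pow _ _ (by omega)
    omega
  obtain ⟨k, A, hf, h2'⟩ := exists_small_action h2 hX
  exact @hno (Fin k) _ A hf h2'

end CfsgLib.WalterCons
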