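import Cfsg.Agent.ReeTypeS3.PSLFacts
import Cfsg.Agent.LocalEven50.SL2Natural
import Mathlib

/-!
# The Borel subgroup of `PSL₂(q)`, `q ≡ 3 (mod 4)`
-/

set_option autoImplicit false
set_option linter.unusedSectionVars false
set_option linter.style.haveILetI false

namespace CfsgLib.WalterCons

open Matrix CfsgLib.ReeTypeS3
open scoped MatrixGroups

variable {F : Type*} [Field F]

local notation "PST" => Matrix.ProjectiveSpecialLinearGroup (Fin 2) F
local notation "pr" => SL2Trace.proj (F := F)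

/-- `a ↦` the image of `(a 0; 0 a⁻¹)`. -/
noncomputable def dQ : Fˣ →* PST :=
  (QuotientGroup.mk' _).comp LocalEven50.diagHom

theorem dQ_apply (a : Fˣ) : dQ a = pr (LocalEven50.diagHom a) := rfl

/-- The image of the split torus. -/
noncomputable def subD : Subgroup PST := (dQ (F := F)).range

theorem dQ_conj_uQ (a : Fˣ) (x : F) :
    dQ a * uQ (.ofAdd x) * (dQ a)⁻¹ = uQ (.ofAdd (a * a * x)) := by
  rw [mul_inv_eq_iff_eq_mul, dQ_apply, uQ_apply, uQ_apply, ← pr_mul, ← pr_mul,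
    LocalEven50.diag_mul_upper]

theorem dQ_eq_one_iff (a : Fˣ) : dQ a = 1 ↔ a = 1 ∨ a = -1 := by
  rw [dQ_apply, SL2Trace.proj_eq_one_iff]
  constructor
  · rintro (h | h)
    · exact Or.inl (Units.ext (congrArg (fun g : SL(2, F) => (g : Matrix (Fin 2) (Fin 2) F) 0 0) h))
    · refine Or.inr (Units.ext ?_)
      have := congrArg (fun g : SL(2, F) => (g : Matrix (Fin 2) (Fin 2) F) 0 0) h
      exact this.trans (by simp [Matrix.SpecialLinearGroup.coe_neg])
  · rintro (rfl | rfl)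
    · exact Or.inl (map_one _)
    · refine Or.inr (Subtype.ext ?_)
      show !![((-1 : Fˣ) : F), 0; 0, (((-1 : Fˣ)⁻¹ : Fˣ) : F)] = _
      ext i j
      fin_cases i <;> fin_cases j <;> simp

theorem inB_uQ (x : Multiplicative F) : InB (uQ x) :=
  ⟨LocalEven50.upperHom F x, rfl, rfl⟩

theorem inB_dQ (a : Fˣ) : InB (dQ a) := ⟨LocalEven50.diagHom a, rfl, rfl⟩

theorem inB_decomp {l : PST} (h : InB l) : ∃ (a : Fˣ) (x : F), l = dQ a * uQ (.ofAdd x) := by
  obtain ⟨g, rfl, hc⟩ := h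
  have hd := SL2Trace.det_eq_one g
  rw [hc, mul_zero, sub_zero] at hd
  refine ⟨Units.mk0 _ (left_ne_zero_of_mul_eq_one hd), ((g : Matrix (Fin 2) (Fin 2) F) 0 1) *
    ((g : Matrix (Fin 2) (Fin 2) F) 1 1), ?_⟩
  rw [dQ_apply, uQ_apply, ← pr_mul]
  congr 1
  apply Subtype.ext
  rw [Matrix.SpecialLinearGroup.coe_mul, coe_upper]
  set A := (g : Matrix (Fin 2) (Fin 2) F) 0 0 with hA
  show _ = !![A, 0; 0, (((Units.mk0 A _)⁻¹ : Fˣ) : F)] * _
  have hA0 : A ≠ 0 := left_ne_zero_of_mul_eq_one hd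
  ext i j
  fin_cases i <;> fin_cases j <;> simp [Matrix.mul_apply, Fin.sum_univ_two, hc]
  · rfl
  · linear_combination -((g : Matrix (Fin 2) (Fin 2) F) 0 1) * hd
  · field_simp
    linear_combination hd

theorem natCard_subD [Fintype F] (h2 : (2 : F) ≠ 0) :
    2 * Nat.card (subD (F := F)) = Fintype.card F - 1 := by
  classical
  have hker : Nat.card (dQ (F := F)).ker = 2 := by
    have hne : (-1 : Fˣ) ≠ 1 := fun h => h2 (by
      have := congrArg Units.val h
      simp only [Units.val_neg, Units.val_one] at this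
      linear_combination -this)
    rw [Nat.card_eq_two_iff' (1 : (dQ (F := F)).ker)]
    refine ⟨⟨-1, (dQ_eq_one_iff _).2 (Or.inr rfl)⟩, fun h => hne (congrArg Subtype.val h),
      fun y hy => ?_⟩
    rcases (dQ_eq_one_iff y.1).1 y.2 with h | h
    · exact absurd (Subtype.ext h) hy
    · exact Subtype.ext h
  have h := (dQ (F := F)).ker.card_mul_index
  rw [Subgroup.index_ker, hker, Nat.card_units, Nat.card_eq_fintype_card (α := F)] at h
  exact h

theorem subD_comm {a b : PST} (ha : a ∈ subD (F := F)) (hb : b ∈ subD (F := F)) :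
    a * b = b * a := by
  obtain ⟨x, rfl⟩ := ha
  obtain ⟨y, rfl⟩ := hb
  rw [← map_mul, ← map_mul, mul_comm]

/-- The image of `(0 -1; 1 0)`. -/
noncomputable def wQ : PST := pr LocalEven50.rotSL

theorem wQ_not_inB : ¬ InB (wQ (F := F)) := by
  rintro ⟨g, hg, hc⟩
  rcases (pr_eq_iff _ _).1 hg with h | h
  · have := congrArg (fun g : SL(2, F) => (g : Matrix (Fin 2) (Fin 2) F) 1 0) h
    simp [LocalEven50.rotSL, hc] at this
  · have := congrArg (fun g : SL(2, F) => (g : Matrix (Fin 2) (Fin 2) F) 1 0) h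
    simp [LocalEven50.rotSL, Matrix.SpecialLinearGroup.coe_neg, hc] at this

theorem wQ_conj_dQ (a : Fˣ) : wQ * dQ a * wQ⁻¹ = (dQ a)⁻¹ := by
  rw [← map_inv, dQ_apply, dQ_apply, wQ, mul_inv_eq_iff_eq_mul, ← pr_mul, ← pr_mul]
  congr 1
  apply Subtype.ext
  show !![0, -1; 1, 0] * !![(a : F), 0; 0, ((a⁻¹ : Fˣ) : F)] =
    !![((a⁻¹ : Fˣ) : F), 0; 0, (((a⁻¹ : Fˣ)⁻¹ : Fˣ) : F)] * !![0, -1; 1, 0]
  ext i j
  fin_cases i <;> fin_cases j <;> simp [Matrix.mul_apply, Fin.sum_univ_two]

/-- A torus element fixing a unipotent one is trivial. -/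
theorem dQ_fix {a : Fˣ} {y : PST} (hy : y ∈ subQ (F := F)) (hy1 : y ≠ 1)
    (h : dQ a * y * (dQ a)⁻¹ = y) : dQ a = 1 := by
  obtain ⟨b, rfl⟩ := hy
  obtain ⟨x, rfl⟩ := Multiplicative.ofAdd.surjective b
  have hx : x ≠ 0 := fun h0 => hy1 (by rw [h0]; exact map_one uQ)
  rw [dQ_conj_uQ] at h
  have h' : (a : F) * a * x = x := congrArg Multiplicative.toAdd (uQ_injective h)
  rw [dQ_eq_one_iff]
  rcases mul_self_eq_one_iff.1 (mul_right_cancel₀ hx (h'.trans (one_mul x).symm)) with e | e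
  · exact Or.inl (Units.ext e)
  · exact Or.inr (Units.ext (by simpa using e))

/-- The centraliser of a nontrivial unipotent element. -/
theorem mem_subQ_of_fix (h2 : (2 : F) ≠ 0) {l y : PST} (hy : y ∈ subQ (F := F)) (hy1 : y ≠ 1)
    (h : l * y = y * l) : l ∈ subQ (F := F) := by
  have hc : l * y * l⁻¹ = y := by rw [h, mul_inv_cancel_right]
  obtain ⟨a, x, rfl⟩ := inB_decomp (inB_of_conj h2 hy hy1 (by rw [hc]; exact hy))
  have hu : uQ (.ofAdd x) ∈ subQ (F := F) := ⟨_, rfl⟩
  have hfix : dQ a * y * (dQ a)⁻¹ = y := by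
    have hxy : uQ (.ofAdd x) * y * (uQ (.ofAdd x))⁻¹ = y := by
      obtain ⟨b, rfl⟩ := hy
      rw [← map_mul, mul_comm (Multiplicative.ofAdd x) b, map_mul, mul_inv_cancel_right]
    calc dQ a * y * (dQ a)⁻¹
        = dQ a * (uQ (.ofAdd x) * y * (uQ (.ofAdd x))⁻¹) * (dQ a)⁻¹ := by rw [hxy]
      _ = dQ a * uQ (.ofAdd x) * y * (dQ a * uQ (.ofAdd x))⁻¹ := by group
      _ = y := hc
  rw [dQ_fix hy hy1 hfix, one_mul]
  exact hu

theorem normalizes_subQ {l : PST} (h : InB l) {y : PST} (hy : y ∈ subQ (F := F)) :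
    l * y * l⁻¹ ∈ subQ (F := F) := by
  obtain ⟨a, -, ha⟩ := inB_conj h
  obtain ⟨b, rfl⟩ := hy
  obtain ⟨x, rfl⟩ := Multiplicative.ofAdd.surjective b
  rw [ha]
  exact ⟨_, rfl⟩

end CfsgLib.WalterCons

namespace CfsgLib.WalterCons

open Matrix CfsgLib.ReeTypeS3
open scoped MatrixGroups

variable {F : Type*} [Field F]

local notation "PST" => Matrix.ProjectiveSpecialLinearGroup (Fin 2) F

/-- When `-1` is no square, a nontrivial split torus element has centraliser the split torus. -/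
theorem mem_subD_of_fix (hm : ∀ x : F, x * x ≠ -1) {l : PST} {a : Fˣ} (ha : dQ a ≠ 1)
    (h : l * dQ a = dQ a * l) : l ∈ subD (F := F) := by
  obtain ⟨g, rfl⟩ := SL2Trace.proj_surjective l
  rw [dQ_apply, ← pr_mul, ← pr_mul, pr_eq_iff] at h
  obtain ⟨A, B, C, D, hg⟩ : ∃ A B C D : F, (g : Matrix (Fin 2) (Fin 2) F) = !![A, B; C, D] :=
    ⟨_, _, _, _, Matrix.eta_fin_two _⟩
  have hd := SL2Trace.det_eq_one g
  simp only [hg, Matrix.of_apply, Matrix.cons_val', Matrix.cons_val_zero, Matrix.cons_val_one,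
    Matrix.empty_val', Matrix.cons_val_fin_one] at hd
  have ha0 : (a : F) ≠ 0 := a.ne_zero
  have hne : (a : F) ≠ 1 ∧ (a : F) ≠ -1 := by
    constructor <;> intro e <;> refine ha ((dQ_eq_one_iff a).2 ?_)
    · exact Or.inl (Units.ext e)
    · exact Or.inr (Units.ext (by simpa using e))
  have hdiag : (LocalEven50.diagHom a : SL(2, F)).1 = !![(a : F), 0; 0, ((a⁻¹ : Fˣ) : F)] := rfl
  rcases h with h | h <;>
    have e := congrArg (fun g : SL(2, F) => (g : Matrix (Fin 2) (Fin 2) F)) h <;>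
    simp only [Matrix.SpecialLinearGroup.coe_mul, Matrix.SpecialLinearGroup.coe_neg, hdiag, hg] at e
  all_goals
    have e00 := congrFun (congrFun e 0) 0
    have e01 := congrFun (congrFun e 0) 1
    have e10 := congrFun (congrFun e 1) 0
    simp [Matrix.mul_apply, Fin.sum_univ_two] at e00 e01 e10
  · have hsq : (a : F) * a - 1 ≠ 0 := fun e => by
      rcases mul_self_eq_one_iff.1 (sub_eq_zero.1 e) with e | e
      · exact hne.1 e
      · exact hne.2 e
    have hB : B = 0 := by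
      rcases eq_or_ne B 0 with h' | h'
      · exact h'
      · exfalso; apply hsq; apply mul_right_cancel₀ h'
        field_simp at e01
        grind
    have hC : C = 0 := by
      rcases eq_or_ne C 0 with h' | h'
      · exact h'
      · exfalso; apply hsq; apply mul_right_cancel₀ h'
        field_simp at e10
        grind
    rw [hB, zero_mul, sub_zero] at hd
    have hA : A ≠ 0 := left_ne_zero_of_mul_eq_one hd
    refine ⟨Units.mk0 A hA, ?_⟩
    rw [dQ_apply]
    congr 1
    apply Subtype.ext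
    show !![A, 0; 0, (((Units.mk0 A hA)⁻¹ : Fˣ) : F)] = (g : Matrix (Fin 2) (Fin 2) F)
    rw [hg, hB, hC]
    ext i j
    fin_cases i <;> fin_cases j <;> simp
    exact (eq_inv_of_mul_eq_one_right hd).symm
  · exfalso
    have h2 : (2 : F) ≠ 0 := fun e => hm 1 (by linear_combination e)
    have hA : A = 0 := by
      rcases eq_or_ne A 0 with h' | h'
      · exact h'
      · exfalso; apply h2; apply mul_right_cancel₀ (mul_ne_zero ha0 h')
        linear_combination e00
    rcases eq_or_ne B 0 with h' | h'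
    · rw [hA, h'] at hd
      simp at hd
    · refine hm (a : F) ?_
      apply mul_right_cancel₀ h'
      field_simp at e01
      grind

end CfsgLib.WalterCons
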