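import Cfsg.Agent.Characters.Orthogonality
import Cfsg.Agent.Characters.RepBasic
import Cfsg.Agent.Characters.Linear
import Mathlib

/-!
# A constituent of degree `|G : H| - 1` of the permutation character gives double transitivity
-/

set_option autoImplicit false
set_option linter.unusedSectionVars false
set_option linter.style.haveILetI false

namespace CfsgLib.WalterCons

open MulAction
open scoped ComplexConjugate

universe u

variable {G : Type u} [Group G] [Fintype G] (H : Subgroup G) [Fintype H]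

/-- Multiplicities in the permutation character on `G ⧸ H`. -/
theorem exists_mult : ∃ m : Cfsg.IrrCharacter G → ℕ, ∀ χ : Cfsg.IrrCharacter G,
    ∑ k : H, (χ : G → ℂ) k = (Nat.card H : ℂ) * (m χ : ℂ) := by
  classical
  have h : ∀ χ : Cfsg.IrrCharacter G, ∃ m : ℕ,
      ∑ k : H, (χ : G → ℂ) k = (Nat.card H : ℂ) * (m : ℂ) := by
    intro χ
    obtain ⟨m, hm⟩ := Characters.classInner_character_irr
      (Characters.isCharacter_restrict H (Characters.isCharacter_of_isIrr χ.2))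
      (Characters.isIrr_one (G := H))
    refine ⟨m, ?_⟩
    rw [← hm, Cfsg.classInner, ← mul_assoc,
      mul_inv_cancel₀ (Nat.cast_ne_zero.2 Nat.card_pos.ne'), one_mul]
    exact Finset.sum_congr rfl fun k _ => by simp
  choose m hm using h
  exact ⟨m, hm⟩

/-- The elements conjugating `g` into `H` and the fixed cosets. -/
theorem natCard_conj_mem (g : G) :
    Nat.card {x : G // x * g * x⁻¹ ∈ H} =
      Nat.card H * Nat.card (fixedBy (G ⧸ H) g) := by
  have hiff : ∀ x : G, x * g * x⁻¹ ∈ H ↔ g • ((x⁻¹ : G) : G ⧸ H) = ((x⁻¹ : G) : G ⧸ H) := by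
    intro x
    rw [MulAction.Quotient.smul_mk, smul_eq_mul, eq_comm, QuotientGroup.eq, inv_inv, mul_assoc]
  rw [← QuotientGroup.card_preimage_mk]
  exact Nat.card_congr ((Equiv.inv G).subtypeEquiv hiff)

/-- The expansion of the permutation character. -/
theorem card_fixedBy_eq (m : Cfsg.IrrCharacter G → ℕ)
    (hm : ∀ χ : Cfsg.IrrCharacter G, ∑ k : H, (χ : G → ℂ) k = (Nat.card H : ℂ) * (m χ : ℂ))
    (g : G) : (Nat.card (fixedBy (G ⧸ H) g) : ℂ) =
      ∑ χ : Cfsg.IrrCharacter G, (m χ : ℂ) * (χ : G → ℂ) g := by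
  classical
  refine mul_left_cancel₀ (Nat.cast_ne_zero.2 (Nat.card_pos (α := H)).ne') ?_
  rw [← Nat.cast_mul, ← natCard_conj_mem, Finset.mul_sum]
  calc (Nat.card {x : G // x * g * x⁻¹ ∈ H} : ℂ)
      = ∑ k : H, (Nat.card {x : G // x * g * x⁻¹ = k} : ℂ) := by
        rw [← Nat.cast_sum]
        congr 1
        rw [← Nat.card_sigma]
        exact Nat.card_congr
          { toFun := fun x => ⟨⟨_, x.2⟩, x.1, rfl⟩
            invFun := fun p => ⟨p.2.1, by rw [p.2.2]; exact p.1.2⟩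
            left_inv := fun x => rfl
            right_inv := by
              rintro ⟨⟨k, hk⟩, x, hx⟩
              change x * g * x⁻¹ = k at hx
              subst hx
              rfl }
    _ = ∑ k : H, ∑ χ : Cfsg.IrrCharacter G, (χ : G → ℂ) g * conj ((χ : G → ℂ) k) := by
        simp only [Characters.sum_irr_mul_conj]
    _ = _ := by
        rw [Finset.sum_comm]
        refine Finset.sum_congr rfl fun χ _ => ?_
        rw [← Finset.mul_sum, ← map_sum, hm χ, map_mul, Complex.conj_natCast, Complex.conj_natCast]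
        ring

variable {H}

/-- A constituent of degree `|G : H| - 1` other than the trivial character gives double
transitivity. -/
theorem two_pretransitive_of_constituent {χ₀ χ₁ : Cfsg.IrrCharacter G}
    (h₀ : ∀ g, (χ₀ : G → ℂ) g = 1) (hne : χ₁ ≠ χ₀)
    (hdeg : (χ₁ : G → ℂ) 1 + 1 = (H.index : ℂ))
    (hsum : ∑ k : H, (χ₁ : G → ℂ) k ≠ 0) :
    IsMultiplyPretransitive G (G ⧸ H) 2 := by
  classical
  obtain ⟨m, hm⟩ := exists_mult H
  have hm₀ : m χ₀ = 1 := by
    have h := hm χ₀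
    simp only [h₀, Finset.sum_const, Finset.card_univ, nsmul_eq_mul, mul_one,
      ← Nat.card_eq_fintype_card] at h
    have h' : (Nat.card H : ℂ) * (m χ₀ : ℂ) = (Nat.card H : ℂ) * 1 := by rw [← h, mul_one]
    exact_mod_cast mul_left_cancel₀ (Nat.cast_ne_zero.2 (Nat.card_pos (α := H)).ne') h'
  have hm₁ : 1 ≤ m χ₁ := by
    by_contra h
    exact hsum (by rw [hm χ₁, show m χ₁ = 0 by omega, Nat.cast_zero, mul_zero])
  have hd : ∀ χ : Cfsg.IrrCharacter G, ∃ n : ℕ, 0 < n ∧ (χ : G → ℂ) 1 = n :=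
    fun χ => Characters.exists_degree_pos χ.2
  choose d hdpos hdeq using hd
  have hidx : H.index = ∑ χ : Cfsg.IrrCharacter G, m χ * d χ := by
    have h := card_fixedBy_eq H m hm 1
    rw [fixedBy_one_eq_univ, Nat.card_coe_set_eq, Set.ncard_univ, ← Subgroup.index_eq_card] at h
    simp only [hdeq, ← Nat.cast_mul, ← Nat.cast_sum] at h
    exact_mod_cast h
  have hd₁ : d χ₁ + 1 = H.index := by
    rw [hdeq] at hdeg
    exact_mod_cast hdeg
  have hd₀ : d χ₀ = 1 := by
    have h := h₀ 1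
    rw [hdeq] at h
    exact_mod_cast h
  have hsplit : ∑ χ : Cfsg.IrrCharacter G, m χ * d χ =
      m χ₀ * d χ₀ + (m χ₁ * d χ₁ + ∑ χ ∈ (Finset.univ.erase χ₀).erase χ₁, m χ * d χ) := by
    rw [← Finset.add_sum_erase _ _ (Finset.mem_univ χ₀),
      ← Finset.add_sum_erase _ _ (Finset.mem_erase.2 ⟨hne, Finset.mem_univ χ₁⟩)]
  rw [← hidx, hm₀, hd₀] at hsplit
  have hm₁' : m χ₁ = 1 := by
    rcases Nat.lt_or_ge (m χ₁) 2 with h | h
    · omega
    · have := Nat.mul_le_mul_right (d χ₁) h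
      have := hdpos χ₁
      omega
  have hrest : ∀ χ, χ ≠ χ₀ → χ ≠ χ₁ → m χ = 0 := by
    intro χ h1 h2
    have hz : ∑ χ ∈ (Finset.univ.erase χ₀).erase χ₁, m χ * d χ = 0 := by
      rw [hm₁'] at hsplit; omega
    exact (Nat.mul_eq_zero.1 (Finset.sum_eq_zero_iff.1 hz χ (Finset.mem_erase.2
      ⟨h2, Finset.mem_erase.2 ⟨h1, Finset.mem_univ _⟩⟩))).resolve_right (hdpos χ).ne'
  -- the number of orbits of `H`
  have hfix : ∀ g : G, (Nat.card (fixedBy (G ⧸ H) g) : ℂ) = 1 + (χ₁ : G → ℂ) g := by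
    intro g
    rw [card_fixedBy_eq H m hm g, ← Finset.add_sum_erase _ _ (Finset.mem_univ χ₀),
      ← Finset.add_sum_erase _ _ (Finset.mem_erase.2 ⟨hne, Finset.mem_univ χ₁⟩),
      Finset.sum_eq_zero fun χ hχ => by
        rw [hrest χ (Finset.mem_erase.1 (Finset.mem_erase.1 hχ).2).1 (Finset.mem_erase.1 hχ).1,
          Nat.cast_zero, zero_mul],
      hm₀, hm₁', h₀, Nat.cast_one, mul_one, one_mul, add_zero]
  have horb : Nat.card (orbitRel.Quotient H (G ⧸ H)) = 2 := by
    have hb := sum_card_fixedBy_eq_card_orbits_mul_card_group H (G ⧸ H)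
    simp only [Fintype.card_eq_nat_card] at hb
    have hs : ∑ k : H, (Nat.card (fixedBy (G ⧸ H) k) : ℂ) = 2 * (Nat.card H : ℂ) := by
      rw [Finset.sum_congr rfl (g := fun k : H => 1 + (χ₁ : G → ℂ) k) fun k _ => ?_,
        Finset.sum_add_distrib, hm χ₁, hm₁', Finset.sum_const, Finset.card_univ, nsmul_eq_mul,
        Nat.card_eq_fintype_card, Nat.cast_one]
      · ring
      · rw [← hfix]
        rfl
    have hs' : ∑ k : H, Nat.card (fixedBy (G ⧸ H) k) = 2 * Nat.card H := by exact_mod_cast hs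
    rw [hs'] at hb
    exact (Nat.eq_of_mul_eq_mul_right Nat.card_pos hb).symm
  have hbase : ∀ k : H, k • ((1 : G) : G ⧸ H) = ((1 : G) : G ⧸ H) := fun k => by
    show (k : G) • ((1 : G) : G ⧸ H) = _
    rw [MulAction.Quotient.smul_mk, smul_eq_mul, mul_one, QuotientGroup.eq, mul_one]
    exact inv_mem k.2
  have htrans : ∀ y z : G ⧸ H, y ≠ ((1 : G) : G ⧸ H) → z ≠ ((1 : G) : G ⧸ H) →
      ∃ k : H, k • y = z := by
    intro y z hy hz
    have hne' : ∀ w : G ⧸ H, w ≠ ((1 : G) : G ⧸ H) →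
        (Quotient.mk'' w : orbitRel.Quotient H (G ⧸ H)) ≠ Quotient.mk'' ((1 : G) : G ⧸ H) := by
      intro w hw e
      obtain ⟨k, hk⟩ := Quotient.exact e
      exact hw (hk.symm.trans (hbase k))
    obtain ⟨o, -, ho⟩ := (Nat.card_eq_two_iff' (Quotient.mk'' ((1 : G) : G ⧸ H) :
      orbitRel.Quotient H (G ⧸ H))).1 horb
    have e : (Quotient.mk'' z : orbitRel.Quotient H (G ⧸ H)) = Quotient.mk'' y :=
      (ho _ (hne' z hz)).trans (ho _ (hne' y hy)).symm
    exact Quotient.exact e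
  rw [is_two_pretransitive_iff]
  intro a b c d hab hcd
  obtain ⟨g, hg⟩ := exists_smul_eq G a ((1 : G) : G ⧸ H)
  obtain ⟨g', hg'⟩ := exists_smul_eq G c ((1 : G) : G ⧸ H)
  obtain ⟨k, hk⟩ := htrans (g • b) (g' • d)
    (fun e => hab (MulAction.injective g (hg.trans e.symm)))
    (fun e => hcd (MulAction.injective g' (hg'.trans e.symm)))
  refine ⟨g'⁻¹ * (k : G) * g, ?_, ?_⟩
  · rw [mul_smul, mul_smul, hg, inv_smul_eq_iff, hg']
    exact hbase k
  · rw [mul_smul, mul_smul, inv_smul_eq_iff]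
    exact hk

end CfsgLib.WalterCons
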