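import Cfsg.Agent.ReeTypeS3.PSLFacts
import Cfsg.Agent.GroupBasics.PiClosed
import Mathlib

/-!
# `PSL₂(q)` is not homogeneous for sets of odd primes dividing its order

For a prime `r` not the characteristic some involution-like element inverts an element of
order `r`; in the characteristic the torus acts on the unipotent subgroup.
-/

set_option autoImplicit false
set_option linter.unusedSectionVars false
set_option linter.style.haveILetI false

namespace CfsgLib.WalterCons

open Matrix CfsgLib.GroupBasics CfsgLib.ReeTypeS3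
open scoped MatrixGroups

universe u v

theorem piHomog_of_injective {π : Set ℕ} {G : Type u} {H : Type v} [Group G] [Group H]
    (h : PiHomog π G) (f : H →* G) (hf : Function.Injective f) : PiHomog π H := by
  intro K hK a ha hap
  have hcard : Nat.card (K.map f) = Nat.card K := Subgroup.card_map_of_injective hf
  have hc := Subgroup.mem_centralizer_iff.1 (h (K.map f) (hcard ▸ hK) (f a)
    (Subgroup.le_normalizer_map f ⟨a, ha, rfl⟩) (by rwa [orderOf_injective f hf]))
  exact Subgroup.mem_centralizer_iff.2 fun s hs => hf (by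
    rw [map_mul, map_mul]; exact hc (f s) ⟨s, hs, rfl⟩)

/-- A `π`-element of a homogeneous group is not inverted, for odd primes. -/
theorem false_of_inverted {π : Set ℕ} (hodd : 2 ∉ π) {G : Type u} [Group G] [Finite G]
    (hG : PiHomog πᶜ G) {r : ℕ} (hr : r.Prime) (hrπ : r ∈ π) {x : G} (hx : orderOf x = r)
    {t : G} (ht : t * t = 1) (htx : t * x * t⁻¹ = x⁻¹) : False := by
  have hn : t ∈ Subgroup.normalizer ((Subgroup.zpowers x : Subgroup G) : Set G) := by
    have h : (Subgroup.zpowers x).map (MulAut.conj t).toMonoidHom = Subgroup.zpowers x := by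
      rw [MonoidHom.map_zpowers]
      simp [htx]
    rw [Subgroup.mem_normalizer_iff]
    intro y
    conv_rhs => rw [← h]
    rw [Subgroup.mem_map_equiv]
    simp [mul_assoc]
  have hto : PiNum πᶜ (orderOf t) := by
    intro p hp hd
    have h2 : orderOf t ∣ 2 := orderOf_dvd_of_pow_eq_one (by rw [pow_two]; exact ht)
    rw [(Nat.prime_dvd_prime_iff_eq hp Nat.prime_two).1 (hd.trans h2)]
    exact hodd
  have hc := Subgroup.mem_centralizer_iff.1 (hG (Subgroup.zpowers x) (fun p hp hd hpc => by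
    rw [Nat.card_zpowers, hx] at hd
    exact hpc ((Nat.prime_dvd_prime_iff_eq hp hr).1 hd ▸ hrπ)) t hn hto) x
      (Subgroup.mem_zpowers x)
  rw [← hc, mul_inv_cancel_right, eq_inv_iff_mul_eq_one] at htx
  have h2 : r ∣ 2 := hx ▸ orderOf_dvd_of_pow_eq_one (by rw [pow_two]; exact htx)
  exact hodd ((Nat.prime_dvd_prime_iff_eq hr Nat.prime_two).1 h2 ▸ hrπ)

variable {F : Type v} [Field F] [Fintype F]

local notation "PST" => Matrix.ProjectiveSpecialLinearGroup (Fin 2) F
local notation "pr" => SL2Trace.proj (F := F)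

/-- A traceless `s` of determinant one with `tr (s g) = 0` inverts `g`. -/
theorem conj_eq_inv {g s : SL(2, F)} (h0 : s 1 1 = -s 0 0)
    (h1 : s 0 0 * (g 0 0 - g 1 1) + s 0 1 * g 1 0 + s 1 0 * g 0 1 = 0) :
    pr s * pr s = 1 ∧ pr s * pr g * (pr s)⁻¹ = (pr g)⁻¹ := by
  have hd := SL2Trace.det_eq_one s
  have hss : s * s = -1 := by
    ext i j
    fin_cases i <;> fin_cases j <;>
      simp [Matrix.mul_apply, Fin.sum_univ_two, h0] <;>
      first
        | ring1
        | (rw [h0] at hd; linear_combination -hd)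
  have hsg : s * g = g⁻¹ * s := by
    ext i j
    fin_cases i <;> fin_cases j <;>
      simp [Matrix.mul_apply, Fin.sum_univ_two, Matrix.adjugate_fin_two, h0] <;>
      first
        | ring1
        | linear_combination h1
  refine ⟨?_, ?_⟩
  · rw [← pr_mul, hss]
    exact (SL2Trace.proj_eq_one_iff _).2 (Or.inr rfl)
  · rw [mul_inv_eq_iff_eq_mul, ← pr_mul, hsg, pr_mul, pr_inv]

/-- Elements with trace other than `±2` are inverted. -/
theorem exists_inverting_of_trace (g : SL(2, F)) (hD : (g 0 0 + g 1 1) ^ 2 - 4 ≠ 0) :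
    ∃ s : PST, s * s = 1 ∧ s * pr g * s⁻¹ = (pr g)⁻¹ := by
  have hd := SL2Trace.det_eq_one g
  suffices ∃ a b c : F, -a ^ 2 - b * c = 1 ∧ a * (g 0 0 - g 1 1) + b * g 1 0 + c * g 0 1 = 0 by
    obtain ⟨a, b, c, h1, h2⟩ := this
    let s : SL(2, F) := ⟨!![a, b; c, -a], by rw [Matrix.det_fin_two_of, ← h1]; ring⟩
    exact ⟨pr s, conj_eq_inv (g := g) (s := s) (by simp [s]) (by simpa [s] using h2)⟩
  by_cases hB : g 0 1 = 0
  · by_cases hC : g 1 0 = 0
    · exact ⟨0, 1, -1, by ring, by rw [hB, hC]; ring⟩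
    obtain ⟨a, c, h⟩ := SL2Trace.exists_binary_eq (-1) ((g 0 0 - g 1 1) / g 1 0) 0 1
      (by
        have h : (g 0 0 - g 1 1) ^ 2 ≠ 0 := fun h => hD (by
          rw [hB, zero_mul, sub_zero] at hd
          linear_combination h + 4 * hd)
        rw [mul_zero, sub_zero, div_pow]
        exact div_ne_zero h (pow_ne_zero 2 hC)) one_ne_zero
    refine ⟨a, -(a * (g 0 0 - g 1 1)) / g 1 0, c, ?_, ?_⟩
    · refine Eq.trans ?_ h
      field_simp
      ring
    · rw [hB]
      field_simp
      ring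
  obtain ⟨a, b, h⟩ := SL2Trace.exists_binary_eq (-1) ((g 0 0 - g 1 1) / g 0 1) (g 1 0 / g 0 1) 1
    (by
      rw [show ((g 0 0 - g 1 1) / g 0 1) ^ 2 - 4 * -1 * (g 1 0 / g 0 1) =
        ((g 0 0 + g 1 1) ^ 2 - 4) / g 0 1 ^ 2 by
          field_simp
          linear_combination -4 * hd]
      exact div_ne_zero hD (pow_ne_zero 2 hB)) one_ne_zero
  refine ⟨a, b, -(a * (g 0 0 - g 1 1) + b * g 1 0) / g 0 1, ?_, ?_⟩
  · refine Eq.trans ?_ h
    field_simp
    ring
  · field_simp
    ring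

/-- Powers of a unipotent matrix. -/
theorem one_add_pow {R : Type*} [Semiring R] (N : R) (h : N * N = 0) (n : ℕ) :
    (1 + N) ^ n = 1 + n • N := by
  induction n with
  | zero => simp
  | succ n ih => rw [pow_succ, ih, add_mul, one_mul, mul_add, mul_one, smul_mul_assoc, h, smul_zero,
      add_zero, succ_nsmul]; abel

/-- Elements of trace two with a power equal to a scalar. -/
theorem eq_one_of_trace_two {g : SL(2, F)} (ht : g 0 0 + g 1 1 = 2) {r : ℕ} (hr : (r : F) ≠ 0)
    (hg : g ^ r = 1 ∨ g ^ r = -1) : g = 1 := by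
  have hd := SL2Trace.det_eq_one g
  set N : Matrix (Fin 2) (Fin 2) F := (g : Matrix (Fin 2) (Fin 2) F) - 1 with hN
  have hNN : N * N = 0 := by
    ext i j
    fin_cases i <;> fin_cases j <;> simp [hN, Matrix.mul_apply, Fin.sum_univ_two]
    · linear_combination (g 0 0) * ht - hd
    · linear_combination (g 0 1) * ht
    · linear_combination (g 1 0) * ht
    · linear_combination (g 1 1) * ht - hd
  have hpow : ((g ^ r : SL(2, F)) : Matrix (Fin 2) (Fin 2) F) = 1 + r • N := by
    rw [Matrix.SpecialLinearGroup.coe_pow, ← one_add_pow N hNN, hN, add_sub_cancel]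
  obtain ⟨c, hc⟩ : ∃ c : F, (r : F) • N = c • (1 : Matrix (Fin 2) (Fin 2) F) := by
    rw [Nat.cast_smul_eq_nsmul]
    rcases hg with h | h <;> rw [h] at hpow
    · exact ⟨0, by simpa using hpow⟩
    · refine ⟨-2, ?_⟩
      have : r • N = -1 - (1 : Matrix (Fin 2) (Fin 2) F) := by
        rw [eq_sub_iff_add_eq, add_comm, ← hpow]; simp
      rw [this, neg_smul, two_smul]; abel
  have hc0 : c = 0 := by
    have h : ((r : F) • N) * ((r : F) • N) = 0 := by rw [smul_mul_smul_comm, hNN, smul_zero]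
    rw [hc, smul_mul_smul_comm, one_mul] at h
    have := congrFun (congrFun h 0) 0
    simpa using this
  rw [hc0, zero_smul, smul_eq_zero] at hc
  exact Subtype.ext (sub_eq_zero.1 (hc.resolve_left hr))

/-- Off the characteristic there is an inverted element of order `r`. -/
theorem exists_inverted {r : ℕ} (hr : r.Prime) (hr2 : r ≠ 2) (hrF : (r : F) ≠ 0)
    (hd : r ∣ Nat.card SL(2, F)) :
    ∃ x s : PST, orderOf x = r ∧ s * s = 1 ∧ s * x * s⁻¹ = x⁻¹ := by
  haveI : Fact r.Prime := ⟨hr⟩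
  obtain ⟨g, hg⟩ := exists_prime_orderOf_dvd_card' (G := SL(2, F)) r hd
  have hgr : g ^ r = 1 := hg ▸ pow_orderOf_eq_one g
  have hne : g ≠ 1 := fun h => hr.ne_one (by rw [← hg, h, orderOf_one])
  have hne' : g ≠ -1 := fun h => hr2 ((Nat.prime_dvd_prime_iff_eq hr Nat.prime_two).1 (hg ▸
    orderOf_dvd_of_pow_eq_one (by rw [h, pow_two, neg_mul_neg, one_mul])))
  have hpx : pr g ≠ 1 := fun h => ((SL2Trace.proj_eq_one_iff g).1 h).elim hne hne'
  have hx : orderOf (pr g) = r := orderOf_eq_prime (by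
    show (QuotientGroup.mk g : PST) ^ r = 1
    rw [← QuotientGroup.mk_pow, hgr, QuotientGroup.mk_one]) hpx
  have hD : (g 0 0 + g 1 1) ^ 2 - 4 ≠ 0 := by
    intro h
    rcases mul_eq_zero.1 (show (g 0 0 + g 1 1 - 2) * (g 0 0 + g 1 1 + 2) = 0 by
      linear_combination h) with h | h
    · exact hne (eq_one_of_trace_two (sub_eq_zero.1 h) hrF (Or.inl hgr))
    · refine hne' (neg_eq_iff_eq_neg.1 (eq_one_of_trace_two (g := -g) ?_ hrF ?_))
      · simp only [Matrix.SpecialLinearGroup.coe_neg, Matrix.neg_apply]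
        linear_combination -h
      · right
        rw [(hr.odd_of_ne_two hr2).neg_pow, hgr]
  obtain ⟨s, hs, hsg⟩ := exists_inverting_of_trace g hD
  exact ⟨pr g, s, hx, hs, hsg⟩

/-- `PSL₂(q)` has no odd homogeneous primes. -/
theorem not_piHomog_psl {π : Set ℕ} (hodd : 2 ∉ π) (hq : 4 ≤ Fintype.card F) {r : ℕ}
    (hr : r.Prime) (hrπ : r ∈ π) (hd : r ∣ Nat.card SL(2, F)) : ¬ PiHomog πᶜ PST := by
  intro hG
  have hr2 : r ≠ 2 := fun h => hodd (h ▸ hrπ)
  by_cases hrF : (r : F) ≠ 0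
  · obtain ⟨x, s, hx, hs, hsx⟩ := exists_inverted hr hr2 hrF hd
    exact false_of_inverted hodd hG hr hrπ hx hs hsx
  push Not at hrF
  obtain ⟨p, hp⟩ := CharP.exists F
  haveI := hp
  obtain ⟨n, hpp, hqn⟩ := FiniteField.card F p
  obtain rfl : p = r := (Nat.prime_dvd_prime_iff_eq hpp hr).1 ((CharP.cast_eq_zero_iff F p r).1 hrF)
  have h2 : (2 : F) ≠ 0 := fun h => hr2 ((Nat.prime_dvd_prime_iff_eq hpp Nat.prime_two).1
    ((CharP.cast_eq_zero_iff F p 2).1 (by exact_mod_cast h)))
  have hodd' : Odd (Fintype.card F) := hqn ▸ (hr.odd_of_ne_two hr2).pow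
  obtain ⟨k, hk⟩ := hodd'
  set B := (upperSL (F := F)).map (QuotientGroup.mk' (Subgroup.center SL(2, F))) with hB
  have hcardB : Nat.card B = Fintype.card F * k := by
    have h := two_mul_natCard_inB (F := F) h2
    rw [Nat.card_congr (Equiv.subtypeEquivRight fun _ => inB_iff), ← hB] at h
    refine Nat.eq_of_mul_eq_mul_left two_pos (h.trans ?_)
    rw [show Fintype.card F - 1 = 2 * k by omega]
    ring
  obtain ⟨l, hl, hlk⟩ := Nat.exists_prime_and_dvd (show k ≠ 1 by omega)
  haveI : Fact l.Prime := ⟨hl⟩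
  have hlp : ¬ l ∣ Fintype.card F := fun h => by
    have h1 : l ∣ 2 * k := hlk.mul_left 2
    exact hl.ne_one (Nat.dvd_one.1 ((Nat.dvd_add_right h1).1 (hk ▸ h)))
  obtain ⟨d, hd'⟩ := exists_prime_orderOf_dvd_card' (G := B) l
    (by rw [hcardB]; exact hlk.mul_left _)
  rw [← Subgroup.orderOf_coe] at hd'
  have hlF : (l : F) ≠ 0 := fun h => hlp (by
    rw [(Nat.prime_dvd_prime_iff_eq hpp hl).1 ((CharP.cast_eq_zero_iff F p l).1 h)] at hqn
    rw [hqn]
    exact dvd_pow_self l n.pos.ne')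
  by_cases hlπ : l ∈ π
  · have hdl : l ∣ Nat.card SL(2, F) := by
      refine (dvd_trans ?_ (Subgroup.card_quotient_dvd_card (Subgroup.center SL(2, F))))
      rw [← hd']
      exact orderOf_dvd_natCard (d : PST)
    obtain ⟨x, s, hx, hs, hsx⟩ := exists_inverted hl (fun h => hodd (h ▸ hlπ)) hlF hdl
    exact false_of_inverted hodd hG hl hlπ hx hs hsx
  have hcQ : Nat.card (subQ (F := F)) = Fintype.card F := by
    rw [natCard_subQ, Nat.card_eq_fintype_card]
  have hmap : ∀ y : PST, InB y → ∀ z ∈ subQ (F := F), y * z * y⁻¹ ∈ subQ (F := F) := by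
    intro y hy z hz
    obtain ⟨a, -, ha⟩ := inB_conj hy
    obtain ⟨w, rfl⟩ := hz
    obtain ⟨x, rfl⟩ := Multiplicative.ofAdd.surjective w
    exact ⟨_, (ha x).symm⟩
  have hdn : (d : PST) ∈ Subgroup.normalizer ((subQ (F := F) : Subgroup PST) : Set PST) := by
    rw [Subgroup.mem_normalizer_iff]
    refine fun y => ⟨fun hy => hmap _ (inB_iff.2 d.2) y hy, fun hy => ?_⟩
    have h := hmap _ (inB_iff.2 (inv_mem d.2)) _ hy
    simpa [mul_assoc] using h
  have hdc := Subgroup.mem_centralizer_iff.1 (hG (subQ (F := F)) (fun q hq hqd hqc => by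
    rw [hcQ, hqn] at hqd
    exact hqc ((Nat.prime_dvd_prime_iff_eq hq hr).1 (hq.dvd_of_dvd_pow hqd) ▸ hrπ)) (d : PST) hdn
      (hd'.symm ▸ fun q hq hqd => (Nat.prime_dvd_prime_iff_eq hq hl).1 hqd ▸ hlπ))
      (uQ (.ofAdd (1 : F))) ⟨_, rfl⟩
  have hmem := mem_subQ_of_commute h2 (l := (d : PST)) (by rw [← hdc, mul_inv_cancel_right])
  exact hlp (hcQ ▸ hd' ▸ Subgroup.orderOf_dvd_natCard _ hmem)

end CfsgLib.WalterCons
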