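import Cfsg.Agent.PiHomogeneousTwo.Basic
import Cfsg.Agent.GW.DihedralType
import Mathlib

/-!
# Homogeneity for sets of odd primes: reduction to simple groups

`OddHyp π G`: `2 ∉ π`, the Sylow 2-subgroups are abelian or embed in dihedral groups, and a
`π'`-element normalizing a `π`-subgroup centralizes it.  The hypothesis passes to subgroups and
to quotients by `π`- and `π'`-subgroups.
-/

set_option autoImplicit false
set_option linter.style.haveILetI false

namespace CfsgLib.WalterCons

open CfsgLib.GroupBasics CfsgLib.PiHomTwo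
open scoped Pointwise

universe u

/-- Every 2-subgroup is abelian, or every one embeds in a dihedral group. -/
def TwoOK (G : Type u) [Group G] : Prop :=
  (∀ P : Subgroup G, IsPGroup 2 P → IsMulCommutative P) ∨ GW.DihType G

/-- The hypothesis. -/
structure OddHyp (π : Set ℕ) (G : Type u) [Group G] : Prop where
  odd : 2 ∉ π
  two : TwoOK G
  homog : PiHomog πᶜ G

variable {π : Set ℕ} {G : Type u} [Group G]

theorem comm_of_injective {A B : Type*} [Group A] [Group B] (hB : IsMulCommutative B) (f : A →* B)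
    (hf : Function.Injective f) : IsMulCommutative A :=
  ⟨⟨fun a b => hf (by rw [map_mul, map_mul, hB.is_comm.comm])⟩⟩

theorem TwoOK.subgroup (h : TwoOK G) (X : Subgroup G) : TwoOK X := by
  rcases h with h | h
  · exact Or.inl fun P hP => comm_of_injective (h _ (hP.map X.subtype))
      (P.equivMapOfInjective X.subtype X.subtype_injective).toMonoidHom (MulEquiv.injective _)
  · exact Or.inr (h.subgroup X)

variable [Finite G]

theorem twoOK_of_sylow_comm (S : Sylow 2 G) (h : IsMulCommutative (S : Subgroup G)) : TwoOK G := by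
  refine Or.inl fun P hP => ?_
  obtain ⟨Q, hQ⟩ := hP.exists_le_sylow
  exact comm_of_injective h ((Sylow.equiv Q S).toMonoidHom.comp (Subgroup.inclusion hQ))
    ((Sylow.equiv Q S).injective.comp (Subgroup.inclusion_injective hQ))

theorem TwoOK.quotient (h : TwoOK G) (N : Subgroup G) [N.Normal] : TwoOK (G ⧸ N) := by
  haveI : Fact (Nat.Prime 2) := ⟨Nat.prime_two⟩
  obtain ⟨T⟩ : Nonempty (Sylow 2 G) := inferInstance
  have hsur := QuotientGroup.mk'_surjective N
  let T' : Sylow 2 (G ⧸ N) := T.mapSurjective hsur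
  let g : (T : Subgroup G) →* (T' : Subgroup (G ⧸ N)) :=
    ((QuotientGroup.mk' N).comp (T : Subgroup G).subtype).codRestrict _ fun x => by
      rw [Sylow.coe_mapSurjective]; exact ⟨x, x.2, rfl⟩
  have hg : Function.Surjective g := fun y => by
    obtain ⟨x, hx, hxy⟩ : (y : G ⧸ N) ∈ (T : Subgroup G).map (QuotientGroup.mk' N) := by
      rw [← Sylow.coe_mapSurjective hsur]; exact y.2
    exact ⟨⟨x, hx⟩, Subtype.ext hxy⟩
  by_cases hc : IsMulCommutative (T' : Subgroup (G ⧸ N))
  · exact twoOK_of_sylow_comm T' hc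
  have hcomm : ∀ {A : Type u} [Group A] (f : A →* (T' : Subgroup (G ⧸ N))),
      Function.Surjective f → IsMulCommutative A → False := fun f hf hA => hc ⟨⟨fun a b => by
    obtain ⟨a, rfl⟩ := hf a
    obtain ⟨b, rfl⟩ := hf b
    rw [← map_mul, ← map_mul, hA.is_comm.comm]⟩⟩
  rcases h with h | h
  · exact (hcomm g hg (h _ T.2)).elim
  rcases h.cyclic_or_dihedral T with hcy | ⟨m, hm, ⟨e⟩⟩
  · haveI := hcy
    exact (hcomm g hg ⟨⟨fun a b => by
      obtain ⟨c, hc'⟩ := IsCyclic.exists_generator (α := (T : Subgroup G))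
      obtain ⟨i, rfl⟩ := Subgroup.mem_zpowers_iff.1 (hc' a)
      obtain ⟨j, rfl⟩ := Subgroup.mem_zpowers_iff.1 (hc' b)
      rw [← zpow_add, ← zpow_add, add_comm]⟩⟩).elim
  let f : DihedralGroup m →* (T' : Subgroup (G ⧸ N)) := g.comp e.symm.toMonoidHom
  have hf : Function.Surjective f := hg.comp e.symm.surjective
  set a := f (DihedralGroup.sr 0) with ha
  set b := f (DihedralGroup.sr 1) with hb
  have haa : a * a = 1 := by rw [ha, ← map_mul, DihedralGroup.sr_mul_self, map_one]
  have hbb : b * b = 1 := by rw [hb, ← map_mul, DihedralGroup.sr_mul_self, map_one]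
  have hab : a * b = f (DihedralGroup.r 1) := by
    rw [ha, hb, ← map_mul, DihedralGroup.sr_mul_sr, sub_zero]
  have htop : Subgroup.closure ({a, b} : Set (T' : Subgroup (G ⧸ N))) = ⊤ := by
    rw [Subgroup.eq_top_iff']
    have hr : ∀ i : ZMod m, f (DihedralGroup.r i) ∈
        Subgroup.closure ({a, b} : Set (T' : Subgroup (G ⧸ N))) := by
      intro i
      have : DihedralGroup.r i = DihedralGroup.r (1 : ZMod m) ^ (i.cast : ℤ) := by
        rw [DihedralGroup.r_one_zpow, ZMod.intCast_zmod_cast]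
      rw [this, map_zpow, ← hab]
      exact zpow_mem (Small.mul_mem_closure_pair a b) _
    intro y
    obtain ⟨x, rfl⟩ := hf y
    rcases x with i | i
    · exact hr i
    · rw [show DihedralGroup.sr i = DihedralGroup.sr 0 * DihedralGroup.r i by
        rw [DihedralGroup.sr_mul_r, zero_add], map_mul]
      exact mul_mem (Subgroup.subset_closure (by simp [ha])) (hr i)
  have hcyc : ∀ c : (T' : Subgroup (G ⧸ N)),
      Subgroup.closure ({a, b} : Set _) ≤ Subgroup.zpowers c → False := fun c hle => hc ⟨⟨fun x y => by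
    obtain ⟨i, rfl⟩ := Subgroup.mem_zpowers_iff.1 (hle (htop ▸ Subgroup.mem_top x))
    obtain ⟨j, rfl⟩ := Subgroup.mem_zpowers_iff.1 (hle (htop ▸ Subgroup.mem_top y))
    rw [← zpow_add, ← zpow_add, add_comm]⟩⟩
  have ha1 : a ≠ 1 := fun h => hcyc b ((Subgroup.closure_le _).2 (by
    rintro x (rfl | rfl)
    · rw [h]; exact one_mem _
    · exact Subgroup.mem_zpowers _))
  have hb1 : b ≠ 1 := fun h => hcyc a ((Subgroup.closure_le _).2 (by
    rintro x (rfl | rfl)
    · exact Subgroup.mem_zpowers _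
    · rw [h]; exact one_mem _))
  have hne : a ≠ b := fun h => hcyc a ((Subgroup.closure_le _).2 (by
    rintro x (rfl | rfl)
    · exact Subgroup.mem_zpowers _
    · rw [← h]; exact Subgroup.mem_zpowers _))
  exact Or.inr (GW.dihType_of_sylow T'
    ((Subgroup.topEquiv.symm.trans (MulEquiv.subgroupCongr htop.symm)).trans
      (Small.closurePairEquivDihedral (Small.orderOf_eq_two_iff_sq.2 ⟨ha1, haa⟩)
        (Small.orderOf_eq_two_iff_sq.2 ⟨hb1, hbb⟩) hne)))

omit [Finite G] in
theorem OddHyp.subgroup (hG : OddHyp π G) (X : Subgroup G) : OddHyp π X :=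
  ⟨hG.odd, hG.two.subgroup X, piHomog_subgroup hG.homog X⟩

theorem odd_of_piNum (h2 : 2 ∉ π) {n : ℕ} (hn : PiNum π n) : Odd n :=
  Nat.not_even_iff_odd.1 fun h => h2 (hn 2 Nat.prime_two h.two_dvd)

/-- Quotients by normal `π`-subgroups. -/
theorem OddHyp.quotient_pi (hG : OddHyp π G) (N : Subgroup G) [N.Normal]
    (hN : PiNum π (Nat.card N)) : OddHyp π (G ⧸ N) := by
  refine ⟨hG.odd, hG.two.quotient N, ?_⟩
  set f := QuotientGroup.mk' N with hf
  have hsur : Function.Surjective f := QuotientGroup.mk'_surjective N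
  intro Hb hb a ha hao
  have hb' : PiNum π (Nat.card Hb) := fun p hp hd => not_not.1 (hb p hp hd)
  have hL : PiNum π (Nat.card (Hb.comap f)) := by
    rw [hf, Solvable.card_comap_mk' N Hb]; exact piNum_mul hb' hN
  obtain ⟨g, rfl⟩ := hsur a
  obtain ⟨g₀, hfg, hg₀o⟩ : ∃ g₀ : G, f g₀ = f g ∧ PiNum πᶜ (orderOf g₀) := by
    obtain ⟨u, v, huv⟩ := Nat.isCoprime_iff_coprime.2
      (coprime_compl (π := π) hN hao)
    refine ⟨(g ^ Nat.card N) ^ u, ?_, piNum_of_dvd hao (orderOf_dvd_of_pow_eq_one ?_)⟩
    · rw [map_zpow, map_pow, ← zpow_natCast, ← zpow_mul, mul_comm]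
      conv_rhs => rw [← zpow_one (f g), ← huv, zpow_add, zpow_mul' _ v, zpow_natCast _ (orderOf (f g)),
        pow_orderOf_eq_one, one_zpow, mul_one]
    · have h : g ^ orderOf (f g) ∈ N := by
        rw [← QuotientGroup.eq_one_iff, QuotientGroup.mk_pow]
        exact pow_orderOf_eq_one _
      rw [← zpow_natCast, ← zpow_mul, mul_comm u, zpow_mul, zpow_natCast, ← pow_mul,
        mul_comm (Nat.card N), pow_mul,
        orderOf_dvd_iff_pow_eq_one.1 (Subgroup.orderOf_dvd_natCard N h), one_zpow]
  have hnorm : g₀ ∈ Subgroup.normalizer ((Hb.comap f : Subgroup G) : Set G) := by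
    rw [Subgroup.mem_normalizer_iff]
    intro y
    simp only [Subgroup.mem_comap, map_mul, map_inv, hfg]
    exact Subgroup.mem_normalizer_iff.1 ha (f y)
  have hcen := Subgroup.mem_centralizer_iff.1 (hG.homog (Hb.comap f)
    (fun p hp hd h => h (hL p hp hd)) g₀ hnorm hg₀o)
  refine Subgroup.mem_centralizer_iff.2 fun s hs => ?_
  obtain ⟨y, rfl⟩ := hsur s
  rw [← hfg, ← map_mul, ← map_mul, hcen y hs]


/-- Quotients by normal `π'`-subgroups. -/
theorem OddHyp.quotient_pi' (hG : OddHyp π G) (N : Subgroup G) [N.Normal]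
    (hN : PiNum πᶜ (Nat.card N)) : OddHyp π (G ⧸ N) := by
  set f := QuotientGroup.mk' N with hf
  have hsur : Function.Surjective f := QuotientGroup.mk'_surjective N
  -- complements in preimages
  have hlift : ∀ Hb : Subgroup (G ⧸ N), PiNum π (Nat.card Hb) → ∃ H : Subgroup G,
      Nat.card H = Nat.card Hb ∧ H.map f = Hb := by
    intro Hb hb
    set L := Hb.comap f with hLdef
    have hNL : N ≤ L := fun x hx => by
      show f x ∈ Hb
      rw [show f x = 1 from (QuotientGroup.eq_one_iff x).2 hx]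
      exact one_mem _
    have hcN : Nat.card (N.subgroupOf L) = Nat.card N :=
      Nat.card_congr (Subgroup.subgroupOfEquivOfLe hNL).toEquiv
    have hidx : (N.subgroupOf L).index = Nat.card Hb := by
      have h1 := (N.subgroupOf L).card_mul_index
      rw [hcN, hLdef, hf, Solvable.card_comap_mk' N Hb, mul_comm (Nat.card Hb)] at h1
      exact Nat.eq_of_mul_eq_mul_left Nat.card_pos h1
    obtain ⟨B, hB⟩ := Subgroup.exists_right_complement'_of_coprime (N := N.subgroupOf L)
      (by rw [hcN, hidx]; exact (coprime_compl hb hN).symm)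
    refine ⟨B.map L.subtype, ?_, ?_⟩
    · rw [Subgroup.card_map_of_injective L.subtype_injective, ← hB.symm.index_eq_card, hidx]
    · refine le_antisymm ?_ fun y hy => ?_
      · rintro _ ⟨_, ⟨b, -, rfl⟩, rfl⟩
        exact b.2
      · obtain ⟨g, rfl⟩ := hsur y
        obtain ⟨⟨⟨n, hn⟩, ⟨b, hb⟩⟩, hnb⟩ := hB.2 (⟨g, hy⟩ : L)
        refine ⟨(b : G), ⟨b, hb, rfl⟩, ?_⟩
        have hg : (n : G) * (b : G) = g := congrArg Subtype.val hnb
        rw [← hg, map_mul, show f (n : G) = 1 from (QuotientGroup.eq_one_iff _).2 hn, one_mul]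
  refine ⟨hG.odd, hG.two.quotient N, ?_⟩
  intro Hb hb a ha hao
  have hb' : PiNum π (Nat.card Hb) := fun p hp hd => not_not.1 (hb p hp hd)
  obtain ⟨g, rfl⟩ := hsur a
  obtain ⟨H, hH, hHb⟩ := hlift Hb hb'
  have hHN : H ≤ Subgroup.normalizer (N : Set G) := Subgroup.le_normalizer_of_normal
  have hgH : MulAut.conj g • H ≤ Subgroup.normalizer (N : Set G) :=
    Subgroup.le_normalizer_of_normal
  have hsup : N ⊔ H = N ⊔ MulAut.conj g • H := by
    have h1 : ∀ K : Subgroup G, K.map f = Hb → N ⊔ K = Hb.comap f := fun K hK => by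
      rw [← hK, Subgroup.comap_map_eq, hf, QuotientGroup.ker_mk', sup_comm]
    rw [h1 H hHb, h1]
    rw [← hHb]
    ext y
    constructor
    · rintro ⟨_, ⟨x, hx, rfl⟩, rfl⟩
      show f (g * x * g⁻¹) ∈ H.map f
      rw [map_mul, map_mul, map_inv, hHb]
      exact (Subgroup.mem_normalizer_iff.1 ha (f x)).1 (hHb ▸ Subgroup.mem_map_of_mem f hx)
    · intro hy
      rw [hHb] at hy
      have h2 : (f g)⁻¹ * y * f g ∈ H.map f :=
        hHb.symm ▸ (Subgroup.mem_normalizer_iff''.1 ha y).1 hy
      obtain ⟨x, hx, hxy⟩ := h2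
      refine ⟨g * x * g⁻¹, ⟨x, hx, rfl⟩, ?_⟩
      rw [map_mul, map_mul, map_inv, hxy]
      group
  obtain ⟨k, hk, hkH⟩ := CfsgLib.Coprime.exists_conj_eq_of_sup_eq hgH hHN
    (by rw [CfsgLib.Coprime.card_conj_smul, hH]; exact (coprime_compl hb' hN).symm)
    (by rw [CfsgLib.Coprime.card_conj_smul]) hsup.symm (Or.inr (Cfsg.Agent.S0205.result (odd_of_piNum hG.odd
      (by rw [CfsgLib.Coprime.card_conj_smul, hH]; exact hb'))))
  rw [smul_smul, ← map_mul] at hkH
  have hfk : f (k * g) = f g := by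
    rw [map_mul, show f k = 1 from (QuotientGroup.eq_one_iff _).2 hk, one_mul]
  have hnorm : k * g ∈ Subgroup.normalizer (H : Set G) :=
    (CfsgLib.Coprime.mem_normalizer_iff_conj_smul_eq).2 hkH
  have hord : PiNum πᶜ (orderOf (k * g)) :=
    piNum_of_dvd (piNum_mul (show PiNum πᶜ (orderOf (f (k * g))) from hfk ▸ hao) hN)
      (orderOf_dvd_map_mul (N := N) (k * g))
  have hcen := Subgroup.mem_centralizer_iff.1
    (hG.homog H (fun p hp hd h => h ((hH ▸ hb' : PiNum π (Nat.card H)) p hp hd)) _ hnorm hord)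
  refine Subgroup.mem_centralizer_iff.2 fun s hs => ?_
  obtain ⟨x, hx, rfl⟩ : s ∈ H.map f := hHb.symm ▸ hs
  rw [← hfk, ← map_mul, ← map_mul, hcen x hx]


omit [Finite G] in
/-- A simple group with all its subgroups normal is of prime order. -/
theorem prime_card_of_comm [Finite G] [IsSimpleGroup G] (hc : IsMulCommutative G) :
    (Nat.card G).Prime := by
  letI : CommGroup G := { (inferInstance : Group G) with mul_comm := hc.is_comm.comm }
  exact IsSimpleGroup.prime_card

/-- The reduction to simple groups. -/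
theorem closed_of_oddHyp (hsimp : ∀ (X : Type u) [Group X] [Finite X], IsSimpleGroup X →
      ¬ IsMulCommutative X → OddHyp π X → ∀ r : ℕ, r.Prime → r ∈ π → r ∣ Nat.card X → False) :
    ∀ (k : ℕ) (G : Type u) [Group G] [Finite G], Nat.card G < k → OddHyp π G →
      PiClosed πᶜ G := by
  intro k
  induction k with
  | zero => intro G _ _ h; omega
  | succ k ih =>
    intro G _ _ hk hG
    by_contra hnc
    have hsub : ∀ X : Subgroup G, X ≠ ⊤ → PiClosed πᶜ X := fun X hX => ih X (by
      have h : Nat.card X < Nat.card G := lt_of_le_of_ne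
        (Nat.le_of_dvd Nat.card_pos X.card_subgroup_dvd_card)
        fun h => hX (Subgroup.eq_top_of_card_eq _ h)
      omega) (hG.subgroup X)
    haveI : Nontrivial G := by
      rcases subsingleton_or_nontrivial G with h | h
      · exact absurd (piClosed_of_card (Or.inl (by rw [Nat.card_unique]; exact piNum_one _))) hnc
      · exact h
    have hquot : ∀ N : Subgroup G, ∀ _ : N.Normal, N ≠ ⊥ →
        Nat.card (G ⧸ N) < k := fun N _ hN => by
      have h1 := Subgroup.card_eq_card_quotient_mul_card_subgroup N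
      have h2 : 1 < Nat.card N := (Subgroup.one_lt_card_iff_ne_bot N).2 hN
      have h3 : 0 < Nat.card (G ⧸ N) := Nat.card_pos
      nlinarith
    have hS : IsSimpleGroup G := by
      refine ⟨fun N hN => ?_⟩
      by_contra! hcon
      obtain ⟨hNb, hNt⟩ := hcon
      obtain ⟨K₀, hK₀⟩ := hsub N hNt
      haveI := normal_of_closed hK₀
      haveI : K₀.Characteristic := Subgroup.characteristic_iff_le_comap.2 fun e x hx =>
        Subgroup.mem_comap.2 ((hK₀ _).2 (by
          rw [MulEquiv.coe_toMonoidHom, e.orderOf_eq]; exact (hK₀ x).1 hx))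
      obtain ⟨hcK, hiK⟩ := card_of_closed hK₀
      set K := K₀.map N.subtype with hKdef
      haveI : K.Normal := inferInstance
      by_cases hKb : K = ⊥
      · have hNpi : PiNum π (Nat.card N) := by
          rw [hKdef, Subgroup.map_eq_bot_iff_of_injective _ N.subtype_injective] at hKb
          intro p hp hd
          rw [← Subgroup.index_bot, ← hKb] at hd
          exact not_not.1 (hiK p hp hd)
        exact hnc (piClosed_extension hG.homog N (piClosed_of_card (Or.inr
          fun p hp hd h => h (hNpi p hp hd))) (ih _ (hquot N hN hNb) (hG.quotient_pi N hNpi)))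
      · have hKc : Nat.card K = Nat.card K₀ :=
          Subgroup.card_map_of_injective N.subtype_injective
        exact hnc (piClosed_extension hG.homog K (piClosed_of_card (Or.inl (hKc ▸ hcK)))
          (ih _ (hquot K inferInstance hKb) (hG.quotient_pi' K (hKc ▸ hcK))))
    haveI := hS
    obtain ⟨r, hr, hrd, hrπ⟩ : ∃ r : ℕ, r.Prime ∧ r ∣ Nat.card G ∧ r ∈ π := by
      by_contra h
      exact hnc (piClosed_of_card (Or.inl fun p hp hd hpπ => h ⟨p, hp, hd, hpπ⟩))
    by_cases hna : IsMulCommutative G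
    · refine hnc (piClosed_of_card (Or.inr fun p hp hd hpc => hpc ?_))
      rwa [(Nat.prime_dvd_prime_iff_eq hp (prime_card_of_comm hna)).1 hd,
        ← (Nat.prime_dvd_prime_iff_eq hr (prime_card_of_comm hna)).1 hrd]
    · exact hsimp G hS hna hG r hr hrπ hrd

end CfsgLib.WalterCons
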