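import Cfsg.Agent.WalterCons.ReeTorusCols
import Cfsg.Agent.Characters.DefectZero
import Mathlib

/-!
# Groups of Ree order: the elements of prime order dividing `q² - q + 1` are real

For such `y` the class algebra sum `∑ χ(y) χ(t)²/χ(1)` is not zero: only `1`, `A` and the four
characters of degree `m (q - 1) (q + 1 ± 3 m) / 2` contribute.
-/

set_option autoImplicit false
set_option linter.unusedSectionVars false
set_option linter.style.haveILetI false
set_option maxHeartbeats 1000000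

namespace CfsgLib.WalterCons

open Matrix CfsgLib.ReeTypeS3
open scoped MatrixGroups

universe u v

variable {G : Type u} [Group G] [Fintype G] {F : Type v} [Field F] [Fintype F]

local notation "PST" => Matrix.ProjectiveSpecialLinearGroup (Fin 2) F
local notation "qI" => (Fintype.card F : ℤ)
local notation "qC" => (Fintype.card F : ℂ)

noncomputable local instance (priority := high) instFintypePSTReeReal :
    Fintype (Matrix.ProjectiveSpecialLinearGroup (Fin 2) F) := Fintype.ofFinite _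

noncomputable local instance (priority := high) instFintypeSubReeReal
    (H : Subgroup (Matrix.ProjectiveSpecialLinearGroup (Fin 2) F)) : Fintype H := Fintype.ofFinite _

variable {E : Emb G (Matrix.ProjectiveSpecialLinearGroup (Fin 2) F)}

/-- The quotient of a character value by the degree through the signed degree. -/
theorem div_deg_eq {v : Cfsg.IrrCharacter G → ℤ} {χ : Cfsg.IrrCharacter G}
    (h : v χ = 1 ∨ v χ = -1) (z : ℂ) :
    z / (ReeTypeS3.deg χ : ℂ) = (v χ : ℂ) * z / (JankoThompson.sd v χ : ℂ) := by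
  unfold JankoThompson.sd
  rcases h with e | e <;> rw [e] <;> push_cast <;> ring

/-- The equation of a base column, solved for the sum of the reciprocals of its private degrees. -/
theorem reciprocal_sum {x S : ℚ} (hx : x ≠ 0) (hg : x ^ 2 - x + 1 ≠ 0) (hp : x + 1 ≠ 0)
    (hm : x - 1 ≠ 0)
    (hE : x ^ 2 / x ^ 3 + x ^ 2 / (-(x * (x ^ 2 - x + 1))) + ((x - 1) / 2) ^ 2 * S =
      (x / ((x + 1) / 4) - 1) * ((x ^ 2 - 1) / (x * (x ^ 2 - x + 1)))) :
    S = 12 / ((x - 1) * (x ^ 2 - x + 1)) := by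
  obtain ⟨g, hgdef⟩ : ∃ g, g = x ^ 2 - x + 1 := ⟨_, rfl⟩
  rw [← hgdef] at hE hg ⊢
  refine mul_left_cancel₀ (pow_ne_zero 2 (div_ne_zero hm (two_ne_zero (α := ℚ)))) ?_
  rw [eq_sub_of_add_eq' hE]
  field_simp
  rw [hgdef]
  ring

namespace RHyp

variable (hyp : RHyp E)
include hyp

theorem g_coprime {r : ℕ} (hr : r.Prime) (hrg : (r : ℤ) ∣ qI ^ 2 - qI + 1) :
    5 ≤ r ∧ ¬ r ∣ Fintype.card F ∧ ¬ r ∣ Fintype.card F + 1 ∧ ¬ r ∣ Fintype.card F - 1 := by
  obtain ⟨h8, h27, h3⟩ := hyp.q_facts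
  have hrq : ¬ r ∣ Fintype.card F := fun h => by
    have h' : (r : ℤ) ∣ qI := by exact_mod_cast h
    have : (r : ℤ) ∣ 1 := by
      have := dvd_sub hrg (h'.mul_right (qI - 1))
      rwa [show qI ^ 2 - qI + 1 - qI * (qI - 1) = 1 by ring] at this
    exact hr.ne_one (Nat.dvd_one.1 (by exact_mod_cast this))
  have hr3 : r ≠ 3 := fun e => hrq (e ▸ Nat.dvd_of_mod_eq_zero h3)
  have hr2 : r ≠ 2 := fun e => by
    subst e
    obtain ⟨k, hk⟩ : ∃ k, Fintype.card F = 2 * k + 1 := ⟨Fintype.card F / 2, by omega⟩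
    have h2 : (2 : ℤ) ∣ 1 := by
      have := dvd_sub (by exact_mod_cast hrg : (2 : ℤ) ∣ qI ^ 2 - qI + 1)
        (dvd_mul_right (2 : ℤ) (2 * (k : ℤ) ^ 2 + k))
      rwa [show qI ^ 2 - qI + 1 - 2 * (2 * (k : ℤ) ^ 2 + k) = 1 by rw [hk]; push_cast; ring] at this
    norm_num at h2
  refine ⟨?_, hrq, fun h => ?_, fun h => ?_⟩
  · have := hr.two_le
    have : r ≠ 4 := fun e => by rw [e] at hr; norm_num at hr
    omega
  · have h' : (r : ℤ) ∣ qI + 1 := by exact_mod_cast h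
    have : (r : ℤ) ∣ 3 := by
      have := dvd_sub hrg (h'.mul_right (qI - 2))
      rwa [show qI ^ 2 - qI + 1 - (qI + 1) * (qI - 2) = 3 by ring] at this
    exact hr3 ((Nat.prime_dvd_prime_iff_eq hr Nat.prime_three).1 (by exact_mod_cast this))
  · have h' : (r : ℤ) ∣ qI - 1 := by
      have : ((Fintype.card F - 1 : ℕ) : ℤ) = qI - 1 := by
        rw [Nat.cast_sub (by omega), Nat.cast_one]
      rw [← this]
      exact_mod_cast h
    have : (r : ℤ) ∣ 1 := by
      have := dvd_sub hrg (h'.mul_left qI)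
      rwa [show qI ^ 2 - qI + 1 - qI * (qI - 1) = 1 by ring] at this
    exact hr.ne_one (Nat.dvd_one.1 (by exact_mod_cast this))

/-- The `r`-part of the order divides `q² - q + 1`. -/
theorem pow_dvd_g {r : ℕ} (hr : r.Prime) (hrg : (r : ℤ) ∣ qI ^ 2 - qI + 1) {n : ℕ}
    (hn : r ^ n ∣ Nat.card G) : (r : ℤ) ^ n ∣ qI ^ 2 - qI + 1 := by
  obtain ⟨-, hq, hq1, hq2⟩ := hyp.g_coprime hr hrg
  obtain ⟨h8, h27, -⟩ := hyp.q_facts
  have hc : Nat.Coprime (r ^ n)
      (Fintype.card F ^ 3 * (Fintype.card F + 1) * (Fintype.card F - 1)) :=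
    Nat.Coprime.pow_left _ (hr.coprime_iff_not_dvd.2 fun h => by
      rcases hr.dvd_mul.1 h with h | h
      · rcases hr.dvd_mul.1 h with h | h
        · exact hq (hr.dvd_of_dvd_pow h)
        · exact hq1 h
      · exact hq2 h)
  have hcard : (Nat.card G : ℤ) = ((Fintype.card F ^ 3 * (Fintype.card F + 1) *
      (Fintype.card F - 1) : ℕ) : ℤ) * (qI ^ 2 - qI + 1) := by
    rw [hyp.card]
    push_cast [Nat.cast_sub (show 1 ≤ Fintype.card F by omega)]
    ring
  have h : ((r ^ n : ℕ) : ℤ) ∣ (Nat.card G : ℤ) := by exact_mod_cast hn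
  rw [hcard] at h
  exact_mod_cast (Nat.isCoprime_iff_coprime.2 hc).dvd_of_dvd_mul_left h

/-- A character whose degree has the full `r`-part vanishes at elements of order `r`. -/
theorem vanish {r : ℕ} (hr : r.Prime) (hrg : (r : ℤ) ∣ qI ^ 2 - qI + 1) {y : G}
    (hy : orderOf y = r) {χ : Cfsg.IrrCharacter G} {z : ℤ} (hz : z ∣ 2 * (ReeTypeS3.deg χ : ℤ))
    (hfull : ∀ n : ℕ, (r : ℤ) ^ n ∣ qI ^ 2 - qI + 1 → (r : ℤ) ^ n ∣ z) :
    (χ : G → ℂ) y = 0 := by
  obtain ⟨n, ρ, hρ, hχ⟩ := χ.2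
  haveI := hρ
  have hn : ReeTypeS3.deg χ = n := by
    have h := ReeTypeS3.deg_spec χ
    rw [← hχ, Representation.char_one, Module.finrank_fin_fun] at h
    exact_mod_cast h.symm
  obtain ⟨h5, -⟩ := hyp.g_coprime hr hrg
  set k := (Nat.card G).factorization r with hk
  have hdvd : r ^ k ∣ Nat.card G := Nat.ordProj_dvd _ _
  have hdeg : r ^ k ∣ n := by
    have h := (hfull k (hyp.pow_dvd_g hr hrg hdvd)).trans hz
    rw [hn] at h
    have h' : r ^ k ∣ 2 * n := by exact_mod_cast h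
    exact (Nat.Coprime.pow_left _ ((Nat.coprime_primes hr Nat.prime_two).2 (by omega))).dvd_of_dvd_mul_left h'
  rw [← hχ]
  refine Characters.char_eq_zero_of_defect_zero ρ hr hdvd
    (Nat.pow_succ_factorization_not_dvd Nat.card_pos.ne' hr) ?_ y (hy ▸ dvd_rfl)
  rwa [Module.finrank_fin_fun]

/-- An element of prime order dividing `q² - q + 1` is inverted by an involution. -/
theorem exists_inverting {r : ℕ} (hr : r.Prime) (hrg : (r : ℤ) ∣ qI ^ 2 - qI + 1) {y : G}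
    (hy : orderOf y = r) : ∃ x : G, x * x = 1 ∧ x * y * x⁻¹ = y⁻¹ := by
  classical
  suffices h : JankoThompson.pairs y ≠ 0 by
    obtain ⟨⟨⟨x, ⟨-, hx⟩, -, hxy⟩⟩, -⟩ := Nat.card_ne_zero.1 h
    refine ⟨x, hx, ?_⟩
    rw [inv_eq_of_mul_eq_one_right hx]
    exact eq_inv_of_mul_eq_one_left (by rw [mul_assoc (x * y)]; exact hxy)
  intro hpairs
  have hj := hyp.jt
  obtain ⟨hsg, hu, hr4⟩ := hyp.sg_eq
  obtain ⟨h8, h27, -⟩ := hyp.q_facts
  obtain ⟨h5r, hrq, hrq1, hrq2⟩ := hyp.g_coprime hr hrg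
  obtain ⟨P₃, hQP, hAP⟩ := hyp.exists_sylow_torus
  obtain ⟨D, hD⟩ := hyp.exists_dat_split
  obtain ⟨s, vA, vB, vC, dA, dB, dC⟩ := JankoThompson.reeStd hj D
  have hyodd : Odd (orderOf y) := by rw [hy]; exact hr.odd_of_ne_two (by omega)
  -- `y` has no conjugate in `H`
  have hnoH : ∀ x : G, x * y * x⁻¹ ∉ (P₃ : Subgroup G) ⊔ torusA E := by
    intro x hx
    have h := Subgroup.orderOf_dvd_natCard _ hx
    rw [show orderOf (x * y * x⁻¹) = orderOf y from (MulAut.conj x).orderOf_eq y, hy,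
      hyp.natCard_sup hQP hAP] at h
    rcases hr.dvd_mul.1 h with h | h
    · exact hrq (hr.dvd_of_dvd_pow h)
    · exact hrq2 h
  have hvZ0 : ∀ τ, τ ≠ 1 → ∀ χ, D.vZ τ χ ≠ 0 → (χ : G → ℂ) y = 0 := fun τ hτ χ hχ =>
    hyp.eq_zero_of_vZ hQP hAP hD hτ hχ hnoH
  have hvP0 : ∀ ν, ν ≠ 1 → ∀ χ, D.vP ν χ ≠ 0 → (χ : G → ℂ) y = 0 := by
    intro ν hν χ hχ
    obtain ⟨o⟩ := D.exists_orb hj hν
    have hR : χ ∈ o.R := by
      by_contra h
      exact hχ (o.outside χ h).1
    have hq1 : 4 * (JankoThompson.rOf F : ℤ) = qI + 1 := by exact_mod_cast hr4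
    have hof : (o.f : ℤ) = (qI - 1) * (qI ^ 2 - qI + 1) := by
      have h := (JankoThompson.index_eq hj o).2
      rw [hq1, hyp.card] at h
      push_cast [Nat.cast_sub (show 1 ≤ Fintype.card F by omega)] at h
      refine mul_left_cancel₀ (mul_ne_zero (pow_ne_zero 3 (show qI ≠ 0 by omega))
        (show qI + 1 ≠ 0 by omega)) ?_
      linear_combination -h
    refine hyp.vanish hr hrg hy (z := qI ^ 2 - qI + 1) ?_ fun n hn => hn
    rw [o.hdeg χ hR, hof]
    exact (dvd_mul_left _ _).mul_left 2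
  have hB0 : (s.B : G → ℂ) y = 0 := hyp.vanish hr hrg hy (z := qI ^ 2 - qI + 1)
    (by rw [dB]; exact (dvd_mul_left _ _).mul_left 2) fun n hn => hn
  have hC0 : (s.C : G → ℂ) y = 0 := hyp.vanish hr hrg hy (z := qI ^ 2 - qI + 1)
    (by rw [dC]; exact dvd_mul_left _ _) fun n hn => hn
  have hcol : ∀ v : Cfsg.IrrCharacter G → ℤ, JankoThompson.Col v →
      ∑ χ, (v χ : ℂ) * (χ : G → ℂ) y = 0 := fun v hv => by
    rw [← hv y hyodd]
    exact Finset.sum_congr rfl fun χ _ => mul_comm _ _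
  have hA1 : (s.A : G → ℂ) y = -1 := by
    have h := hcol _ (D.col_vZ 1)
    rw [s.sum_x hj (fun χ : Cfsg.IrrCharacter G => (χ : G → ℂ) y), vA, vB, vC, hsg, hB0, hC0,
      show (JankoThompson.trivC G : G → ℂ) y = 1 from rfl] at h
    push_cast at h
    linear_combination h
  have hPR : (D.vH1 s.P : ℂ) * (s.P : G → ℂ) y + (D.vH1 s.R : ℂ) * (s.R : G → ℂ) y = 1 := by
    have h := hcol _ (D.col_vH1 hj)
    rw [s.sum_y hj (fun χ : Cfsg.IrrCharacter G => (χ : G → ℂ) y), vA, vB, hA1, hB0] at h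
    push_cast at h
    linear_combination h
  have hPR2 : (D.vH2 s.P2 : ℂ) * (s.P2 : G → ℂ) y + (D.vH2 s.R2 : ℂ) * (s.R2 : G → ℂ) y = 1 := by
    have h := hcol _ (D.col_vH2 hj)
    rw [s.sum_w hj (fun χ : Cfsg.IrrCharacter G => (χ : G → ℂ) y), vA, vB, hA1, hB0] at h
    push_cast at h
    linear_combination h
  -- the signed degrees
  obtain ⟨k, -, hqk⟩ := hyp.three
  obtain ⟨m, hm⟩ : ∃ m : ℤ, m = 3 ^ k := ⟨_, rfl⟩
  have hm0 : 0 < m := by rw [hm]; positivity
  have hqm : qI = 3 * m ^ 2 := by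
    rw [hm, hqk]; push_cast; rw [← pow_mul, pow_succ, Nat.mul_comm k 2]; ring
  set gp := qI + 1 + 3 * m with hgp
  set gm := qI + 1 - 3 * m with hgm
  set α := m * (qI - 1) * gm with hα
  set β := -(m * (qI - 1) * gp) with hβ
  have hgg : qI ^ 2 - qI + 1 = gp * gm := by
    rw [hgp, hgm]; linear_combination (-3 : ℤ) * hqm
  have hK : (JankoThompson.Kq E) = ((qI : ℚ) ^ 2 - 1) / ((qI : ℚ) * ((qI : ℚ) ^ 2 - qI + 1)) := by
    rw [JankoThompson.Kq, JankoThompson.natCard_C hj, hyp.card]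
    have h2u : 2 * (JankoThompson.uOf F : ℚ) = (qI : ℚ) - 1 := by
      have h := natCard_subD (F := F) hyp.two_ne
      rw [← hu] at h
      have h' : 2 * JankoThompson.uOf F + 1 = Fintype.card F := by omega
      have h'' : 2 * (JankoThompson.uOf F : ℚ) + 1 = (Fintype.card F : ℚ) := by exact_mod_cast h'
      push_cast
      linarith
    have h4r : 4 * (JankoThompson.rOf F : ℚ) = (qI : ℚ) + 1 := by
      have h'' : 4 * (JankoThompson.rOf F : ℚ) = (Fintype.card F : ℚ) + 1 := by exact_mod_cast hr4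
      push_cast
      linarith
    have hu' : (JankoThompson.uOf F : ℚ) = ((qI : ℚ) - 1) / 2 := by linarith
    have hr' : (JankoThompson.rOf F : ℚ) = ((qI : ℚ) + 1) / 4 := by linarith
    have hq0 : (qI : ℚ) ≠ 0 := by exact_mod_cast (show qI ≠ 0 by omega)
    have hq1 : (qI : ℚ) - 1 ≠ 0 := by
      have : (27 : ℚ) ≤ (qI : ℚ) := by exact_mod_cast (show (27 : ℤ) ≤ qI by omega)
      linarith
    have hg0 : (qI : ℚ) ^ 2 - qI + 1 ≠ 0 := by nlinarith
    push_cast [Nat.cast_sub (show 1 ≤ Fintype.card F by omega)] at hu' hr' ⊢ hq0 hq1 hg0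
    rw [hu', hr', div_eq_div_iff (by
      have : (0 : ℚ) < (Fintype.card F : ℚ) := by exact_mod_cast Fintype.card_pos
      have : (1 : ℚ) < (Fintype.card F : ℚ) := by exact_mod_cast (show 1 < Fintype.card F by omega)
      exact mul_ne_zero (mul_ne_zero (pow_ne_zero 3 hq0) (by positivity)) hq1) (mul_ne_zero hq0 hg0)]
    ring
  obtain ⟨hsA, hsB, hsC, hsP, hsR, hsP2, hsR2⟩ := s.sign hj
  obtain ⟨-, hsum1, hsum2⟩ := s.rel hj
  obtain ⟨-, E1, E2⟩ := s.eqs hj
  have eA : JankoThompson.sd (D.vZ 1) s.A = qI ^ 3 := by unfold JankoThompson.sd; rw [vA, dA]; ring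
  have eB : JankoThompson.sd (D.vZ 1) s.B = -(qI * (qI ^ 2 - qI + 1)) := by
    unfold JankoThompson.sd; rw [vB, dB]; ring
  -- the contribution of a pair of characters of one column
  have hfour : ∀ (v : Cfsg.IrrCharacter G → ℤ) (X Z : Cfsg.IrrCharacter G),
      (v X = 1 ∨ v X = -1) → (v Z = 1 ∨ v Z = -1) →
      JankoThompson.sd v X + JankoThompson.sd v Z =
        -(JankoThompson.sd (D.vZ 1) s.A + JankoThompson.sd (D.vZ 1) s.B) →
      (qI : ℚ) ^ 2 / (JankoThompson.sd (D.vZ 1) s.A : ℚ) +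
          (qI : ℚ) ^ 2 / (JankoThompson.sd (D.vZ 1) s.B : ℚ) +
          ((2 * (JankoThompson.rOf F : ℤ) + JankoThompson.sg F : ℤ) : ℚ) ^ 2 *
            (1 / (JankoThompson.sd v X : ℚ) + 1 / (JankoThompson.sd v Z : ℚ)) =
        ((qI : ℚ) / ((JankoThompson.rOf F : ℤ) : ℚ) - 1) * JankoThompson.Kq E →
      (v X : ℂ) * (X : G → ℂ) y + (v Z : ℂ) * (Z : G → ℂ) y = 1 →
      (X : G → ℂ) y / (ReeTypeS3.deg X : ℂ) + (Z : G → ℂ) y / (ReeTypeS3.deg Z : ℂ) =
        2 / ((if (r : ℤ) ∣ gp then α else β : ℤ) : ℂ) := by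
    intro v X Z hX hZ hsum hE hval
    obtain ⟨a, ha⟩ : ∃ a, a = JankoThompson.sd v X := ⟨_, rfl⟩
    obtain ⟨b, hb⟩ : ∃ b, b = JankoThompson.sd v Z := ⟨_, rfl⟩
    have ha0 : a ≠ 0 := ha ▸ JankoThompson.sd_ne_zero (by rcases hX with e | e <;> rw [e] <;> norm_num)
    have hb0 : b ≠ 0 := hb ▸ JankoThompson.sd_ne_zero (by rcases hZ with e | e <;> rw [e] <;> norm_num)
    rw [← ha, ← hb, eA, eB] at hE hsum
    have hsab : a + b = -(qI * (qI - 1)) := by rw [hsum]; ring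
    have hab : 12 * (a * b) = -(qI * (qI - 1) ^ 2 * (qI ^ 2 - qI + 1)) := by
      have hr' : ((JankoThompson.rOf F : ℤ) : ℚ) = ((qI : ℚ) + 1) / 4 := by
        have h'' : 4 * ((JankoThompson.rOf F : ℤ) : ℚ) = (qI : ℚ) + 1 := by
          exact_mod_cast (show 4 * (JankoThompson.rOf F : ℤ) = qI + 1 by exact_mod_cast hr4)
        linarith
      have h2r : ((2 * (JankoThompson.rOf F : ℤ) + JankoThompson.sg F : ℤ) : ℚ) = ((qI : ℚ) - 1) / 2 := by
        rw [hsg]
        push_cast at hr' ⊢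
        rw [hr']
        ring
      have hqq : (27 : ℚ) ≤ (qI : ℚ) := by exact_mod_cast (show (27 : ℤ) ≤ qI by omega)
      have hq0 : (qI : ℚ) ≠ 0 := by linarith
      have hg0 : (qI : ℚ) ^ 2 - qI + 1 ≠ 0 := by nlinarith
      have hp1 : (qI : ℚ) + 1 ≠ 0 := by linarith
      have hm1 : (qI : ℚ) - 1 ≠ 0 := by linarith
      have haq : (a : ℚ) ≠ 0 := by exact_mod_cast ha0
      have hbq : (b : ℚ) ≠ 0 := by exact_mod_cast hb0
      rw [hK, hr', h2r] at hE
      push_cast at hE hq0 hg0 hp1 hm1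
      have hmain : (1 / (a : ℚ) + 1 / (b : ℚ)) =
          12 / (((Fintype.card F : ℚ) - 1) * ((Fintype.card F : ℚ) ^ 2 - Fintype.card F + 1)) := by
        exact reciprocal_sum hq0 hg0 hp1 hm1 hE
      rw [one_div_add_one_div haq hbq, div_eq_div_iff (mul_ne_zero haq hbq) (mul_ne_zero hm1 hg0),
        show (a : ℚ) + (b : ℚ) = ((a + b : ℤ) : ℚ) by push_cast; ring, hsab] at hmain
      have hI : ((12 * (a * b) : ℤ) : ℚ) =
          ((-(qI * (qI - 1) ^ 2 * (qI ^ 2 - qI + 1)) : ℤ) : ℚ) := by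
        push_cast at hmain ⊢
        linear_combination -hmain
      exact_mod_cast hI
    have hroot : (2 * a - α) * (2 * a - β) = 0 := by
      have hαβ : α + β = -2 * (qI * (qI - 1)) := by
        rw [hα, hβ, hgp, hgm]; linear_combination (2 * (qI - 1)) * hqm
      have hprod : 3 * (α * β) = -(qI * (qI - 1) ^ 2 * (qI ^ 2 - qI + 1)) := by
        rw [hα, hβ, hgg]
        linear_combination ((qI - 1) ^ 2 * (gp * gm)) * hqm
      have h3 : (3 : ℤ) * ((2 * a - α) * (2 * a - β)) = 0 := by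
        linear_combination hprod - hab + 12 * a * hsab - 6 * a * hαβ
      exact (mul_eq_zero.1 h3).resolve_left (by norm_num)
    have hdd : (2 * a = α ∧ 2 * b = β) ∨ (2 * a = β ∧ 2 * b = α) := by
      have hαβ : α + β = -2 * (qI * (qI - 1)) := by
        rw [hα, hβ, hgp, hgm]; linear_combination (2 * (qI - 1)) * hqm
      rcases mul_eq_zero.1 hroot with e | e
      · exact Or.inl ⟨by linarith, by linarith⟩
      · exact Or.inr ⟨by linarith, by linarith⟩
    have hvan : ∀ (W : Cfsg.IrrCharacter G), (v W = 1 ∨ v W = -1) →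
        2 * JankoThompson.sd v W = (if (r : ℤ) ∣ gp then β else α) → (W : G → ℂ) y = 0 := by
      intro W hW hd
      have hdeg : 2 * (ReeTypeS3.deg W : ℤ) = v W * (2 * JankoThompson.sd v W) := by
        unfold JankoThompson.sd
        rcases hW with e | e <;> rw [e] <;> ring
      have hdisj : ¬ ((r : ℤ) ∣ gp ∧ (r : ℤ) ∣ gm) := by
        rintro ⟨h1, h2⟩
        have h6 : (r : ℤ) ∣ 6 * m := by
          have := dvd_sub h1 h2
          rwa [show gp - gm = 6 * m by rw [hgp, hgm]; ring] at this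
        rw [hm] at h6
        have h6' : r ∣ 6 * 3 ^ k := by exact_mod_cast h6
        rcases hr.dvd_mul.1 h6' with h | h
        · have := Nat.le_of_dvd (by norm_num) h
          interval_cases r <;> first | (norm_num at hr; done) | (norm_num at h; done)
        · have := (Nat.prime_dvd_prime_iff_eq hr Nat.prime_three).1 (hr.dvd_of_dvd_pow h)
          omega
      have hpr : Prime (r : ℤ) := Nat.prime_iff_prime_int.1 hr
      split_ifs at hd with hgp'
      · refine hyp.vanish hr hrg hy (z := gp) ?_ fun n hn => ?_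
        · rw [hdeg, hd, hβ]
          exact ((dvd_mul_left _ _).neg_right).mul_left _
        · rw [hgg] at hn
          exact hpr.pow_dvd_of_dvd_mul_right n (fun h => hdisj ⟨hgp', h⟩) hn
      · refine hyp.vanish hr hrg hy (z := gm) ?_ fun n hn => ?_
        · rw [hdeg, hd, hα]
          exact (dvd_mul_left _ _).mul_left _
        · rw [hgg] at hn
          exact hpr.pow_dvd_of_dvd_mul_left n hgp' hn
    rw [div_deg_eq hX, div_deg_eq hZ, ← ha, ← hb]
    have hcast : ∀ c d : ℤ, 2 * c = d → d ≠ 0 → (1 : ℂ) / (c : ℂ) = 2 / (d : ℂ) := by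
      intro c d h hd
      have hc : c ≠ 0 := fun e => hd (by rw [← h, e, mul_zero])
      rw [div_eq_div_iff (by exact_mod_cast hc) (by exact_mod_cast hd)]
      have h' : 2 * (c : ℂ) = (d : ℂ) := by exact_mod_cast h
      linear_combination -h'
    have hne : α ≠ 0 ∧ β ≠ 0 := by
      constructor <;> intro e
      · rcases hdd with ⟨h, -⟩ | ⟨-, h⟩ <;> omega
      · rcases hdd with ⟨-, h⟩ | ⟨h, -⟩ <;> omega
    split_ifs with hgp'
    · rcases hdd with ⟨h1, h2⟩ | ⟨h1, h2⟩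
      · have h0 := hvan Z hZ (by rw [if_pos hgp', ← hb, h2])
        rw [h0, mul_zero, add_zero] at hval
        rw [h0, mul_zero, zero_div, add_zero, hval, hcast a α h1 hne.1]
      · have h0 := hvan X hX (by rw [if_pos hgp', ← ha, h1])
        rw [h0, mul_zero, zero_add] at hval
        rw [h0, mul_zero, zero_div, zero_add, hval, hcast b α h2 hne.1]
    · rcases hdd with ⟨h1, h2⟩ | ⟨h1, h2⟩
      · have h0 := hvan X hX (by rw [if_neg hgp', ← ha, h1])
        rw [h0, mul_zero, zero_add] at hval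
        rw [h0, mul_zero, zero_div, zero_add, hval, hcast b β h2 hne.2]
      · have h0 := hvan Z hZ (by rw [if_neg hgp', ← hb, h2])
        rw [h0, mul_zero, add_zero] at hval
        rw [h0, mul_zero, zero_div, add_zero, hval, hcast a β h1 hne.2]
  have h1 := hfour D.vH1 s.P s.R hsP hsR hsum1 E1 hPR
  have h2 := hfour D.vH2 s.P2 s.R2 hsP2 hsR2 hsum2 E2 hPR2
  -- the class algebra sum
  have hsum := JankoThompson.sum_col_Tz (E := E) hj y
  rw [hpairs, Nat.cast_zero, zero_mul] at hsum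
  obtain ⟨tA, tB, tC, tP, tR, tP2, tR2⟩ := s.hT hj
  have hzero : ∀ χ, χ ∉ [JankoThompson.trivC G, s.A, s.B, s.C, s.P, s.R, s.P2, s.R2] →
      (χ : G → ℂ) y * ((JankoThompson.Tz E χ : ℂ) ^ 2 / (ReeTypeS3.deg χ : ℂ)) = 0 := by
    intro χ hχ
    simp only [List.mem_cons, List.not_mem_nil, or_false, not_or] at hχ
    obtain ⟨n0, n1, n2, n3, n4, n5, n6, n7⟩ := hχ
    by_cases hP : ∃ ν, ν ≠ 1 ∧ D.vP ν χ ≠ 0
    · obtain ⟨ν, hν, hne⟩ := hP
      rw [hvP0 ν hν χ hne, zero_mul]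
    by_cases hZ : ∃ τ, τ ≠ 1 ∧ D.vZ τ χ ≠ 0
    · obtain ⟨τ, hτ, hne⟩ := hZ
      rw [hvZ0 τ hτ χ hne, zero_mul]
    push Not at hP hZ
    rw [D.plain_Tz hj ⟨hP, hZ⟩, s.x_zero χ n0 n1 n2 n3, s.y_zero χ n1 n2 n4 n5,
      s.w_zero χ n1 n2 n6 n7]
    simp
  rw [JankoThompson.list_sum_eq _ s.nodup _ hzero] at hsum
  have hT2 : ∀ {χ : Cfsg.IrrCharacter G} {a T : ℤ}, (a = 1 ∨ a = -1) →
      JankoThompson.Tz E χ = a * T → (JankoThompson.Tz E χ : ℂ) ^ 2 = (T : ℂ) ^ 2 := by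
    intro χ a T ha hT
    rw [hT]
    rcases ha with e | e <;> rw [e] <;> push_cast <;> ring
  simp only [List.map_cons, List.map_nil, List.sum_cons, List.sum_nil, hB0, hC0, hA1, zero_mul,
    add_zero, zero_add, hT2 hsA tA, hT2 hsP tP, hT2 hsR tR, hT2 hsP2 tP2, hT2 hsR2 tR2,
    JankoThompson.Tz_trivC, JankoThompson.deg_trivC,
    show (JankoThompson.trivC G : G → ℂ) y = 1 from rfl] at hsum
  have hu2 : ((2 * (JankoThompson.rOf F : ℤ) + JankoThompson.sg F : ℤ) : ℂ) = (qC - 1) / 2 := by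
    have h : 2 * (2 * (JankoThompson.rOf F : ℤ) + JankoThompson.sg F) = qI - 1 := by
      rw [hsg]
      have : 4 * (JankoThompson.rOf F : ℤ) = qI + 1 := by exact_mod_cast hr4
      linarith
    have h' : ((2 * (2 * (JankoThompson.rOf F : ℤ) + JankoThompson.sg F) : ℤ) : ℂ) =
        ((qI - 1 : ℤ) : ℂ) := by rw [h]
    push_cast at h' ⊢
    linear_combination (1 / 2 : ℂ) * h'
  have hdA : (ReeTypeS3.deg s.A : ℂ) = qC ^ 3 := by exact_mod_cast dA
  rw [hdA, hu2] at hsum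
  set γ : ℤ := if (r : ℤ) ∣ gp then α else β with hγ
  have key : 1 - 1 / qC + 2 * ((qC - 1) / 2) ^ 2 * (2 / (γ : ℂ)) = 0 := by
    rw [← hsum]
    have hq0 : qC ≠ 0 := Nat.cast_ne_zero.2 (by omega)
    calc 1 - 1 / qC + 2 * ((qC - 1) / 2) ^ 2 * (2 / (γ : ℂ))
        = 1 - 1 / qC + ((qC - 1) / 2) ^ 2 *
            ((s.P : G → ℂ) y / (ReeTypeS3.deg s.P : ℂ) + (s.R : G → ℂ) y / (ReeTypeS3.deg s.R : ℂ)) +
          ((qC - 1) / 2) ^ 2 *
            ((s.P2 : G → ℂ) y / (ReeTypeS3.deg s.P2 : ℂ) +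
              (s.R2 : G → ℂ) y / (ReeTypeS3.deg s.R2 : ℂ)) := by rw [h1, h2]; ring
      _ = _ := by
        push_cast
        field_simp
        ring
  -- the sum is not zero
  have hγr : (γ : ℂ) = ((γ : ℝ) : ℂ) := by push_cast; rfl
  have keyR : 1 - 1 / (Fintype.card F : ℝ) + 2 * (((Fintype.card F : ℝ) - 1) / 2) ^ 2 * (2 / (γ : ℝ)) = 0 := by
    have h : ((1 - 1 / (Fintype.card F : ℝ) + 2 * (((Fintype.card F : ℝ) - 1) / 2) ^ 2 * (2 / (γ : ℝ)) : ℝ) : ℂ) =
        ((0 : ℝ) : ℂ) := by push_cast; exact key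
    exact Complex.ofReal_injective h
  have hq : (27 : ℝ) ≤ (Fintype.card F : ℝ) := by exact_mod_cast h27
  have hmR : (0 : ℝ) < (m : ℝ) := by exact_mod_cast hm0
  have hqmR : (Fintype.card F : ℝ) = 3 * (m : ℝ) ^ 2 := by exact_mod_cast hqm
  by_cases hc : (r : ℤ) ∣ gp
  · rw [hγ, if_pos hc, hα, hgm] at keyR
    push_cast at keyR
    have hg0 : (0 : ℝ) < (Fintype.card F : ℝ) + 1 - 3 * (m : ℝ) := by
      nlinarith [sq_nonneg ((m : ℝ) - 1 / 2)]
    have h1' : 0 < 1 - 1 / (Fintype.card F : ℝ) := by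
      rw [sub_pos, div_lt_one (by linarith)]; linarith
    have h2' : 0 ≤ 2 * (((Fintype.card F : ℝ) - 1) / 2) ^ 2 *
        (2 / ((m : ℝ) * ((Fintype.card F : ℝ) - 1) * ((Fintype.card F : ℝ) + 1 - 3 * (m : ℝ)))) := by
      have : (0 : ℝ) < (Fintype.card F : ℝ) - 1 := by linarith
      positivity
    linarith
  · rw [hγ, if_neg hc, hβ, hgp] at keyR
    push_cast at keyR
    have hq1 : (Fintype.card F : ℝ) - 1 ≠ 0 := by linarith
    have hg0 : (0 : ℝ) < (Fintype.card F : ℝ) + 1 + 3 * (m : ℝ) := by linarith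
    field_simp at keyR
    nlinarith [mul_pos hmR hg0, mul_pos (show (0 : ℝ) < (Fintype.card F : ℝ) - 1 by linarith)
      (mul_pos hmR hg0), sq_nonneg ((m : ℝ) - 1)]

end RHyp

end CfsgLib.WalterCons
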