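import Cfsg.Agent.WalterCons.PiHomogPSL
import Cfsg.Agent.WalterCons.PiHomogReduction
import Cfsg.Agent.WalterCons.NoTwoTransitive
import Cfsg.Agent.WalterCons.ReeRealElements
import Cfsg.Agent.GW.Classification
import Mathlib

/-!
# Homogeneity for sets of odd primes with abelian or dihedral Sylow 2-subgroups

The classification of the groups with abelian Sylow 2-subgroups is the hypothesis
`AbelianTwoThm`; the conclusion is S4047.
-/

set_option autoImplicit false
set_option linter.unusedSectionVars false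
set_option linter.style.haveILetI false
set_option maxRecDepth 8000

namespace CfsgLib.WalterCons

open CfsgLib.GroupBasics CfsgLib.ReeTypeS3
open scoped MatrixGroups

universe u v

variable {π : Set ℕ} {G : Type u} [Group G] [Finite G]

theorem dvd_card_sl_of_dvd_psl {F : Type v} [Field F] [Fintype F] {r : ℕ}
    (h : r ∣ Nat.card (Matrix.ProjectiveSpecialLinearGroup (Fin 2) F)) :
    r ∣ Nat.card SL(2, F) :=
  h.trans (Subgroup.card_quotient_dvd_card _)

/-- The case `PSL₂(q)`. -/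
theorem false_of_psl (hG : OddHyp π G) {r : ℕ} (hr : r.Prime) (hrπ : r ∈ π)
    (hd : r ∣ Nat.card G) {F : Type v} [Field F] [Fintype F] (hq : 4 ≤ Fintype.card F)
    (e : G ≃* Matrix.ProjectiveSpecialLinearGroup (Fin 2) F) : False :=
  not_piHomog_psl hG.odd hq hr hrπ (dvd_card_sl_of_dvd_psl (Nat.card_congr e.toEquiv ▸ hd))
    (piHomog_of_injective hG.homog e.symm.toMonoidHom e.symm.injective)

/-- If every automizer prime of a Sylow subgroup of prime order is excluded, the group is not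
simple. -/
theorem exists_automizer_prime [IsSimpleGroup G] (hG : OddHyp π G) {r : ℕ} (hr : r.Prime)
    (hrπ : r ∈ π) (hd : r ∣ Nat.card G) (hd2 : ¬ r * r ∣ Nat.card G) (hne : r < Nat.card G) :
    ∃ l : ℕ, l.Prime ∧ l ∣ r - 1 ∧ l ∈ π := by
  haveI : Fact r.Prime := ⟨hr⟩
  obtain ⟨P⟩ : Nonempty (Sylow r G) := inferInstance
  have hP : Nat.card (P : Subgroup G) = r := by
    rw [P.card_eq_multiplicity]
    have h1 : 1 ≤ (Nat.card G).factorization r :=
      hr.dvd_iff_one_le_factorization Nat.card_pos.ne' |>.1 hd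
    have h2 : ¬ 2 ≤ (Nat.card G).factorization r := fun h => hd2 (by
      rw [← pow_two]
      exact (hr.pow_dvd_iff_le_factorization Nat.card_pos.ne').2 h)
    rw [show (Nat.card G).factorization r = 1 by omega, pow_one]
  haveI : IsCyclic (P : Subgroup G) := isCyclic_of_prime_card hP
  set N := Subgroup.normalizer ((P : Subgroup G) : Set G) with hN
  set C := Subgroup.centralizer ((P : Subgroup G) : Set G) with hC
  have hne1 : C.relIndex N ≠ 1 := by
    intro h1
    have hle : N ≤ C := Subgroup.relIndex_eq_one.1 h1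
    have hcp := MonoidHom.ker_transferSylow_isComplement' P hle
    rcases IsSimpleGroup.eq_bot_or_eq_top_of_normal (MonoidHom.transferSylow P hle).ker
      inferInstance with h | h
    · have := hcp.card_mul_card
      rw [h, Subgroup.card_bot, one_mul, hP] at this
      omega
    · have := hcp.card_mul_card
      rw [h, Subgroup.card_top, hP] at this
      nlinarith [hr.two_le, (Nat.card_pos : 0 < Nat.card G)]
  obtain ⟨l, hl, hld⟩ := Nat.exists_prime_and_dvd hne1
  refine ⟨l, hl, ?_, ?_⟩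
  · let φ := (P : Subgroup G).normalizerMonoidHom
    have hker : φ.ker = C.subgroupOf N := (P : Subgroup G).normalizerMonoidHom_ker
    have h : C.relIndex N ∣ Nat.card (MulAut (P : Subgroup G)) := by
      rw [Subgroup.relIndex, ← hker, Subgroup.index_ker]
      exact Subgroup.card_subgroup_dvd_card _
    rw [IsCyclic.card_mulAut, hP, Nat.totient_prime hr] at h
    exact hld.trans h
  · by_contra hlπ
    haveI : Fact l.Prime := ⟨hl⟩
    refine not_dvd_relIndex_of_forall (fun a ha hak => ?_) hld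
    obtain ⟨k, hk⟩ := hak
    exact hG.homog (P : Subgroup G) (fun p hp hpd hpc => by
      rw [hP] at hpd
      exact hpc ((Nat.prime_dvd_prime_iff_eq hp hr).1 hpd ▸ hrπ)) a ha
      (hk ▸ piNum_prime_pow hl hlπ k)

/-- The case `A₇`. -/
theorem false_of_altSeven (hG : OddHyp π G) {r : ℕ} (hr : r.Prime) (hrπ : r ∈ π)
    (hd : r ∣ Nat.card G) (e : G ≃* alternatingGroup (Fin 7)) : False := by
  have hA := piHomog_of_injective hG.homog e.symm.toMonoidHom e.symm.injective
  have key : ∀ (x t : alternatingGroup (Fin 7)) (l : ℕ), l.Prime → l ∈ π → x ≠ 1 → x ^ l = 1 →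
      t * t = 1 → t * x * t⁻¹ = x⁻¹ → False := fun x t l hl hlπ hx hxl ht htx => by
    haveI : Fact l.Prime := ⟨hl⟩
    exact false_of_inverted hG.odd hA hl hlπ (orderOf_eq_prime hxl hx) ht htx
  let x3 : alternatingGroup (Fin 7) :=
    ⟨Equiv.swap 0 1 * Equiv.swap 1 2, by rw [Equiv.Perm.mem_alternatingGroup]; decide⟩
  let t3 : alternatingGroup (Fin 7) :=
    ⟨Equiv.swap 0 1 * Equiv.swap 3 4, by rw [Equiv.Perm.mem_alternatingGroup]; decide⟩
  let x5 : alternatingGroup (Fin 7) :=
    ⟨Equiv.swap 0 1 * Equiv.swap 1 2 * Equiv.swap 2 3 * Equiv.swap 3 4,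
      by rw [Equiv.Perm.mem_alternatingGroup]; decide⟩
  let t5 : alternatingGroup (Fin 7) :=
    ⟨Equiv.swap 1 4 * Equiv.swap 2 3, by rw [Equiv.Perm.mem_alternatingGroup]; decide⟩
  have h3 : ∀ l : ℕ, l = 3 → l ∈ π → False := fun l h hlπ =>
    key x3 t3 l (h ▸ Nat.prime_three) hlπ (by decide) (by subst h; decide) (by decide) (by decide)
  have h5 : ∀ l : ℕ, l = 5 → l ∈ π → False := fun l h hlπ =>
    key x5 t5 l (h ▸ Nat.prime_five) hlπ (by decide) (by subst h; decide) (by decide) (by decide)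
  have hcard : Nat.card G = 2520 := by
    rw [Nat.card_congr e.toEquiv, nat_card_alternatingGroup, Nat.card_fin]; rfl
  rw [hcard] at hd
  have hle : r = 2 ∨ r = 3 ∨ r = 5 ∨ r = 7 := by
    rw [show 2520 = 2 ^ 3 * 3 ^ 2 * 5 * 7 by rfl] at hd
    rcases hr.dvd_mul.1 hd with h | h
    · rcases hr.dvd_mul.1 h with h | h
      · rcases hr.dvd_mul.1 h with h | h
        · exact Or.inl ((Nat.prime_dvd_prime_iff_eq hr Nat.prime_two).1 (hr.dvd_of_dvd_pow h))
        · exact Or.inr (Or.inl
            ((Nat.prime_dvd_prime_iff_eq hr Nat.prime_three).1 (hr.dvd_of_dvd_pow h)))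
      · exact Or.inr (Or.inr (Or.inl ((Nat.prime_dvd_prime_iff_eq hr Nat.prime_five).1 h)))
    · exact Or.inr (Or.inr (Or.inr ((Nat.prime_dvd_prime_iff_eq hr (by norm_num)).1 h)))
  rcases hle with h | h | h | h
  · exact hG.odd (h ▸ hrπ)
  · exact h3 r h hrπ
  · exact h5 r h hrπ
  subst h
  let x7 : alternatingGroup (Fin 7) :=
    ⟨Equiv.swap 0 1 * Equiv.swap 1 2 * Equiv.swap 2 3 * Equiv.swap 3 4 * Equiv.swap 4 5 *
      Equiv.swap 5 6, by rw [Equiv.Perm.mem_alternatingGroup]; decide⟩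
  let a7 : alternatingGroup (Fin 7) :=
    ⟨Equiv.swap 1 2 * Equiv.swap 2 4 * Equiv.swap 3 6 * Equiv.swap 6 5,
      by rw [Equiv.Perm.mem_alternatingGroup]; decide⟩
  by_cases hπ3 : 3 ∈ π
  · exact h3 3 rfl hπ3
  haveI : Fact (Nat.Prime 7) := ⟨hr⟩
  have hx7 : orderOf x7 = 7 := orderOf_eq_prime (by decide) (by decide)
  have hn : a7 ∈ Subgroup.normalizer ((Subgroup.zpowers x7 : Subgroup _) : Set _) := by
    have h : a7 * x7 * a7⁻¹ = x7 ^ 2 := by decide
    have hmap : (Subgroup.zpowers x7).map (MulAut.conj a7).toMonoidHom = Subgroup.zpowers x7 := by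
      rw [MonoidHom.map_zpowers, MulEquiv.coe_toMonoidHom, MulAut.conj_apply, h]
      refine le_antisymm (Subgroup.zpowers_le.2 (pow_mem (Subgroup.mem_zpowers x7) 2))
        (Subgroup.zpowers_le.2 ?_)
      have h8 : (x7 ^ 2) ^ 4 = x7 := by
        rw [← pow_mul, ← pow_mod_orderOf, hx7]
        exact pow_one x7
      have h9 := pow_mem (Subgroup.mem_zpowers (x7 ^ 2)) 4
      rwa [h8] at h9
    rw [Subgroup.mem_normalizer_iff]
    intro y
    conv_rhs => rw [← hmap]
    rw [Subgroup.mem_map_equiv]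
    simp [mul_assoc]
  have hc := Subgroup.mem_centralizer_iff.1 (hA (Subgroup.zpowers x7) (fun p hp hpd hpc => by
    rw [Nat.card_zpowers, hx7] at hpd
    exact hpc ((Nat.prime_dvd_prime_iff_eq hp hr).1 hpd ▸ hrπ)) a7 hn (by
      intro p hp hpd
      have h : orderOf a7 ∣ 3 := orderOf_dvd_of_pow_eq_one (by decide)
      exact (Nat.prime_dvd_prime_iff_eq hp Nat.prime_three).1 (hpd.trans h) ▸ hπ3))
    x7 (Subgroup.mem_zpowers x7)
  exact absurd hc (by decide)

/-- The Janko–Ree case. -/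
theorem false_of_isJR [IsSimpleGroup G] (hna : ¬ IsMulCommutative G) (P : Sylow 2 G)
    (hP : IsMulCommutative (P : Subgroup G)) (hJ : Walter.IsJR G) (hG : OddHyp π G) {r : ℕ}
    (hr : r.Prime) (hrπ : r ∈ π) (hd : r ∣ Nat.card G) : False := by
  haveI : Fact (Nat.Prime 2) := ⟨Nat.prime_two⟩
  obtain ⟨t, ht⟩ := exists_prime_orderOf_dvd_card' (G := G) 2 (two_dvd_card hna)
  obtain ⟨F, iF, fF, hmod, h5, ⟨e⟩⟩ := hJ.2 t ht
  let f : Matrix.ProjectiveSpecialLinearGroup (Fin 2) F →* G :=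
    (Subgroup.subtype _).comp (e.symm.toMonoidHom.comp (MonoidHom.inr _ _))
  have hf : Function.Injective f :=
    Subtype.val_injective.comp (e.symm.injective.comp fun a b h => congrArg Prod.snd h)
  have hpsl : ∀ l : ℕ, l.Prime → l ∈ π → l ∣ Nat.card SL(2, F) → False := fun l hl hlπ hld =>
    not_piHomog_psl hG.odd (by omega) hl hlπ hld (piHomog_of_injective hG.homog f hf)
  have hsl : Nat.card SL(2, F) = Fintype.card F * (Fintype.card F ^ 2 - 1) :=
    CfsgLib.Linear.card_SL_two (F := F)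
  have hab : ∀ Q : Sylow 2 G, ∀ a b : Q, a * b = b * a := by
    intro Q a b
    obtain ⟨g, hg⟩ := MulAction.exists_smul_eq G Q P
    let f := Sylow.equiv Q P
    exact f.injective (by rw [map_mul, map_mul]; exact hP.is_comm.comm _ _)
  rcases JankoThompson.main hab (by omega) t ht e with ⟨m, hm, hq, hcard⟩ | ⟨hq, hJ1⟩
  · haveI := Fintype.ofFinite G
    obtain ⟨⟨l, n, hlm⟩, hcen⟩ := JankoThompson.psl_facts (F := F) (by omega)
    obtain ⟨E, -⟩ := JankoThompson.exists_emb hcen ht e
    obtain ⟨hperf, -⟩ := JankoThompson.perfect_of_noncomm (G := G) (l := E.ι l) (m := E.ι n)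
      fun h => hlm (E.inj (by rw [map_mul, map_mul, h]))
    have hyp : RHyp E :=
      { jt :=
          { simple := inferInstance
            perf := hperf
            ab := hab
            mod8 := ⟨by omega, hmod⟩ }
        three := ⟨m, hm, hq⟩
        card := by rw [hcard, hq] }
    have hq1 : 1 ≤ Fintype.card F := by omega
    have hq2 : 1 ≤ Fintype.card F ^ 2 := Nat.one_le_pow _ _ (by omega)
    by_cases hrs : r ∣ Nat.card SL(2, F)
    · exact hpsl r hr hrπ hrs
    haveI : Fact r.Prime := ⟨hr⟩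
    have hrg : (r : ℤ) ∣ (Fintype.card F : ℤ) ^ 2 - (Fintype.card F : ℤ) + 1 := by
      have hp : Prime (r : ℤ) := Nat.prime_iff_prime_int.1 hr
      have h1 : (r : ℤ) ∣ (Nat.card G : ℤ) := by exact_mod_cast hd
      have h2 : ¬ (r : ℤ) ∣ (Nat.card SL(2, F) : ℤ) := fun h => hrs (by exact_mod_cast h)
      rw [hyp.card] at h1
      rw [hsl] at h2
      push_cast [Nat.cast_sub hq1] at h1
      push_cast [Nat.cast_sub hq2] at h2
      rcases hp.dvd_mul.1 h1 with h | h
      · rcases hp.dvd_mul.1 h with h | h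
        · exact absurd ((hp.dvd_of_dvd_pow h).mul_right _) h2
        · rw [show (Fintype.card F : ℤ) ^ 3 + 1 = ((Fintype.card F : ℤ) + 1) *
            ((Fintype.card F : ℤ) ^ 2 - (Fintype.card F : ℤ) + 1) by ring] at h
          rcases hp.dvd_mul.1 h with h | h
          · refine absurd (Dvd.dvd.mul_left (h.trans ⟨(Fintype.card F : ℤ) - 1, ?_⟩) _) h2
            ring
          · exact h
      · refine absurd (Dvd.dvd.mul_left (h.trans ⟨(Fintype.card F : ℤ) + 1, ?_⟩) _) h2
        ring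
    obtain ⟨y, hy⟩ := exists_prime_orderOf_dvd_card' (G := G) r hd
    obtain ⟨x, hx, hxy⟩ := hyp.exists_inverting hr hrg hy
    exact false_of_inverted hG.odd hG.homog hr hrπ hy hx hxy
  · have h35 : ∀ l : ℕ, l = 3 ∨ l = 5 → l ∈ π → False := fun l hl hlπ =>
      hpsl l (by rcases hl with rfl | rfl <;> norm_num) hlπ (by
        rw [hsl]
        rcases hq with h | h <;> rw [h] <;> rcases hl with rfl | rfl <;> norm_num)
    have hrs : r = 2 ∨ r = 3 ∨ r = 5 ∨ r = 7 ∨ r = 11 ∨ r = 19 := by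
      have h : r ∣ 2 ^ 3 * 3 * 5 * 7 * 11 * 19 := by
        rw [hJ1.2] at hd
        exact hd
      simp only [hr.dvd_mul] at h
      rcases h with ((((h | h) | h) | h) | h) | h
      · exact Or.inl ((Nat.prime_dvd_prime_iff_eq hr Nat.prime_two).1 (hr.dvd_of_dvd_pow h))
      all_goals have := (Nat.prime_dvd_prime_iff_eq hr (by norm_num)).1 h; tauto
    by_cases h : r = 3 ∨ r = 5
    · exact h35 r h hrπ
    by_cases h2 : r = 2
    · exact hG.odd (h2 ▸ hrπ)
    have hbig : r = 7 ∨ r = 11 ∨ r = 19 := by tauto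
    obtain ⟨l, hl, hld, hlπ⟩ := exists_automizer_prime hG hr hrπ hd
      (by rw [hJ1.2]; rcases hbig with rfl | rfl | rfl <;> norm_num)
      (by rw [hJ1.2]; rcases hbig with rfl | rfl | rfl <;> norm_num)
    have hl' : l = 2 ∨ l = 3 ∨ l = 5 := by
      have hle := Nat.le_of_dvd (by have := hr.two_le; omega) hld
      rcases hbig with rfl | rfl | rfl <;> norm_num at hld hle <;>
        interval_cases l <;>
          first | omega | exact absurd hl (by norm_num)
    rcases hl' with rfl | hl'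
    · exact hG.odd hlπ
    · exact h35 l hl' hlπ

/-- No odd prime of a simple group is homogeneous. -/
theorem false_of_simple (hW : AbelianTwoThm.{u}) (hS : IsSimpleGroup G)
    (hna : ¬ IsMulCommutative G) (hG : OddHyp π G) {r : ℕ} (hr : r.Prime) (hrπ : r ∈ π)
    (hd : r ∣ Nat.card G) : False := by
  haveI := hS
  obtain ⟨S⟩ : Nonempty (Sylow 2 G) := inferInstance
  by_cases hab : IsMulCommutative (S : Subgroup G)
  · rcases hW G hS hna S hab with ⟨a, ha, F, iF, fF, hF, ⟨e⟩⟩ | ⟨F, iF, fF, hF, ⟨e⟩⟩ | hJ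
    · refine false_of_psl hG hr hrπ hd ?_ e
      rw [hF]
      exact (show 2 ^ 2 = 4 by rfl) ▸ Nat.pow_le_pow_right two_pos ha
    · exact false_of_psl hG hr hrπ hd (four_le_of_simple hna hF e) e
    · exact false_of_isJR hna S hab hJ hG hr hrπ hd
  rcases hG.two with h | h
  · exact hab (h _ S.2)
  rcases h.cyclic_or_dihedral S with hc | ⟨n, hn, he⟩
  · haveI := hc
    refine hab ⟨⟨fun a b => ?_⟩⟩
    obtain ⟨c, hc'⟩ := IsCyclic.exists_generator (α := (S : Subgroup G))
    obtain ⟨i, rfl⟩ := Subgroup.mem_zpowers_iff.1 (hc' a)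
    obtain ⟨j, rfl⟩ := Subgroup.mem_zpowers_iff.1 (hc' b)
    rw [← zpow_add, ← zpow_add, add_comm]
  rcases GW.simple_dihedral S n hn he with ⟨F, iF, fF, -, h3, he'⟩ | he'
  · obtain ⟨e⟩ := he'
    exact false_of_psl hG hr hrπ hd (by omega) e
  · obtain ⟨e⟩ := he'
    exact false_of_altSeven hG hr hrπ hd e

/-- S4047, given the classification. -/
theorem closed_of_dihedral_or_abelian (hW : AbelianTwoThm.{u}) (π : Set ℕ)
    (hodd : ∀ p ∈ π, p.Prime ∧ p ≠ 2)
    (h2 : ∀ S : Sylow 2 G, IsMulCommutative S ∨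
      ∃ n : ℕ, Nonempty ((S : Subgroup G) ≃* DihedralGroup n))
    (hhom : ∀ H : Subgroup G, H ≠ ⊥ → (∀ p : ℕ, p.Prime → p ∣ Nat.card ↥H → p ∈ π) →
      ∀ p : ℕ, p.Prime → p ∣ (Subgroup.centralizer (H : Set G)).relIndex
        (Subgroup.normalizer (H : Set G)) → p ∈ π) :
    ∃ K : Subgroup G, ∀ x : G, x ∈ K ↔ ∀ p : ℕ, p.Prime → p ∣ orderOf x → p ∉ π := by
  have h2' : TwoOK G := by
    obtain ⟨S⟩ : Nonempty (Sylow 2 G) := inferInstance
    rcases h2 S with h | ⟨n, ⟨e⟩⟩
    · exact twoOK_of_sylow_comm S h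
    · exact Or.inr (GW.dihType_of_sylow S e)
  exact closed_of_oddHyp (fun X _ _ hS hna hX r hr hrπ hd => false_of_simple hW hS hna hX hr hrπ hd)
    _ G (Nat.lt_succ_self _) ⟨fun h => (hodd 2 h).2 rfl, h2', piHomog_of_relIndex fun H hH hHc p hp hd =>
      fun hpc => hpc (hhom H hH (fun q hq hqd => not_not.1 (hHc q hq hqd)) p hp hd)⟩

end CfsgLib.WalterCons
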