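import Cfsg.Agent.PLocal.PSolvable
import Cfsg.Agent.PLocal.Cores
import Mathlib

/-!
# Solvable groups with an abelian Sylow `p`-subgroup
-/

set_option autoImplicit false
set_option linter.style.haveILetI false
set_option linter.unusedSectionVars false

namespace CfsgLib.WalterCons

open Subgroup

variable {H : Type*} [Group H] [Finite H] {p : ℕ} [hp : Fact p.Prime]

/-- With trivial `p'`-core an abelian Sylow subgroup is normal and self-centralising. -/
theorem normal_sylow_of_core_eq_bot [Group.IsSolvable H] (hO : Cfsg.pPrimeCore p H = ⊥)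
    (S : Sylow p H) (hS : ∀ a ∈ (S : Subgroup H), ∀ b ∈ (S : Subgroup H), a * b = b * a) :
    (S : Subgroup H).Normal ∧ centralizer ((S : Subgroup H) : Set H) ≤ (S : Subgroup H) := by
  have hc := CfsgLib.PLocal.centralizer_pCore_le
    (CfsgLib.PLocal.isPSolvable_of_isSolvable (p := p) (G := H)) hO
  have hP : Cfsg.pCore p H ≤ (S : Subgroup H) := CfsgLib.PLocal.pCore_le_sylow S
  have hSP : (S : Subgroup H) ≤ Cfsg.pCore p H := fun s hs => hc
    (mem_centralizer_iff.2 fun x hx => hS x (hP hx) s hs)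
  have he : Cfsg.pCore p H = (S : Subgroup H) := le_antisymm hP hSP
  exact ⟨he ▸ inferInstance, he ▸ hc⟩

/-- A `p'`-subgroup normalised by an abelian Sylow subgroup lies in the `p'`-core. -/
theorem le_core_of_sylow [Group.IsSolvable H] (S : Sylow p H)
    (hS : ∀ a ∈ (S : Subgroup H), ∀ b ∈ (S : Subgroup H), a * b = b * a) {X : Subgroup H}
    (hX : (Nat.card X).Coprime p) (hinv : (S : Subgroup H) ≤ normalizer (X : Set H)) :
    X ≤ Cfsg.pPrimeCore p H := by
  set O := Cfsg.pPrimeCore p H with hOdef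
  set f := QuotientGroup.mk' O with hf
  set S' : Sylow p (H ⧸ O) := S.mapSurjective (QuotientGroup.mk'_surjective O)
  have hS'c : (S' : Subgroup (H ⧸ O)) = (S : Subgroup H).map f := Sylow.coe_mapSurjective _ S
  obtain ⟨hN, hC⟩ := normal_sylow_of_core_eq_bot
    (CfsgLib.PLocal.pPrimeCore_quotient_pPrimeCore_eq_bot p H) S' (by
      rw [hS'c]
      rintro _ ⟨a, ha, rfl⟩ _ ⟨b, hb, rfl⟩
      rw [← map_mul, ← map_mul, hS a ha b hb])
  have hdisj : X.map f ⊓ (S' : Subgroup (H ⧸ O)) = ⊥ :=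
    inf_eq_bot_of_coprime (by
      obtain ⟨n, hn⟩ := IsPGroup.iff_card.1 S'.isPGroup'
      rw [hn]
      exact ((hX.coprime_dvd_left (card_map_dvd X f))).pow_right n)
  intro x hx
  rw [← QuotientGroup.eq_one_iff]
  have hfx : f x ∈ X.map f := ⟨x, hx, rfl⟩
  have hfS : f x ∈ (S' : Subgroup (H ⧸ O)) := by
    refine hC (mem_centralizer_iff.2 fun w hw => ?_)
    have hw' : w ∈ (S : Subgroup H).map f := hS'c ▸ hw
    have hwn : w ∈ normalizer ((X.map f : Subgroup (H ⧸ O)) : Set (H ⧸ O)) := by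
      obtain ⟨s, hs, rfl⟩ := hw'
      exact le_normalizer_map f ⟨s, hinv hs, rfl⟩
    have h1 : f x * w * (f x)⁻¹ * w⁻¹ ∈ X.map f := by
      rw [mul_assoc, mul_assoc]
      exact mul_mem hfx (by rw [← mul_assoc]; exact (mem_normalizer_iff.1 hwn _).1 (inv_mem hfx))
    have h2 : f x * w * (f x)⁻¹ * w⁻¹ ∈ (S' : Subgroup (H ⧸ O)) :=
      mul_mem (hN.conj_mem _ hw _) (inv_mem hw)
    have h3 : f x * w * (f x)⁻¹ * w⁻¹ ∈ X.map f ⊓ (S' : Subgroup (H ⧸ O)) := ⟨h1, h2⟩
    rw [hdisj, mem_bot] at h3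
    exact (mul_inv_eq_iff_eq_mul.1 (mul_inv_eq_one.1 h3)).symm
  have h4 : f x ∈ X.map f ⊓ (S' : Subgroup (H ⧸ O)) := ⟨hfx, hfS⟩
  rwa [hdisj, mem_bot] at h4

/-- Frattini: the normaliser of an abelian Sylow subgroup covers the quotient by the `p'`-core. -/
theorem normalizer_sup_core [Group.IsSolvable H] (S : Sylow p H)
    (hS : ∀ a ∈ (S : Subgroup H), ∀ b ∈ (S : Subgroup H), a * b = b * a) :
    normalizer ((S : Subgroup H) : Set H) ⊔ Cfsg.pPrimeCore p H = ⊤ := by
  set O := Cfsg.pPrimeCore p H with hO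
  set S' : Sylow p (H ⧸ O) := S.mapSurjective (QuotientGroup.mk'_surjective O)
  have hS'c : (S' : Subgroup (H ⧸ O)) = (S : Subgroup H).map (QuotientGroup.mk' O) :=
    Sylow.coe_mapSurjective _ S
  haveI := (normal_sylow_of_core_eq_bot
    (CfsgLib.PLocal.pPrimeCore_quotient_pPrimeCore_eq_bot p H) S' (by
      rw [hS'c]
      rintro _ ⟨a, ha, rfl⟩ _ ⟨b, hb, rfl⟩
      rw [← map_mul, ← map_mul, hS a ha b hb])).1
  set N : Subgroup H := (S' : Subgroup (H ⧸ O)).comap (QuotientGroup.mk' O) with hN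
  have hNe : N = (S : Subgroup H) ⊔ O := by
    rw [hN, hS'c, Subgroup.comap_map_eq, QuotientGroup.ker_mk']
  have hSN : (S : Subgroup H) ≤ N := hNe ▸ le_sup_left
  haveI : N.Normal := inferInstance
  have h := Sylow.normalizer_sup_eq_top' S hSN
  refine top_unique (h ▸ sup_le le_sup_left ?_)
  rw [hNe]
  exact sup_le (le_normalizer.trans le_sup_left) le_sup_right

section InGroup

variable {G : Type*} [Group G] [Finite G]

/-- The `p'`-core of a subgroup, as a subgroup of the whole group. -/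
def coreIn (p : ℕ) (L : Subgroup G) : Subgroup G := (Cfsg.pPrimeCore p L).map L.subtype

theorem coreIn_le (p : ℕ) (L : Subgroup G) : coreIn p L ≤ L := map_subtype_le _

theorem coprime_coreIn (p : ℕ) [Fact p.Prime] (L : Subgroup G) :
    (Nat.card (coreIn p L)).Coprime p := by
  rw [coreIn, card_map_of_injective L.subtype_injective]
  exact CfsgLib.PLocal.coprime_card_pPrimeCore p L

theorem le_normalizer_coreIn (p : ℕ) (L : Subgroup G) : L ≤ normalizer (coreIn p L : Set G) := by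
  intro x hx
  rw [mem_normalizer_iff]
  have key : ∀ y ∈ L, ∀ z ∈ coreIn p L, y * z * y⁻¹ ∈ coreIn p L := by
    rintro y hy _ ⟨z, hz, rfl⟩
    exact ⟨⟨y, hy⟩ * z * ⟨y, hy⟩⁻¹, (inferInstance : (Cfsg.pPrimeCore p L).Normal).conj_mem z hz _,
      rfl⟩
  intro z
  refine ⟨key x hx z, fun h => ?_⟩
  have := key x⁻¹ (inv_mem hx) _ h
  simpa [mul_assoc] using this

variable {p : ℕ} [Fact p.Prime] (P : Sylow p G)
  (hP : ∀ a ∈ (P : Subgroup G), ∀ b ∈ (P : Subgroup G), a * b = b * a) {L : Subgroup G}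
  (hL : Group.IsSolvable L) (hPL : (P : Subgroup G) ≤ L)
include hP hL hPL

theorem le_coreIn {X : Subgroup G} (hXL : X ≤ L) (hX : (Nat.card X).Coprime p)
    (hinv : (P : Subgroup G) ≤ normalizer (X : Set G)) : X ≤ coreIn p L := by
  have h := le_core_of_sylow (P.subtype hPL)
    (fun a ha b hb => Subtype.ext (hP _ ha _ hb)) (X := X.subgroupOf L)
    (by rwa [Nat.card_congr (subgroupOfEquivOfLe hXL).toEquiv])
    (fun s hs => le_normalizer_comap L.subtype (hinv hs))
  exact fun x hx => ⟨⟨x, hXL hx⟩, h hx, rfl⟩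

theorem exists_mul_normalizer {c : G} (hc : c ∈ L) :
    ∃ o ∈ coreIn p L, ∃ n ∈ normalizer ((P : Subgroup G) : Set G), c = o * n := by
  have h := normalizer_sup_core (P.subtype hPL) (fun a ha b hb => Subtype.ext (hP _ ha _ hb))
  rw [sup_comm] at h
  obtain ⟨o, ho, n, hn, e⟩ := (mem_sup_of_normal_left (s := Cfsg.pPrimeCore p L)
    (t := normalizer ((P.subtype hPL : Subgroup L) : Set L)) (x := ⟨c, hc⟩)).1 (h ▸ mem_top _)
  refine ⟨o, ⟨o, ho, rfl⟩, n, ?_, (congrArg Subtype.val e).symm⟩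
  rw [mem_normalizer_iff]
  intro z
  constructor
  · intro hz
    exact (mem_normalizer_iff.1 hn ⟨z, hPL hz⟩).1 hz
  · intro hz
    have hzL : z ∈ L := by
      have := L.mul_mem (L.mul_mem (L.inv_mem n.2) (hPL hz)) n.2
      simpa [mul_assoc] using this
    exact (mem_normalizer_iff.1 hn ⟨z, hzL⟩).2 hz

/-- When the `p'`-core centralises the Sylow subgroup, this is normal. -/
theorem le_normalizer_sylow (h : ∀ o ∈ coreIn p L, ∀ z ∈ (P : Subgroup G), o * z = z * o) :
    L ≤ normalizer ((P : Subgroup G) : Set G) := by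
  intro c hc
  obtain ⟨o, ho, n, hn, rfl⟩ := exists_mul_normalizer P hP hL hPL hc
  refine mul_mem ?_ hn
  exact centralizer_le_normalizer _ (mem_centralizer_iff.2 fun z hz => (h o ho z hz).symm)

end InGroup

end CfsgLib.WalterCons
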