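import Cfsg.Agent.WalterCons.PSLFacts
import Cfsg.Agent.WalterCons.SolvCore
import Cfsg.Agent.JankoThompson.Local
import Cfsg.Agent.AGroups.Basic
import Cfsg.Agent.FgsSix.InvolutionAction
import Cfsg.Agent.S0205
import Mathlib

/-!
# A group of Ree order with abelian Sylow subgroups: centralisers of elements of order three

`AHyp E`: `|G| = q³(q³+1)(q-1)`, `q = 3^(2m+1)`, the centraliser of the involution `E.t` is
`Z₂ × PSL₂(q)` and all Sylow subgroups are abelian.  The centraliser of a nontrivial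
3-element is solvable, and some Sylow 3-subgroup containing `ι(Q)` is normalised by `t`.
-/

set_option autoImplicit false
set_option linter.unusedSectionVars false
set_option linter.style.haveILetI false

namespace CfsgLib.WalterCons

open Matrix CfsgLib.ReeTypeS3
open scoped MatrixGroups

universe u v

variable {G : Type u} [Group G] [Fintype G] {F : Type v} [Field F] [Fintype F]

local notation "PST" => Matrix.ProjectiveSpecialLinearGroup (Fin 2) F

/-- The standing hypotheses. -/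
structure AHyp (E : Emb G (Matrix.ProjectiveSpecialLinearGroup (Fin 2) F)) : Prop where
  jt : JankoThompson.Hyp E
  three : ∃ m, 1 ≤ m ∧ Fintype.card F = 3 ^ (2 * m + 1)
  card : Nat.card G =
    Fintype.card F ^ 3 * (Fintype.card F ^ 3 + 1) * (Fintype.card F - 1)
  ab : AGroups.AbelianSylows G

theorem centralizer_le_normalizer' {A : Type*} [Group A] {H : Subgroup A} {y : A}
    (h : ∀ z ∈ H, z * y = y * z) : y ∈ Subgroup.normalizer (H : Set A) :=
  Subgroup.centralizer_le_normalizer _ (Subgroup.mem_centralizer_iff.2 h)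

namespace AHyp

variable {E : Emb G (Matrix.ProjectiveSpecialLinearGroup (Fin 2) F)} (hyp : AHyp E)
include hyp

theorem q_facts : Fintype.card F % 8 = 3 ∧ 27 ≤ Fintype.card F ∧ Fintype.card F % 3 = 0 := by
  obtain ⟨m, hm, hq⟩ := hyp.three
  rw [hq, pow_succ, pow_mul]
  refine ⟨?_, ?_, Nat.mul_mod_left _ _⟩
  · rw [Nat.mul_mod, Nat.pow_mod]
    norm_num
  · calc 27 = (3 ^ 2) ^ 1 * 3 := rfl
      _ ≤ (3 ^ 2) ^ m * 3 := by gcongr; norm_num

theorem two_ne : (2 : F) ≠ 0 := JankoThompson.two_ne hyp.jt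

theorem charP3 : CharP F 3 := by
  obtain ⟨m, hm, hq⟩ := hyp.three
  obtain ⟨p, hp⟩ := CharP.exists F
  haveI := hp
  obtain ⟨n, hpp, e⟩ := FiniteField.card F p
  rw [hq] at e
  have h3 : 3 ∣ p ^ (n : ℕ) := e ▸ dvd_pow_self 3 (by omega)
  have := (Nat.prime_dvd_prime_iff_eq Nat.prime_three hpp).1 (Nat.prime_three.dvd_of_dvd_pow h3)
  rwa [this]

theorem natCard_Q : Nat.card (subQG E) = Fintype.card F := by
  rw [subQG, Subgroup.card_map_of_injective E.inj, natCard_subQ, Nat.card_eq_fintype_card]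

theorem isPGroup_Q : IsPGroup 3 (subQG E) := by
  obtain ⟨m, -, hq⟩ := hyp.three
  exact IsPGroup.of_card (n := 2 * m + 1) (by rw [hyp.natCard_Q, hq])

theorem cube_subQ {a : PST} (ha : a ∈ subQ (F := F)) : a ^ 3 = 1 := by
  haveI := hyp.charP3
  obtain ⟨b, rfl⟩ := ha
  obtain ⟨x, rfl⟩ := Multiplicative.ofAdd.surjective b
  rw [← map_pow, ← ofAdd_nsmul, nsmul_eq_mul, CharP.cast_eq_zero, zero_mul]
  exact map_one uQ

theorem cube_Q {x : G} (hx : x ∈ subQG E) : x ^ 3 = 1 := by
  obtain ⟨a, ha, rfl⟩ := hx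
  rw [← map_pow, hyp.cube_subQ ha, map_one]

theorem Q_comm {x y : G} (hx : x ∈ subQG E) (hy : y ∈ subQG E) : x * y = y * x :=
  hyp.ab.comm (haveI : Fact (Nat.Prime 3) := ⟨Nat.prime_three⟩; hyp.isPGroup_Q) hx hy

theorem not_isCyclic_Q : ¬ IsCyclic (subQG E) := by
  intro h
  obtain ⟨g, hg⟩ := h.exists_generator
  have h1 := orderOf_eq_card_of_forall_mem_zpowers hg
  have h2 : orderOf g ∣ 3 :=
    orderOf_dvd_of_pow_eq_one (Subtype.ext (by simpa using hyp.cube_Q g.2))
  have := Nat.le_of_dvd (by norm_num) h2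
  rw [h1, hyp.natCard_Q] at this
  have := hyp.q_facts.2.1
  omega

theorem natCard_sylow (S : Sylow 3 G) : Nat.card (S : Subgroup G) = Fintype.card F ^ 3 := by
  haveI : Fact (Nat.Prime 3) := ⟨Nat.prime_three⟩
  obtain ⟨m, -, hq⟩ := hyp.three
  obtain ⟨h8, h27, h3⟩ := hyp.q_facts
  have h := Linear.card_sylow_of_card_eq 3 (k := (2 * m + 1) * 3)
    (r := (Fintype.card F ^ 3 + 1) * (Fintype.card F - 1))
    (by rw [hyp.card, pow_mul, ← hq]; ring) (by
      rw [Nat.Prime.dvd_mul Nat.prime_three]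
      rintro (h | h)
      · exact absurd ((Nat.dvd_add_iff_right (dvd_pow (Nat.dvd_of_mod_eq_zero h3)
          (show 3 ≠ 0 by norm_num))).2 h) (by norm_num)
      · omega) S
  rw [h, pow_mul, ← hq]

/-- The centraliser of `t` and of a nontrivial element of `ι(Q)`. -/
theorem cent_Q {x y : G} (hx : x ∈ subQG E) (hx1 : x ≠ 1) (hyt : y * E.t = E.t * y)
    (hyx : y * x = x * y) : ∃ a ∈ subQ (F := F), y = E.ι a ∨ y = E.t * E.ι a := by
  obtain ⟨b, hb, rfl⟩ := hx
  obtain ⟨l, hl⟩ := E.cent y hyt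
  have h := E.conj_ι hl b
  rw [hyx, mul_inv_cancel_right] at h
  exact ⟨l, mem_subQ_of_fix hyp.two_ne hb (fun e => hx1 (by rw [e, map_one]))
    (mul_inv_eq_iff_eq_mul.1 (E.inj h).symm), hl⟩

/-- The involutions of that centraliser are `t`. -/
theorem inv_cent_Q {x y : G} (hx : x ∈ subQG E) (hx1 : x ≠ 1) (hyt : y * E.t = E.t * y)
    (hyx : y * x = x * y) (hyy : y * y = 1) : y = 1 ∨ y = E.t := by
  obtain ⟨a, ha, hy⟩ := hyp.cent_Q hx hx1 hyt hyx
  have h2 : a * a = 1 := by
    refine E.inj ?_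
    rw [map_mul, map_one]
    rcases hy with e | e
    · rw [← e, hyy]
    · have e' : E.ι a = E.t * y := by rw [e, ← mul_assoc, E.sq, one_mul]
      rw [e', show E.t * y * (E.t * y) = E.t * (y * E.t) * y by group, hyt, ← mul_assoc E.t E.t,
        E.sq, one_mul, hyy]
  have ha1 : a = 1 := by
    have := hyp.cube_subQ ha
    rwa [pow_succ, pow_two, h2, one_mul] at this
  rw [ha1, map_one, mul_one] at hy
  exact hy

/-- A subgroup whose only involution commuting with `t ∈ C` is `t` is a group of odd order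
extended by `⟨t⟩`. -/
theorem exists_odd_index_two {C : Subgroup G} (htC : E.t ∈ C)
    (h : ∀ y ∈ C, y * E.t = E.t * y → y * y = 1 → y = 1 ∨ y = E.t) :
    ∃ O : Subgroup C, O.index = 2 ∧ Odd (Nat.card O) := by
  haveI : Fact (Nat.Prime 2) := ⟨Nat.prime_two⟩
  set tC : C := ⟨E.t, htC⟩
  have htC' : orderOf tC = 2 := by rw [← Subgroup.orderOf_coe]; exact E.orderOf_t
  have hp : IsPGroup 2 (Subgroup.zpowers tC) :=
    IsPGroup.of_card (n := 1) (by rw [Nat.card_zpowers, htC', pow_one])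
  obtain ⟨P, hP⟩ := hp.exists_le_sylow
  have hPeq : (P : Subgroup C) = Subgroup.zpowers tC := by
    refine le_antisymm (fun x hx => ?_) hP
    have hPG : IsPGroup 2 ((P : Subgroup C).map C.subtype) := P.2.map _
    obtain ⟨hxx, hxt⟩ := JankoThompson.two_group_facts hyp.jt hPG (x := (x : G)) (y := E.t)
      ⟨x, hx, rfl⟩ ⟨tC, hP (Subgroup.mem_zpowers _), rfl⟩
    rcases h x x.2 hxt hxx with e | e
    · rw [show x = 1 from Subtype.ext e]; exact one_mem _
    · rw [show x = tC from Subtype.ext e]; exact Subgroup.mem_zpowers _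
  have hcyc : IsCyclic P := by
    show IsCyclic (P : Subgroup C)
    rw [hPeq]; infer_instance
  have hmin : (Nat.card C).minFac = 2 := by
    rw [Nat.minFac_eq_two_iff, ← htC']
    exact orderOf_dvd_natCard tC
  have hc := IsCyclic.isComplement' hmin hcyc
  refine ⟨(MonoidHom.transferSylow P (IsCyclic.normalizer_le_centralizer hmin hcyc)).ker, ?_, ?_⟩
  · rw [hc.symm.index_eq_card, hPeq, Nat.card_zpowers, htC']
  · rw [← Nat.not_even_iff_odd, even_iff_two_dvd]
    exact MonoidHom.not_dvd_card_ker_transferSylow _ _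

omit hyp in
theorem isSolvable_of_odd_index_two {C : Type*} [Group C] [Finite C] {O : Subgroup C}
    (hO : O.index = 2) (hodd : Odd (Nat.card O)) : Group.IsSolvable C := by
  haveI : Group.IsSolvable O := Cfsg.Agent.S0205.result hodd
  haveI : O.Normal := Subgroup.normal_of_index_eq_two hO
  haveI : Fact (Nat.Prime 2) := ⟨Nat.prime_two⟩
  haveI : IsCyclic (C ⧸ O) := isCyclic_of_prime_card (p := 2)
    (by rw [← Subgroup.index_eq_card, hO])
  haveI : Group.IsSolvable (C ⧸ O) := Group.isSolvable_of_comm fun a b => by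
    letI := IsCyclic.commGroup (α := C ⧸ O)
    exact mul_comm a b
  exact Group.isSolvable_of_ker_le_range O.subtype (QuotientGroup.mk' O)
    (by rw [QuotientGroup.ker_mk', Subgroup.range_subtype])

theorem solvable_cent_Q {x : G} (hx : x ∈ subQG E) (hx1 : x ≠ 1) :
    Group.IsSolvable (Subgroup.centralizer ({x} : Set G)) := by
  obtain ⟨O, hO, hodd⟩ := hyp.exists_odd_index_two (C := Subgroup.centralizer ({x} : Set G))
    (Subgroup.mem_centralizer_singleton_iff.2 (by
      obtain ⟨a, -, rfl⟩ := hx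
      exact E.comm a))
    (fun y hy hyt hyy => hyp.inv_cent_Q hx hx1 hyt (Subgroup.mem_centralizer_singleton_iff.1 hy) hyy)
  exact isSolvable_of_odd_index_two hO hodd

/-- The centraliser of a nontrivial 3-element is solvable. -/
theorem solvable_cent_three {u : G} (hu1 : u ≠ 1) {j : ℕ} (hu : u ^ 3 ^ j = 1) :
    Group.IsSolvable (Subgroup.centralizer ({u} : Set G)) := by
  classical
  haveI : Fact (Nat.Prime 2) := ⟨Nat.prime_two⟩
  haveI : Fact (Nat.Prime 3) := ⟨Nat.prime_three⟩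
  set C := Subgroup.centralizer ({u} : Set G) with hC
  by_cases hodd : Odd (Nat.card C)
  · exact Cfsg.Agent.S0205.result hodd
  obtain ⟨⟨s, hsC⟩, hs⟩ := exists_prime_orderOf_dvd_card' (G := C) 2
    (even_iff_two_dvd.1 (Nat.not_odd_iff_even.1 hodd))
  rw [Subgroup.orderOf_mk] at hs
  obtain ⟨g, hg⟩ := JankoThompson.exists_to_t hyp.jt (s := s)
    (fun e => by rw [e, orderOf_one] at hs; omega)
    (by rw [← pow_two, ← hs, pow_orderOf_eq_one])
  have hcom : g * u * g⁻¹ * E.t = E.t * (g * u * g⁻¹) := by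
    rw [← hg, show g * u * g⁻¹ * (g * s * g⁻¹) = g * (u * s) * g⁻¹ by group,
      ← Subgroup.mem_centralizer_singleton_iff.1 hsC]
    group
  obtain ⟨l, hl, hlp⟩ := JankoThompson.exists_ι_of_odd hyp.jt hcom
    (m := 3 ^ j) (Odd.pow (by decide)) (by rw [conj_pow, hu, mul_one, mul_inv_cancel])
  -- a conjugate of `l` lies in `Q`
  obtain ⟨m, -, hq⟩ := hyp.three
  obtain ⟨h8, h27, h3⟩ := hyp.q_facts
  have hndvd : ¬ 3 ∣ (subQ (F := F)).index := by
    intro h
    have h2 := Linear.card_PSL_two_odd (F := F) (Nat.odd_iff.2 (by omega))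
    have h1 := (subQ (F := F)).card_mul_index
    rw [natCard_subQ, Nat.card_eq_fintype_card] at h1
    rw [← h1, ← mul_assoc, mul_comm 2, mul_assoc] at h2
    have h4 := Nat.eq_of_mul_eq_mul_left (by omega) h2
    have h5 : 3 ∣ Fintype.card F ^ 2 - 1 := h4 ▸ dvd_mul_of_dvd_right h 2
    have h6 : 3 ∣ Fintype.card F ^ 2 := dvd_pow (Nat.dvd_of_mod_eq_zero h3) two_ne_zero
    have h7 : 1 ≤ Fintype.card F ^ 2 := Nat.one_le_pow _ _ (by omega)
    omega
  let S : Sylow 3 PST := IsPGroup.toSylow (IsPGroup.of_card (n := 2 * m + 1)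
    (by rw [natCard_subQ, Nat.card_eq_fintype_card, hq])) hndvd
  have hpl : IsPGroup 3 (Subgroup.zpowers l) := by
    obtain ⟨i, -, hi⟩ := (Nat.dvd_prime_pow Nat.prime_three).1 (orderOf_dvd_of_pow_eq_one hlp)
    exact IsPGroup.of_card (n := i) (by rw [Nat.card_zpowers, hi])
  obtain ⟨R, hR⟩ := hpl.exists_le_sylow
  obtain ⟨k, rfl⟩ := MulAction.exists_smul_eq PST S R
  have hm := hR (Subgroup.mem_zpowers l)
  rw [Sylow.coe_subgroup_smul, Subgroup.mem_pointwise_smul_iff_inv_smul_mem, MulAut.smul_def,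
    MulAut.conj_inv_apply] at hm
  set x := E.ι (k⁻¹ * l * k) with hx
  have hxQ : x ∈ subQG E := ⟨_, hm, rfl⟩
  set w := (E.ι k)⁻¹ * g
  have hwx : w * u * w⁻¹ = x := by
    show (E.ι k)⁻¹ * g * u * ((E.ι k)⁻¹ * g)⁻¹ = x
    rw [hx, map_mul, map_mul, map_inv, ← hl]; group
  have hx1 : x ≠ 1 := fun e => hu1 (conj_eq_one_iff.1 (hwx.trans e))
  haveI := hyp.solvable_cent_Q hxQ hx1
  refine Group.isSolvable_of_isSolvable_injective
    (f := ((MulAut.conj w).toMonoidHom.comp C.subtype).codRestrict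
      (Subgroup.centralizer ({x} : Set G)) fun c => Subgroup.mem_centralizer_singleton_iff.2 (by
      show w * c.1 * w⁻¹ * x = x * (w * c.1 * w⁻¹)
      rw [← hwx, show w * c.1 * w⁻¹ * (w * u * w⁻¹) = w * (c.1 * u) * w⁻¹ by group,
        Subgroup.mem_centralizer_singleton_iff.1 c.2]
      group)) ?_
  intro a b h
  exact Subtype.ext ((MulAut.conj w).injective (congrArg Subtype.val h))

/-- A Sylow 3-subgroup containing `ι(Q)` and normalised by `t`. -/
theorem exists_sylow : ∃ P : Sylow 3 G, subQG E ≤ (P : Subgroup G) ∧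
    E.t ∈ Subgroup.normalizer ((P : Subgroup G) : Set G) := by
  haveI : Fact (Nat.Prime 3) := ⟨Nat.prime_three⟩
  set C := Subgroup.centralizer (subQG E : Set G) with hC
  have h27 := hyp.q_facts.2.1
  obtain ⟨x, hx, hx1⟩ := (Subgroup.ne_bot_iff_exists_ne_one).1
    (show subQG E ≠ ⊥ by
      intro e
      have := hyp.natCard_Q
      rw [e, Subgroup.card_bot] at this
      omega) |> fun ⟨a, ha⟩ => (⟨a.1, a.2, fun e => ha (Subtype.ext e)⟩ : ∃ x ∈ subQG E, x ≠ 1)
  have htC : E.t ∈ C := by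
    rw [hC, Subgroup.mem_centralizer_iff]
    rintro _ ⟨a, -, rfl⟩
    exact (E.comm a).symm
  obtain ⟨O, hO, hodd⟩ := hyp.exists_odd_index_two htC
    (fun y hy hyt hyy => hyp.inv_cent_Q hx hx1 hyt (Subgroup.mem_centralizer_iff.1 hy x hx).symm hyy)
  haveI : O.Normal := Subgroup.normal_of_index_eq_two hO
  obtain ⟨R, hR⟩ := hyp.isPGroup_Q.exists_le_sylow
  set H := O.map C.subtype with hH
  have hRH : (R : Subgroup G) ≤ H := by
    intro r hr
    have hrC : r ∈ C := by
      rw [hC, Subgroup.mem_centralizer_iff]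
      exact fun y hy => hyp.ab.comm R.2 (hR hy) hr
    obtain ⟨j, hj⟩ := R.2 ⟨r, hr⟩
    exact ⟨⟨r, hrC⟩, ReeTypeS3.mem_of_odd_order hO (m := 3 ^ j) (Odd.pow (by decide))
      (Subtype.ext (by simpa using congrArg Subtype.val hj)), rfl⟩
  have hHc : Nat.card H = Nat.card O := Subgroup.card_map_of_injective C.subtype_injective
  obtain ⟨S, hS⟩ := FgsSix.exists_fixed_sylow H (hHc ▸ hodd) 3 (y := E.t)
    ((pow_two E.t).trans E.sq) (by
      rw [Subgroup.mem_normalizer_iff]
      intro z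
      constructor
      · rintro ⟨o, ho, rfl⟩
        exact ⟨⟨E.t, htC⟩ * o * ⟨E.t, htC⟩⁻¹, ‹O.Normal›.conj_mem o ho _, rfl⟩
      · rintro ⟨o, ho, e⟩
        refine ⟨⟨E.t, htC⟩⁻¹ * o * ⟨E.t, htC⟩⁻¹⁻¹, ‹O.Normal›.conj_mem o ho _, ?_⟩
        simp only [Subgroup.coe_subtype, Subgroup.coe_mul, Subgroup.coe_inv] at e ⊢
        rw [e]; group)
  set P₀ := (S : Subgroup H).map H.subtype with hP₀
  have hcard : Nat.card P₀ = Nat.card (R : Subgroup G) := by
    rw [hP₀, Subgroup.card_map_of_injective H.subtype_injective, S.card_eq_multiplicity,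
      ← (R.subtype hRH).card_eq_multiplicity]
    exact Nat.card_congr (Subgroup.subgroupOfEquivOfLe hRH).toEquiv
  let P : Sylow 3 G := Sylow.ofCard P₀ (hcard.trans R.card_eq_multiplicity)
  refine ⟨P, ?_, hS⟩
  have hPQ : subQG E ≤ Subgroup.normalizer (P₀ : Set G) := by
    intro y hy
    refine centralizer_le_normalizer' ?_
    rintro z hz
    obtain ⟨⟨z', hz'⟩, -, rfl⟩ := hz
    obtain ⟨c, -, rfl⟩ := hz'
    exact (Subgroup.mem_centralizer_iff.1 c.2 y hy).symm
  have hsup : IsPGroup 3 (subQG E ⊔ P₀ : Subgroup G) :=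
    hyp.isPGroup_Q.to_sup_of_normal_right' P.2 hPQ
  exact le_sup_left.trans (P.is_maximal' hsup le_sup_right).le

end AHyp

end CfsgLib.WalterCons
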