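import Cfsg.Agent.WalterCons.ReeLocal
import Mathlib

/-!
# A group of Ree order with abelian Sylow subgroups: `N(P) = P A₀` is strongly embedded at `3`

`A₀ = ⟨t⟩ × ι(D)` has order `q - 1` and normalises `P`; `|G : N(P)| = q³ + 1`.
-/

set_option autoImplicit false
set_option linter.unusedSectionVars false
set_option linter.style.haveILetI false

namespace CfsgLib.WalterCons

open Matrix CfsgLib.ReeTypeS3
open scoped MatrixGroups Pointwise

universe u v

variable {G : Type u} [Group G] [Fintype G] {F : Type v} [Field F] [Fintype F]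

local notation "PST" => Matrix.ProjectiveSpecialLinearGroup (Fin 2) F
local notation "Z₂" => Multiplicative (ZMod 2)

/-- `⟨t⟩ × ι(D)`. -/
noncomputable def torusA (E : Emb G (Matrix.ProjectiveSpecialLinearGroup (Fin 2) F)) : Subgroup G :=
  (Subgroup.prod (⊤ : Subgroup Z₂) (subD (F := F))).map E.prodHom

variable {E : Emb G (Matrix.ProjectiveSpecialLinearGroup (Fin 2) F)}

theorem mem_torusA {a : G} (ha : a ∈ torusA E) :
    ∃ d ∈ subD (F := F), a = E.ι d ∨ a = E.t * E.ι d := by
  obtain ⟨⟨s, d⟩, ⟨-, hd⟩, rfl⟩ := ha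
  refine ⟨d, hd, ?_⟩
  by_cases hs : s = 1
  · left; simp [Emb.prodHom, hs]
  · right; simp [Emb.prodHom, hs]

theorem torusA_comm_t {a : G} (ha : a ∈ torusA E) : a * E.t = E.t * a := by
  obtain ⟨d, -, h⟩ := mem_torusA ha
  exact E.mem_cent h

theorem natCard_torusA (h2 : (2 : F) ≠ 0) :
    Nat.card (torusA E) = Fintype.card F - 1 := by
  rw [torusA, Subgroup.card_map_of_injective E.prodHom_injective,
    Nat.card_congr (Subgroup.prodEquiv _ _).toEquiv, Nat.card_prod, Subgroup.card_top,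
    Nat.card_eq_fintype_card, ← natCard_subD h2]
  simp

namespace Loc

variable {P : Sylow 3 G} (L : Loc E P)
include L

theorem mem_P_of_normalizer {x : G} (hx : x ∈ Subgroup.normalizer ((P : Subgroup G) : Set G)) {j : ℕ}
    (hj : x ^ 3 ^ j = 1) : x ∈ (P : Subgroup G) := by
  haveI := L.three
  have hp : IsPGroup 3 (Subgroup.zpowers x) := by
    obtain ⟨i, -, hi⟩ := (Nat.dvd_prime_pow Nat.prime_three).1 (orderOf_dvd_of_pow_eq_one hj)
    exact IsPGroup.of_card (n := i) (by rw [Nat.card_zpowers, hi])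
  have hsup : IsPGroup 3 (Subgroup.zpowers x ⊔ (P : Subgroup G) : Subgroup G) :=
    hp.to_sup_of_normal_right' P.2 (Subgroup.zpowers_le.2 hx)
  exact (P.is_maximal' hsup le_sup_right).le (le_sup_left (a := Subgroup.zpowers x)
    (b := (P : Subgroup G)) (Subgroup.mem_zpowers x))

theorem cent_Q_le_normalizer :
    Subgroup.centralizer (subQG E : Set G) ≤ Subgroup.normalizer ((P : Subgroup G) : Set G) := by
  haveI := L.three
  obtain ⟨e, he, he1⟩ := L.exists_Q_ne
  set C := Subgroup.centralizer (subQG E : Set G) with hC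
  have hCe : C ≤ Subgroup.centralizer ({e} : Set G) := Subgroup.centralizer_le (by simpa using he)
  have hPC : (P : Subgroup G) ≤ C := fun x hx => Subgroup.mem_centralizer_iff.2 fun y hy =>
    L.comm (L.le hy) hx
  haveI := L.hyp.solvable_cent_Q he he1
  have hCs : Group.IsSolvable C :=
    Group.isSolvable_of_isSolvable_injective (f := Subgroup.inclusion hCe)
      (Subgroup.inclusion_injective _)
  refine le_normalizer_sylow P (fun a ha b hb => L.comm ha hb) hCs hPC fun o ho z hz => ?_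
  obtain ⟨e', he', i, hi, rfl⟩ := L.decomp hz
  have h1 : e' * o = o * e' := Subgroup.mem_centralizer_iff.1 (coreIn_le 3 C ho) e' he'
  have h2 : o * i = i * o := by
    refine L.inv_centralizes (L.coprime_theta e) (L.P_le_normalizer_theta (L.le he))
      (L.t_normalizes_theta (Or.inl he) he1) ?_ hi
    exact L.le_theta (L.le he) he1 ((coreIn_le 3 C).trans hCe) (coprime_coreIn 3 C)
      (hPC.trans (le_normalizer_coreIn 3 C)) ho
  rw [← mul_assoc, ← h1, mul_assoc, h2, mul_assoc]

theorem torus_mem_normalizer {d : PST} (hd : d ∈ subD (F := F)) :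
    E.ι d ∈ Subgroup.normalizer ((P : Subgroup G) : Set G) := by
  haveI := L.three
  have key : ∀ d ∈ subD (F := F), ∀ x ∈ (P : Subgroup G),
      E.ι d * x * (E.ι d)⁻¹ ∈ (P : Subgroup G) := by
    intro d hd x hx
    obtain ⟨j, hj⟩ := L.pow_three hx
    refine L.mem_P_of_normalizer (L.cent_Q_le_normalizer ?_) (j := j)
      (by rw [conj_pow, hj, mul_one, mul_inv_cancel])
    rw [Subgroup.mem_centralizer_iff]
    rintro _ ⟨a, ha, rfl⟩
    obtain ⟨c, rfl⟩ := hd
    have hb : (dQ c)⁻¹ * a * dQ c ∈ subQ (F := F) := by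
      have := normalizes_subQ (inB_dQ c⁻¹) ha
      rwa [map_inv, inv_inv] at this
    have hcom := L.comm (L.le ⟨_, hb, rfl⟩) hx
    rw [map_mul, map_mul, map_inv] at hcom
    calc E.ι a * (E.ι (dQ c) * x * (E.ι (dQ c))⁻¹)
        = E.ι (dQ c) * ((E.ι (dQ c))⁻¹ * E.ι a * E.ι (dQ c) * x) * (E.ι (dQ c))⁻¹ := by group
      _ = E.ι (dQ c) * x * (E.ι (dQ c))⁻¹ * E.ι a := by rw [hcom]; group
  rw [Subgroup.mem_normalizer_iff]
  intro x
  refine ⟨key d hd x, fun hx => ?_⟩
  have := key d⁻¹ (inv_mem hd) _ hx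
  rwa [map_inv, inv_inv, show (E.ι d)⁻¹ * (E.ι d * x * (E.ι d)⁻¹) * E.ι d = x by group] at this

theorem torusA_le_normalizer : torusA E ≤ Subgroup.normalizer ((P : Subgroup G) : Set G) := by
  intro a ha
  obtain ⟨d, hd, rfl | rfl⟩ := mem_torusA ha
  · exact L.torus_mem_normalizer hd
  · exact mul_mem L.norm (L.torus_mem_normalizer hd)

theorem coprime_torusA : (Nat.card (P : Subgroup G)).Coprime (Nat.card (torusA E)) := by
  obtain ⟨m, -, hq⟩ := L.hyp.three
  have h3 := L.hyp.q_facts.2.2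
  have h27 := L.hyp.q_facts.2.1
  rw [L.natCard_P, natCard_torusA L.hyp.two_ne]
  refine Nat.Coprime.pow_left _ ?_
  rw [hq] at *
  exact Nat.Coprime.pow_left _ (Nat.prime_three.coprime_iff_not_dvd.2 (by omega))

theorem conj_mem_of_big {H : Subgroup G}
    (hN : Subgroup.normalizer ((P : Subgroup G) : Set G) ≤ H)
    (hC : ∀ u ∈ (P : Subgroup G), u ≠ 1 → Subgroup.centralizer ({u} : Set G) ≤ H)
    {x g : G} (hx : x ∈ (P : Subgroup G)) (hx1 : x ≠ 1) (h : g⁻¹ * x * g ∈ H) : g ∈ H := by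
  haveI := L.three
  have hPH : (P : Subgroup G) ≤ H := Subgroup.le_normalizer.trans hN
  -- move `g⁻¹xg` into `P` inside `H`
  obtain ⟨j, hj⟩ := L.pow_three hx
  have hp : IsPGroup 3 (Subgroup.zpowers (⟨g⁻¹ * x * g, h⟩ : H)) := by
    obtain ⟨i, -, hi⟩ := (Nat.dvd_prime_pow Nat.prime_three).1 (orderOf_dvd_of_pow_eq_one
      (x := (⟨g⁻¹ * x * g, h⟩ : H)) (n := 3 ^ j) (Subtype.ext (by
        show (g⁻¹ * x * g) ^ 3 ^ j = 1
        have := conj_pow (a := g⁻¹) (b := x) (i := 3 ^ j)
        rw [inv_inv] at this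
        rw [this, hj, mul_one, inv_mul_cancel])))
    exact IsPGroup.of_card (n := i) (by rw [Nat.card_zpowers, hi])
  obtain ⟨R, hR⟩ := hp.exists_le_sylow
  obtain ⟨k, hk⟩ := MulAction.exists_smul_eq H R (P.subtype hPH)
  have hy : (k : G) * (g⁻¹ * x * g) * (k : G)⁻¹ ∈ (P : Subgroup G) := by
    have h1 : MulAut.conj k • (⟨g⁻¹ * x * g, h⟩ : H) ∈ ((k • R : Sylow 3 H) : Subgroup H) := by
      rw [Sylow.coe_subgroup_smul]
      exact Subgroup.smul_mem_pointwise_smul _ _ _ (hR (Subgroup.mem_zpowers _))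
    rw [hk] at h1
    exact h1
  set w := (k : G) * g⁻¹ with hw
  set y := w * x * w⁻¹ with hy'
  have hyP : y ∈ (P : Subgroup G) := by
    rw [hy', hw, show (k : G) * g⁻¹ * x * ((k : G) * g⁻¹)⁻¹ = (k : G) * (g⁻¹ * x * g) * (k : G)⁻¹ by
      group]
    exact hy
  have hy1 : y ≠ 1 := fun e => hx1 (conj_eq_one_iff.1 e)
  set C := Subgroup.centralizer ({y} : Set G) with hCy
  have hPC : (P : Subgroup G) ≤ C := L.le_cent hyP
  have hwC : ((w • P : Sylow 3 G) : Subgroup G) ≤ C := by
    intro z hz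
    rw [Sylow.coe_subgroup_smul, Subgroup.mem_pointwise_smul_iff_inv_smul_mem, MulAut.smul_def,
      MulAut.conj_inv_apply] at hz
    rw [hCy, Subgroup.mem_centralizer_singleton_iff, hy']
    have := L.comm hz hx
    calc z * (w * x * w⁻¹) = w * ((w⁻¹ * z * w) * x) * w⁻¹ := by group
      _ = w * x * w⁻¹ * z := by rw [this]; group
  obtain ⟨c, hc⟩ := MulAction.exists_smul_eq C ((w • P : Sylow 3 G).subtype hwC) (P.subtype hPC)
  rw [Sylow.smul_subtype] at hc
  have hcw : ((c : G) * w) • P = P := by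
    rw [mul_smul]
    exact Sylow.subtype_injective hc
  have hcwH : (c : G) * w ∈ H := hN (Sylow.smul_eq_iff_mem_normalizer.1 hcw)
  have hwH : w ∈ H := (Subgroup.mul_mem_cancel_left H (hC y hyP hy1 c.2)).1 hcwH
  exact inv_inv g ▸ H.inv_mem ((Subgroup.mul_mem_cancel_left H k.2).1 hwH)

/-- `|N(P)| = q³ (q - 1)`, `N(P)` contains the centralisers and `P` is TI. -/
theorem main_normalizer :
    Nat.card (Subgroup.normalizer ((P : Subgroup G) : Set G)) =
        Fintype.card F ^ 3 * (Fintype.card F - 1) ∧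
      (∀ u ∈ (P : Subgroup G), u ≠ 1 →
        Subgroup.centralizer ({u} : Set G) ≤ Subgroup.normalizer ((P : Subgroup G) : Set G)) ∧
      ∀ x ∈ (P : Subgroup G), x ≠ 1 → ∀ g : G, g⁻¹ * x * g ∈ (P : Subgroup G) →
        g ∈ Subgroup.normalizer ((P : Subgroup G) : Set G) := by
  classical
  haveI := L.three
  obtain ⟨H, hH, hN, hC⟩ := L.exists_big
  set N := Subgroup.normalizer ((P : Subgroup G) : Set G) with hNdef
  have hPH : (P : Subgroup G) ≤ H := Subgroup.le_normalizer.trans hN
  have hdvdN : Fintype.card F ^ 3 * (Fintype.card F - 1) ∣ Nat.card N := by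
    rw [← L.natCard_P, ← natCard_torusA (E := E) L.hyp.two_ne]
    exact L.coprime_torusA.mul_dvd_of_dvd_of_dvd (Subgroup.card_dvd_of_le Subgroup.le_normalizer)
      (Subgroup.card_dvd_of_le L.torusA_le_normalizer)
  obtain ⟨k, hk⟩ := hdvdN.trans (Subgroup.card_dvd_of_le hN)
  have h27 := L.hyp.q_facts.2.1
  -- `P` acts semiregularly on the other cosets
  have hsemi := AGroups.card_dvd_of_semiregular (H := (P : Subgroup G)) (α := G ⧸ H)
    {((1 : G) : G ⧸ H)}
    (by
      rintro a rfl p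
      exact QuotientGroup.eq.2 (by simpa using H.inv_mem (hPH p.2)))
    (by
      intro a ha p hp
      induction a using QuotientGroup.induction_on with
      | H g =>
        by_contra hp1
        refine ha (Set.mem_singleton_iff.2 (QuotientGroup.eq.2 ?_))
        have hg : g ∈ H := L.conj_mem_of_big hN hC p.2 (fun e => hp1 (Subtype.ext e)) (by
          have h2 : (((p : G) * g : G) : G ⧸ H) = (g : G ⧸ H) := hp
          have h3 := QuotientGroup.eq.1 h2.symm
          rwa [← mul_assoc] at h3)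
        simpa using H.inv_mem hg)
  rw [Set.ncard_singleton, L.natCard_P, ← Subgroup.index_eq_card] at hsemi
  have hn : H.index * k = Fintype.card F ^ 3 + 1 := by
    have h1 := H.card_mul_index
    rw [hk, L.hyp.card] at h1
    have hpos : 0 < Fintype.card F ^ 3 * (Fintype.card F - 1) := by
      have : 0 < Fintype.card F - 1 := by omega
      positivity
    refine Nat.eq_of_mul_eq_mul_left hpos ?_
    rw [← mul_assoc, mul_comm (_ * _) H.index] at *
    linarith
  have hidx1 : H.index ≠ 1 := fun e => hH (Subgroup.index_eq_one.1 e)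
  have hidx0 : H.index ≠ 0 := Subgroup.index_ne_zero_of_finite
  have hle := Nat.le_of_dvd (by omega) hsemi
  have hk1 : k = 1 := by
    rcases Nat.lt_or_ge k 2 with h | h
    · rcases k with _ | k
      · simp at hn
      · omega
    · have := Nat.mul_le_mul_left H.index h
      omega
  rw [hk1, mul_one] at hk
  have hNH : N = H := Subgroup.eq_of_le_of_card_ge hN
    (hk ▸ Nat.le_of_dvd Nat.card_pos hdvdN)
  refine ⟨by rw [hNH, hk], hNH ▸ hC, fun x hx hx1 g hg => ?_⟩
  rw [hNH]
  exact L.conj_mem_of_big hN hC hx hx1 (hPH hg)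

/-- `N(P) = P A₀`. -/
theorem exists_PA {n : G} (hn : n ∈ Subgroup.normalizer ((P : Subgroup G) : Set G)) :
    ∃ p ∈ (P : Subgroup G), ∃ a ∈ torusA E, n = p * a := by
  classical
  set N := Subgroup.normalizer ((P : Subgroup G) : Set G) with hN
  let f : ↥(P : Subgroup G) × ↥(torusA E) → N := fun z =>
    ⟨z.1.1 * z.2.1, mul_mem (Subgroup.le_normalizer z.1.2) (L.torusA_le_normalizer z.2.2)⟩
  have hinj : Function.Injective f := by
    rintro ⟨p, a⟩ ⟨p', a'⟩ h
    exact Subgroup.mul_injective_of_disjoint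
      (disjoint_iff.2 (Subgroup.inf_eq_bot_of_coprime L.coprime_torusA)) (congrArg Subtype.val h)
  have hcard : Nat.card (↥(P : Subgroup G) × ↥(torusA E)) = Nat.card N := by
    rw [Nat.card_prod, L.natCard_P, natCard_torusA L.hyp.two_ne, L.main_normalizer.1]
  obtain ⟨⟨p, a⟩, h⟩ := ((Nat.bijective_iff_injective_and_card f).2 ⟨hinj, hcard⟩).2 ⟨n, hn⟩
  exact ⟨p.1, p.2, a.1, a.2, (congrArg Subtype.val h).symm⟩

end Loc

end CfsgLib.WalterCons
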