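import Cfsg.Agent.WalterCons.InvolutionSylow
import Cfsg.Agent.WalterCons.ReeNormalizer
import Mathlib

/-!
# Groups of Ree order: a Sylow 3-subgroup normalised by `⟨t⟩ × ι(D)`

`RHyp E`: `|G| = q³(q³+1)(q-1)`, `q = 3^(2m+1)`, and the centraliser of the involution `E.t` is
`Z₂ × PSL₂(q)`; nothing is assumed on the Sylow 3-subgroups.
-/

set_option autoImplicit false
set_option linter.unusedSectionVars false
set_option linter.style.haveILetI false

namespace CfsgLib.WalterCons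

open Matrix CfsgLib.ReeTypeS3
open scoped MatrixGroups

universe u v

variable {G : Type u} [Group G] [Fintype G] {F : Type v} [Field F] [Fintype F]

local notation "PST" => Matrix.ProjectiveSpecialLinearGroup (Fin 2) F

/-- The standing hypotheses. -/
structure RHyp (E : Emb G (Matrix.ProjectiveSpecialLinearGroup (Fin 2) F)) : Prop where
  jt : JankoThompson.Hyp E
  three : ∃ m, 1 ≤ m ∧ Fintype.card F = 3 ^ (2 * m + 1)
  card : Nat.card G =
    Fintype.card F ^ 3 * (Fintype.card F ^ 3 + 1) * (Fintype.card F - 1)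

namespace RHyp

variable {E : Emb G (Matrix.ProjectiveSpecialLinearGroup (Fin 2) F)} (hyp : RHyp E)
include hyp

theorem q_facts : Fintype.card F % 8 = 3 ∧ 27 ≤ Fintype.card F ∧ Fintype.card F % 3 = 0 := by
  obtain ⟨m, hm, hq⟩ := hyp.three
  rw [hq, pow_succ, pow_mul]
  refine ⟨?_, ?_, Nat.mul_mod_left _ _⟩
  · rw [Nat.mul_mod, Nat.pow_mod]
    norm_num
  · calc 27 = (3 ^ 2) ^ 1 * 3 := rfl
      _ ≤ (3 ^ 2) ^ m * 3 := by gcongr; norm_num

theorem two_ne : (2 : F) ≠ 0 := JankoThompson.two_ne hyp.jt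

theorem charP3 : CharP F 3 := by
  obtain ⟨m, hm, hq⟩ := hyp.three
  obtain ⟨p, hp⟩ := CharP.exists F
  haveI := hp
  obtain ⟨n, hpp, e⟩ := FiniteField.card F p
  rw [hq] at e
  have h3 : 3 ∣ p ^ (n : ℕ) := e ▸ dvd_pow_self 3 (by omega)
  have := (Nat.prime_dvd_prime_iff_eq Nat.prime_three hpp).1 (Nat.prime_three.dvd_of_dvd_pow h3)
  rwa [this]

theorem natCard_Q : Nat.card (subQG E) = Fintype.card F := by
  rw [subQG, Subgroup.card_map_of_injective E.inj, natCard_subQ, Nat.card_eq_fintype_card]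

theorem isPGroup_Q : IsPGroup 3 (subQG E) := by
  obtain ⟨m, -, hq⟩ := hyp.three
  exact IsPGroup.of_card (n := 2 * m + 1) (by rw [hyp.natCard_Q, hq])

theorem cube_subQ {a : PST} (ha : a ∈ subQ (F := F)) : a ^ 3 = 1 := by
  haveI := hyp.charP3
  obtain ⟨b, rfl⟩ := ha
  obtain ⟨x, rfl⟩ := Multiplicative.ofAdd.surjective b
  rw [← map_pow, ← ofAdd_nsmul, nsmul_eq_mul, CharP.cast_eq_zero, zero_mul]
  exact map_one uQ

theorem cube_Q {x : G} (hx : x ∈ subQG E) : x ^ 3 = 1 := by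
  obtain ⟨a, ha, rfl⟩ := hx
  rw [← map_pow, hyp.cube_subQ ha, map_one]

theorem natCard_sylow (S : Sylow 3 G) : Nat.card (S : Subgroup G) = Fintype.card F ^ 3 := by
  haveI : Fact (Nat.Prime 3) := ⟨Nat.prime_three⟩
  obtain ⟨m, -, hq⟩ := hyp.three
  obtain ⟨h8, h27, h3⟩ := hyp.q_facts
  have h := Linear.card_sylow_of_card_eq 3 (k := (2 * m + 1) * 3)
    (r := (Fintype.card F ^ 3 + 1) * (Fintype.card F - 1))
    (by rw [hyp.card, pow_mul, ← hq]; ring) (by
      rw [Nat.Prime.dvd_mul Nat.prime_three]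
      rintro (h | h)
      · exact absurd ((Nat.dvd_add_iff_right (dvd_pow (Nat.dvd_of_mod_eq_zero h3)
          (show 3 ≠ 0 by norm_num))).2 h) (by norm_num)
      · omega) S
  rw [h, pow_mul, ← hq]

/-- A subgroup whose only involution commuting with `t ∈ C` is `t` is a group of odd order
extended by `⟨t⟩`. -/
theorem exists_odd_index_two {C : Subgroup G} (htC : E.t ∈ C)
    (h : ∀ y ∈ C, y * E.t = E.t * y → y * y = 1 → y = 1 ∨ y = E.t) :
    ∃ O : Subgroup C, O.index = 2 ∧ Odd (Nat.card O) := by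
  haveI : Fact (Nat.Prime 2) := ⟨Nat.prime_two⟩
  set tC : C := ⟨E.t, htC⟩
  have htC' : orderOf tC = 2 := by rw [← Subgroup.orderOf_coe]; exact E.orderOf_t
  have hp : IsPGroup 2 (Subgroup.zpowers tC) :=
    IsPGroup.of_card (n := 1) (by rw [Nat.card_zpowers, htC', pow_one])
  obtain ⟨P, hP⟩ := hp.exists_le_sylow
  have hPeq : (P : Subgroup C) = Subgroup.zpowers tC := by
    refine le_antisymm (fun x hx => ?_) hP
    have hPG : IsPGroup 2 ((P : Subgroup C).map C.subtype) := P.2.map _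
    obtain ⟨hxx, hxt⟩ := JankoThompson.two_group_facts hyp.jt hPG (x := (x : G)) (y := E.t)
      ⟨x, hx, rfl⟩ ⟨tC, hP (Subgroup.mem_zpowers _), rfl⟩
    rcases h x x.2 hxt hxx with e | e
    · rw [show x = 1 from Subtype.ext e]; exact one_mem _
    · rw [show x = tC from Subtype.ext e]; exact Subgroup.mem_zpowers _
  have hcyc : IsCyclic P := by
    show IsCyclic (P : Subgroup C)
    rw [hPeq]; infer_instance
  have hmin : (Nat.card C).minFac = 2 := by
    rw [Nat.minFac_eq_two_iff, ← htC']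
    exact orderOf_dvd_natCard tC
  have hc := IsCyclic.isComplement' hmin hcyc
  refine ⟨(MonoidHom.transferSylow P (IsCyclic.normalizer_le_centralizer hmin hcyc)).ker, ?_, ?_⟩
  · rw [hc.symm.index_eq_card, hPeq, Nat.card_zpowers, htC']
  · rw [← Nat.not_even_iff_odd, even_iff_two_dvd]
    exact MonoidHom.not_dvd_card_ker_transferSylow _ _

theorem not_sq_neg_one : ∀ x : F, x * x ≠ -1 := fun x hx =>
  (show Fintype.card F % 4 ≠ 3 from
    FiniteField.isSquare_neg_one_iff.1 ⟨x, hx.symm⟩) (by have := hyp.q_facts.1; omega)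

/-- An involution of the Borel subgroup is trivial. -/
theorem eq_one_of_inB_sq {l : PST} (hl : InB l) (h : l * l = 1) : l = 1 := by
  set B := (upperSL (F := F)).map (QuotientGroup.mk' (Subgroup.center SL(2, F))) with hB
  have hlB : l ∈ B := inB_iff.1 hl
  have hcard : 2 * Nat.card B = Fintype.card F * (Fintype.card F - 1) := by
    rw [← two_mul_natCard_inB hyp.two_ne]
    congr 1
    exact Nat.card_congr (Equiv.subtypeEquivRight fun _ => inB_iff.symm)
  obtain ⟨h8, h27, -⟩ := hyp.q_facts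
  have hodd : Odd (Nat.card B) := by
    obtain ⟨k, hk⟩ : ∃ k, Fintype.card F = 8 * k + 3 := ⟨Fintype.card F / 8, by omega⟩
    rw [hk, show 8 * k + 3 - 1 = 2 * (4 * k + 1) by omega, ← mul_assoc, mul_comm _ 2,
      mul_assoc] at hcard
    rw [Nat.eq_of_mul_eq_mul_left two_pos hcard]
    exact Odd.mul ⟨4 * k + 1, by ring⟩ ⟨2 * k, by ring⟩
  have h2 : orderOf (⟨l, hlB⟩ : B) ∣ 2 :=
    orderOf_dvd_of_pow_eq_one (Subtype.ext (by rw [pow_two]; exact h))
  rcases (Nat.dvd_prime Nat.prime_two).1 h2 with e | e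
  · exact congrArg Subtype.val (orderOf_eq_one_iff.1 e)
  · exact absurd (e.symm.dvd.trans (orderOf_dvd_natCard _)) hodd.not_two_dvd_nat

/-- In a 3-subgroup containing `ι(Q)` the centraliser of `t` is `ι(Q)`. -/
theorem fix_le {R : Subgroup G} (hR : IsPGroup 3 R) (hQR : subQG E ≤ R) {x : G} (hx : x ∈ R)
    (hxt : x * E.t = E.t * x) : x ∈ subQG E := by
  haveI : Fact (Nat.Prime 3) := ⟨Nat.prime_three⟩
  obtain ⟨j, hj⟩ := hR ⟨x, hx⟩
  obtain ⟨l, rfl, -⟩ := JankoThompson.exists_ι_of_odd hyp.jt hxt (m := 3 ^ j) (Odd.pow (by decide))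
    (congrArg Subtype.val hj)
  set R' := R.comap E.ι with hR'
  have hR'p : IsPGroup 3 R' := hR.comap_of_injective E.ι E.inj
  have hQ' : subQ (F := F) ≤ R' := fun a ha => hQR ⟨a, ha, rfl⟩
  obtain ⟨m, -, hq⟩ := hyp.three
  obtain ⟨-, h27, h3⟩ := hyp.q_facts
  have hodd := JankoThompson.odd_card (F := F) hyp.jt.mod8
  have hL := Linear.card_PSL_two_odd (F := F) hodd
  have hdvd : Nat.card R' ∣ 2 * Nat.card PST := dvd_mul_of_dvd_right (Subgroup.card_subgroup_dvd_card R') 2
  rw [hL] at hdvd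
  obtain ⟨i, hi⟩ := IsPGroup.iff_card.1 hR'p
  have hcop : Nat.Coprime (Nat.card R') (Fintype.card F ^ 2 - 1) := by
    rw [hi]
    refine Nat.Coprime.pow_left _ ((Nat.prime_three.coprime_iff_not_dvd).2 fun h => ?_)
    have h6 : 3 ∣ Fintype.card F ^ 2 := dvd_pow (Nat.dvd_of_mod_eq_zero h3) two_ne_zero
    have h7 : 1 ≤ Fintype.card F ^ 2 := Nat.one_le_pow _ _ (by omega)
    omega
  have hle : Nat.card R' ≤ Nat.card (subQ (F := F)) := by
    rw [natCard_subQ, Nat.card_eq_fintype_card (α := F)]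
    exact Nat.le_of_dvd (by omega) (hcop.dvd_of_dvd_mul_right hdvd)
  exact ⟨l, (Subgroup.eq_of_le_of_card_ge hQ' hle).symm ▸ (show l ∈ R' from hx), rfl⟩

/-- An element commuting with `t` and normalising a 3-subgroup containing `ι(Q)` normalises
`ι(Q)`. -/
theorem inB_of_normalizes {R : Subgroup G} (hR : IsPGroup 3 R) (hQR : subQG E ≤ R) {y : G} {l : PST}
    (hy : y ∈ Subgroup.normalizer (R : Set G)) (hyt : y * E.t = E.t * y)
    (hl : y = E.ι l ∨ y = E.t * E.ι l) : InB l := by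
  have h27 := hyp.q_facts.2.1
  haveI : Nontrivial (subQ (F := F)) := by
    rw [← Finite.one_lt_card_iff_nontrivial, natCard_subQ, Nat.card_eq_fintype_card]; omega
  obtain ⟨⟨e, he⟩, he1⟩ := exists_ne (1 : subQ (F := F))
  have he1' : e ≠ 1 := fun h => he1 (Subtype.ext h)
  refine inB_of_conj hyp.two_ne he he1' ?_
  have hmem : y * E.ι e * y⁻¹ ∈ R :=
    (Subgroup.mem_normalizer_iff.1 hy _).1 (hQR ⟨e, he, rfl⟩)
  have hcom : y * E.ι e * y⁻¹ * E.t = E.t * (y * E.ι e * y⁻¹) :=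
    (((show Commute E.t y from hyt.symm).mul_right (E.comm e)).mul_right
      (show Commute E.t y from hyt.symm).inv_right).symm.eq
  obtain ⟨a, ha, hae⟩ := hyp.fix_le hR hQR hmem hcom
  rw [E.conj_ι hl e] at hae
  rw [← E.inj hae]
  exact ha

/-- The normaliser of a 3-subgroup containing `ι(Q)` normalised by `t` has a subgroup of index
two and odd order. -/
theorem exists_odd_normalizer {R : Subgroup G} (hR : IsPGroup 3 R) (hQR : subQG E ≤ R)
    (ht : E.t ∈ Subgroup.normalizer (R : Set G)) :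
    ∃ O : Subgroup (Subgroup.normalizer (R : Set G)), O.index = 2 ∧ Odd (Nat.card O) := by
  refine hyp.exists_odd_index_two ht fun y hy hyt hyy => ?_
  obtain ⟨l, hl⟩ := E.cent y hyt
  have hlB := hyp.inB_of_normalizes hR hQR hy hyt hl
  have hll : l * l = 1 := by
    refine E.inj ?_
    rw [map_mul, map_one]
    rcases hl with e | e
    · rw [← e, hyy]
    · have e' : E.ι l = E.t * y := by rw [e, ← mul_assoc, E.sq, one_mul]
      rw [e', show E.t * y * (E.t * y) = E.t * (y * E.t) * y by group, hyt, ← mul_assoc E.t E.t,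
        E.sq, one_mul, hyy]
  rw [hyp.eq_one_of_inB_sq hlB hll, map_one, mul_one] at hl
  exact hl

theorem u_facts : Odd (Nat.card (subD (F := F))) ∧ ¬ 3 ∣ Nat.card (subD (F := F)) ∧
    Nat.card (subD (F := F)) ∣ Fintype.card F - 1 := by
  have h := natCard_subD (F := F) hyp.two_ne
  obtain ⟨h8, h27, h3⟩ := hyp.q_facts
  refine ⟨by rw [Nat.odd_iff]; omega, fun hd => ?_, h ▸ dvd_mul_left _ 2⟩
  have : 3 ∣ Fintype.card F - 1 := hd.trans (h ▸ dvd_mul_left _ 2)
  omega

/-- For a prime dividing `(q - 1) / 2` the torus carries a Sylow subgroup. -/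
theorem prime_pow_dvd {ℓ : ℕ} (hℓ : ℓ.Prime) (hd : ℓ ∣ Nat.card (subD (F := F))) {k : ℕ}
    (hk : ℓ ^ k ∣ Nat.card G) : ℓ ^ k ∣ Nat.card (subD (F := F)) := by
  obtain ⟨hodd, h3, hdq⟩ := hyp.u_facts
  obtain ⟨h8, h27, -⟩ := hyp.q_facts
  have hl2 : ℓ ≠ 2 := fun e => hodd.not_two_dvd_nat (e ▸ hd)
  have hlq1 : ℓ ∣ Fintype.card F - 1 := hd.trans hdq
  have hz : (Fintype.card F : ZMod ℓ) = 1 := by
    have h := (ZMod.natCast_eq_zero_iff _ _).2 hlq1
    rw [Nat.cast_sub (by omega), Nat.cast_one, sub_eq_zero] at h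
    exact h
  haveI : Fact ℓ.Prime := ⟨hℓ⟩
  have hc : Nat.Coprime (ℓ ^ k) (Fintype.card F ^ 3 * (Fintype.card F ^ 3 + 1) * 2) := by
    refine Nat.Coprime.pow_left _ (hℓ.coprime_iff_not_dvd.2 fun h => ?_)
    rw [← ZMod.natCast_eq_zero_iff] at h
    push_cast [hz] at h
    have h4 : ((4 : ℕ) : ZMod ℓ) = 0 := by
      rw [← h]; push_cast; ring
    rw [ZMod.natCast_eq_zero_iff] at h4
    exact hl2 ((Nat.prime_dvd_prime_iff_eq hℓ Nat.prime_two).1
      (hℓ.dvd_of_dvd_pow (show ℓ ∣ 2 ^ 2 from h4)))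
  refine hc.dvd_of_dvd_mul_left ?_
  rwa [mul_assoc, natCard_subD hyp.two_ne, ← hyp.card]

/-- A Sylow 3-subgroup containing `ι(Q)` normalised by `⟨t⟩ × ι(D)`. -/
theorem exists_sylow_torus : ∃ P : Sylow 3 G, subQG E ≤ (P : Subgroup G) ∧
    torusA E ≤ Subgroup.normalizer ((P : Subgroup G) : Set G) := by
  classical
  haveI : Fact (Nat.Prime 3) := ⟨Nat.prime_three⟩
  set A := torusA E with hA
  have hAQ : A ≤ Subgroup.normalizer (subQG E : Set G) := by
    intro a ha
    obtain ⟨d, hd, hda⟩ := mem_torusA ha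
    obtain ⟨c, rfl⟩ := hd
    refine Subgroup.mem_normalizer_iff.2 fun z => ⟨?_, ?_⟩
    · rintro ⟨b, hb, rfl⟩
      rw [E.conj_ι hda b]
      exact ⟨_, normalizes_subQ (inB_dQ c) hb, rfl⟩
    · intro hz
      obtain ⟨b, hb, e⟩ := hz
      have hz' : z = a⁻¹ * E.ι b * a := by rw [e]; group
      have hda' : a⁻¹ = E.ι (dQ c⁻¹) ∨ a⁻¹ = E.t * E.ι (dQ c⁻¹) := by
        rcases hda with h | h
        · exact Or.inl (by rw [h, map_inv, map_inv])
        · refine Or.inr ?_
          rw [h, _root_.mul_inv_rev, map_inv, map_inv,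
            (show Commute (E.ι (dQ c))⁻¹ E.t⁻¹ from
              ((show Commute E.t (E.ι (dQ c)) from E.comm _).symm).inv_inv).eq,
            inv_eq_of_mul_eq_one_right E.sq]
      have := E.conj_ι hda' b
      rw [inv_inv] at this
      rw [hz', this]
      exact ⟨_, normalizes_subQ (inB_dQ c⁻¹) hb, rfl⟩
  obtain ⟨R, ⟨hRp, hQR, hAR⟩, hmax⟩ := Finset.exists_max_image
    (Finset.univ.filter fun R : Subgroup G => IsPGroup 3 R ∧ subQG E ≤ R ∧
      A ≤ Subgroup.normalizer (R : Set G)) (fun R => Nat.card R)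
    ⟨subQG E, Finset.mem_filter.2 ⟨Finset.mem_univ _, hyp.isPGroup_Q, le_rfl, hAQ⟩⟩ |>
    fun ⟨R, hR, hm⟩ => (⟨R, (Finset.mem_filter.1 hR).2, hm⟩ : ∃ R : Subgroup G,
      (IsPGroup 3 R ∧ subQG E ≤ R ∧ A ≤ Subgroup.normalizer (R : Set G)) ∧
      ∀ R' ∈ Finset.univ.filter (fun R : Subgroup G => IsPGroup 3 R ∧ subQG E ≤ R ∧
        A ≤ Subgroup.normalizer (R : Set G)), Nat.card R' ≤ Nat.card R)
  have htA : E.t ∈ A := by
    refine ⟨(Multiplicative.ofAdd 1, 1), ⟨Subgroup.mem_top _, one_mem _⟩, ?_⟩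
    simp [Emb.prodHom]
  set N := Subgroup.normalizer (R : Set G) with hN
  obtain ⟨O, hO, hOodd⟩ := hyp.exists_odd_normalizer hRp hQR (hAR htA)
  haveI : O.Normal := Subgroup.normal_of_index_eq_two hO
  set R₀ := R.subgroupOf N with hR₀
  haveI : R₀.Normal := Subgroup.normal_in_normalizer
  set f := QuotientGroup.mk' R₀ with hf
  haveI : (O.map f).Normal := Subgroup.Normal.map inferInstance f (QuotientGroup.mk'_surjective _)
  set τ := f ⟨E.t, hAR htA⟩ with hτ
  have hτ2 : τ * τ = 1 := by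
    rw [hτ, ← map_mul, show (⟨E.t, hAR htA⟩ : N) * ⟨E.t, hAR htA⟩ = 1 from Subtype.ext E.sq, map_one]
  have hXodd : Odd (Nat.card (O.map f)) := hOodd.of_dvd_nat (Subgroup.card_map_dvd O f)
  set u := Nat.card (subD (F := F)) with hu
  obtain ⟨huodd, hu3, -⟩ := hyp.u_facts
  have hmemO : ∀ z : N, Odd (orderOf z) → z ∈ O := fun z hz =>
    ReeTypeS3.mem_of_odd_order hO hz (pow_orderOf_eq_one z)
  -- the elements of `ι(D)` in the quotient
  set D' : Subgroup N := ((subD (F := F)).map E.ι).subgroupOf N with hD'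
  have hDN : (subD (F := F)).map E.ι ≤ N := by
    rintro _ ⟨d, hd, rfl⟩
    exact hAR ⟨(1, d), ⟨Subgroup.mem_top _, hd⟩, by simp [Emb.prodHom]⟩
  have hD'c : Nat.card D' = u := by
    rw [hD', Nat.card_congr (Subgroup.subgroupOfEquivOfLe hDN).toEquiv,
      Subgroup.card_map_of_injective E.inj]
  have hord : ∀ z ∈ D', orderOf z ∣ u := fun z hz => by
    rw [← hD'c]; exact Subgroup.orderOf_dvd_natCard D' hz
  have hD'O : D' ≤ O := fun z hz => hmemO z (huodd.of_dvd_nat (hord z hz))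
  have hDt : ∀ z ∈ D', f z * τ = τ * f z := by
    intro z hz
    obtain ⟨d, -, hd⟩ := hz
    rw [hτ, ← map_mul, ← map_mul]
    congr 1
    exact Subtype.ext (show (z : G) * E.t = E.t * (z : G) by
      rw [show (z : G) = E.ι d from hd.symm]; exact (E.comm d).symm)
  have hcopD : ∀ z ∈ D', z ∈ R₀ → z = 1 := by
    intro z hz hzR
    obtain ⟨i, hi⟩ := hRp ⟨(z : G), hzR⟩
    have hi' : z ^ 3 ^ i = 1 := Subtype.ext (by simpa using congrArg Subtype.val hi)
    refine orderOf_eq_one_iff.1 (Nat.dvd_one.1 ?_)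
    rw [← (((Nat.prime_three).coprime_iff_not_dvd.2 hu3).pow_left i).gcd_eq_one]
    exact Nat.dvd_gcd (orderOf_dvd_of_pow_eq_one hi') (hord z hz)
  have key : ¬ 3 ∣ Nat.card (O.map f) := by
    refine not_dvd_of_involution hτ2 hXodd hu3 ?_ ?_ ?_
    · rintro _ ⟨x, hxO, rfl⟩ hx
      have hcR : (x : G)⁻¹ * (E.t * x * E.t) ∈ R := by
        have h1 : f (x⁻¹ * (⟨E.t, hAR htA⟩ * x * ⟨E.t, hAR htA⟩)) = 1 := by
          rw [map_mul, map_inv, map_mul, map_mul, ← hτ, ← hx, mul_assoc, hτ2, mul_one,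
            inv_mul_cancel]
        have h2 : x⁻¹ * (⟨E.t, hAR htA⟩ * x * ⟨E.t, hAR htA⟩) ∈ R₀ :=
          (QuotientGroup.eq_one_iff _).1 h1
        exact h2
      have hRodd : Odd (Nat.card R) := by
        obtain ⟨i, hi⟩ := IsPGroup.iff_card.1 hRp
        rw [hi]; exact Odd.pow (by decide)
      obtain ⟨d, hdR, -, hfix⟩ := exists_fixed_in_coset E.sq hRodd hcR
      have hdN : d ∈ N := Subgroup.le_normalizer hdR
      have hyN : (x : G) * d ∈ N := mul_mem x.2 hdN
      obtain ⟨l, hl⟩ := E.cent _ hfix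
      have hlB := hyp.inB_of_normalizes hRp hQR hyN hfix hl
      have hyodd : Odd (orderOf ((x : G) * d)) := by
        have hdO : (⟨d, hdN⟩ : N) ∈ O := hmemO _ (by
          rw [← Subgroup.orderOf_coe]
          exact hRodd.of_dvd_nat (Subgroup.orderOf_dvd_natCard R hdR))
        have := hOodd.of_dvd_nat (Subgroup.orderOf_dvd_natCard O (mul_mem hxO hdO))
        rwa [← Subgroup.orderOf_coe] at this
      obtain ⟨l', hl', -⟩ := JankoThompson.exists_ι_of_odd hyp.jt hfix hyodd (pow_orderOf_eq_one _)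
      have hll : l' = l := by
        rcases hl with e | e
        · exact E.inj (hl'.symm.trans e)
        · exact absurd (hl'.symm.trans e) E.ι_eq_t_mul_iff
      obtain ⟨a, b, hab⟩ := inB_decomp hlB
      rw [hll, hab, map_mul] at hl'
      have hQb : E.ι (uQ (.ofAdd b)) ∈ R := hQR ⟨_, ⟨_, rfl⟩, rfl⟩
      have haN : E.ι (dQ a) ∈ N := hDN ⟨_, ⟨a, rfl⟩, rfl⟩
      have hfe : f x = f ⟨E.ι (dQ a), haN⟩ := by
        rw [hf, QuotientGroup.mk'_eq_mk']
        refine ⟨⟨d * (E.ι (uQ (.ofAdd b)))⁻¹, mul_mem hdN (inv_mem (Subgroup.le_normalizer hQb))⟩,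
          mul_mem hdR (inv_mem hQb), Subtype.ext ?_⟩
        show (x : G) * (d * (E.ι (uQ (.ofAdd b)))⁻¹) = E.ι (dQ a)
        rw [← mul_assoc, hl', mul_inv_cancel_right]
      have haD : (⟨E.ι (dQ a), haN⟩ : N) ∈ D' := ⟨_, ⟨a, rfl⟩, rfl⟩
      have hpow : (⟨E.ι (dQ a), haN⟩ : N) ^ u = 1 :=
        orderOf_dvd_iff_pow_eq_one.1 (hord _ haD)
      rw [hfe, ← map_pow, hpow, map_one]
    · intro ℓ hℓ hℓu K hKX hKn hKp
      haveI : Fact ℓ.Prime := ⟨hℓ⟩
      obtain ⟨S⟩ : Nonempty (Sylow ℓ (D'.map f)) := inferInstance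
      set S' := (S : Subgroup (D'.map f)).map (D'.map f).subtype with hS'
      have hS'c : Nat.card S' = ℓ ^ (u.factorization ℓ) := by
        rw [hS', Subgroup.card_map_of_injective (Subgroup.subtype_injective _), S.card_eq_multiplicity]
        suffices h : Nat.card (D'.map f) = u by rw [h]
        refine (Nat.card_congr (Equiv.ofBijective
          (fun z : D' => (⟨f z, z, z.2, rfl⟩ : D'.map f)) ⟨fun a b hab => ?_, ?_⟩).symm).trans hD'c
        · have hab' : f (a : N) = f b := congrArg Subtype.val hab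
          rw [hf, QuotientGroup.mk'_eq_mk'] at hab'
          obtain ⟨z, hz, e⟩ := hab'
          have hzD : z ∈ D' := by
            rw [show z = (a : N)⁻¹ * b by rw [← e]; group]
            exact mul_mem (inv_mem a.2) b.2
          rw [hcopD z hzD hz, mul_one] at e
          exact Subtype.ext e
        · rintro ⟨_, z, hz, rfl⟩
          exact ⟨⟨z, hz⟩, rfl⟩
      have hsup : IsPGroup ℓ (K ⊔ S' : Subgroup (N ⧸ R₀)) :=
        hKp.to_sup_of_normal_left' (S.2.map _) (by rw [Subgroup.normalizer_eq_top]; exact le_top)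
      obtain ⟨k, hk⟩ := IsPGroup.iff_card.1 hsup
      have hdvdG : Nat.card (N ⧸ R₀) ∣ Nat.card G :=
        (Subgroup.card_quotient_dvd_card R₀).trans (Subgroup.card_subgroup_dvd_card N)
      have hku : k ≤ u.factorization ℓ :=
        (hℓ.pow_dvd_iff_le_factorization Nat.card_pos.ne').1
          (hyp.prime_pow_dvd hℓ hℓu ((hk ▸ Subgroup.card_subgroup_dvd_card _).trans hdvdG))
      have hKS : K ≤ S' := by
        refine le_sup_left.trans (Subgroup.eq_of_le_of_card_ge le_sup_right ?_).ge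
        rw [hk, hS'c]
        exact Nat.pow_le_pow_right hℓ.pos hku
      intro z hz
      obtain ⟨⟨_, w, hw, rfl⟩, -, rfl⟩ := hKS hz
      exact hDt w hw
    · intro K hKX hKn hKp
      set K₀ := K.comap f with hK₀
      set K₁ := K₀.map N.subtype with hK₁
      have hK₁p : IsPGroup 3 K₁ :=
        (hKp.comap_of_ker_isPGroup f (by
          rw [hf, QuotientGroup.ker_mk']
          exact hRp.comap_of_injective N.subtype N.subtype_injective)).map _
      have hRK : R ≤ K₁ := fun r hr =>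
        ⟨⟨r, Subgroup.le_normalizer hr⟩, show f _ ∈ K by
          rw [show f ⟨r, Subgroup.le_normalizer hr⟩ = 1 from (QuotientGroup.eq_one_iff _).2 hr]
          exact one_mem _, rfl⟩
      have hN₁ : N ≤ Subgroup.normalizer (K₁ : Set G) := by
        haveI : K₀.Normal := inferInstance
        intro n hn
        have := Subgroup.le_normalizer_map (H := K₀) N.subtype
          (Subgroup.mem_map_of_mem N.subtype (show (⟨n, hn⟩ : N) ∈ Subgroup.normalizer (K₀ : Set N) by
            rw [Subgroup.normalizer_eq_top]; exact Subgroup.mem_top _))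
        exact this
      have hle := hmax K₁ (Finset.mem_filter.2
        ⟨Finset.mem_univ _, hK₁p, hQR.trans hRK, hAR.trans hN₁⟩)
      have heq : R = K₁ := Subgroup.eq_of_le_of_card_ge hRK hle
      rw [eq_bot_iff]
      intro z hz
      obtain ⟨w, rfl⟩ := QuotientGroup.mk'_surjective R₀ z
      rw [Subgroup.mem_bot, QuotientGroup.mk'_apply, QuotientGroup.eq_one_iff, hR₀,
        Subgroup.mem_subgroupOf, heq]
      exact ⟨w, hz, rfl⟩
  have h3N : ¬ 3 ∣ Nat.card (N ⧸ R₀) := by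
    intro h
    rw [← (O.map f).card_mul_index] at h
    rcases Nat.prime_three.dvd_mul.1 h with h | h
    · exact key h
    · have h2 := h.trans (Subgroup.index_map_dvd O (QuotientGroup.mk'_surjective R₀))
      rw [hO] at h2
      omega
  -- `R` is a Sylow subgroup
  obtain ⟨i, hi⟩ := IsPGroup.iff_card.1 hRp
  obtain ⟨P, hP⟩ := hRp.exists_le_sylow
  by_cases hle : Nat.card (P : Subgroup G) ≤ Nat.card R
  · have e := Subgroup.eq_of_le_of_card_ge hP hle
    exact ⟨P, hQR.trans hP, by rw [← e]; exact hAR⟩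
  · exfalso
    refine h3N (Sylow.prime_dvd_card_quotient_normalizer (n := i) ?_ hi)
    rw [P.card_eq_multiplicity, hi] at hle
    have hlt : i < (Nat.card G).factorization 3 := by
      by_contra hge
      exact hle (Nat.pow_le_pow_right (by norm_num) (not_lt.1 hge))
    exact (pow_dvd_pow 3 (show i + 1 ≤ (Nat.card G).factorization 3 by omega)).trans
      (Nat.ordProj_dvd _ _)

end RHyp

end CfsgLib.WalterCons
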