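import Cfsg.Agent.WalterCons.DualFacts
import Cfsg.Agent.Characters.Exceptional
import Cfsg.Agent.OddOrderChar.KernelFacts
import Mathlib

/-!
# Exceptional characters over an abelian TI Sylow subgroup of order `q³`

`Config G P A Q I q`: `P = Q × I` is abelian TI of order `q³`, `N(P) = P A`, `|A| = q - 1`, `A` acts
semiregularly on `I#`, `|G| = q³(q³+1)(q-1)`, and `C(v) = P` for some `v ∈ I#`.  Such a group is
not simple.
-/

set_option autoImplicit false
set_option linter.style.haveILetI false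
set_option linter.unusedSectionVars false

namespace CfsgLib.WalterCons

open scoped ComplexConjugate IsMulCommutative
open CfsgLib.Characters

universe u

variable {G : Type u} [Group G]

/-- The configuration. -/
structure Config (P A Q I : Subgroup G) (q : ℕ) : Prop where
  q_ge : 27 ≤ q
  Q_le : Q ≤ P
  I_le : I ≤ P
  card_P : Nat.card P = q ^ 3
  card_Q : Nat.card Q = q
  card_A : Nat.card A = q - 1
  decomp : ∀ p ∈ P, ∃ e ∈ Q, ∃ i ∈ I, p = e * i
  disj : ∀ x ∈ Q, x ∈ I → x = 1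
  A_P : ∀ a ∈ A, ∀ p ∈ P, a * p * a⁻¹ ∈ P
  A_Q : ∀ a ∈ A, ∀ e ∈ Q, a * e * a⁻¹ ∈ Q
  A_I : ∀ a ∈ A, ∀ i ∈ I, a * i * a⁻¹ ∈ I
  free : ∀ a ∈ A, a ≠ 1 → ∀ i ∈ I, i ≠ 1 → a * i ≠ i * a
  PA : ∀ n ∈ Subgroup.normalizer (P : Set G), ∃ p ∈ P, ∃ a ∈ A, n = p * a
  ti : ∀ x ∈ P, x ≠ 1 → ∀ g : G, g⁻¹ * x * g ∈ P → g ∈ Subgroup.normalizer (P : Set G)
  card_G : Nat.card G = q ^ 3 * (q ^ 3 + 1) * (q - 1)
  cent : ∃ v ∈ I, v ≠ 1 ∧ Subgroup.centralizer ({v} : Set G) = P

/-- The values of a linear character. -/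
def lc {K : Type u} [Group K] (l : K →* ℂˣ) : K → ℂ := fun x => ((l x : ℂˣ) : ℂ)

namespace Config

variable {P A Q I : Subgroup G} {q : ℕ} (h : Config P A Q I q)
include h

/-- Conjugation by an element of `A` on `P`. -/
noncomputable def conjP (a : A) : P →* P :=
  ((MulAut.conj (a : G)).toMonoidHom.comp P.subtype).codRestrict P fun p => h.A_P a a.2 p p.2

theorem conjP_coe (a : A) (p : P) : (h.conjP a p : G) = (a : G) * p * (a : G)⁻¹ := rfl

theorem conjP_conjP (a b : A) (p : P) : h.conjP a (h.conjP b p) = h.conjP (a * b) p :=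
  Subtype.ext (by
    show (a : G) * ((b : G) * p * (b : G)⁻¹) * (a : G)⁻¹ = (a * b : G) * p * (a * b : G)⁻¹
    group)

theorem conjP_one (p : P) : h.conjP 1 p = p := Subtype.ext (by simp [conjP_coe])

theorem conjP_bijective (a : A) : Function.Bijective (h.conjP a) :=
  ⟨fun x y e => Subtype.ext ((MulAut.conj (a : G)).injective (congrArg Subtype.val e)),
    fun y => ⟨h.conjP a⁻¹ y, by rw [conjP_conjP, mul_inv_cancel, conjP_one]⟩⟩

/-- `l ↦ l ∘ conj a`. -/
noncomputable def act (a : A) (l : P →* ℂˣ) : P →* ℂˣ := l.comp (h.conjP a)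

theorem act_apply (a : A) (l : P →* ℂˣ) (p : P) : h.act a l p = l (h.conjP a p) := rfl

theorem act_act (a b : A) (l : P →* ℂˣ) : h.act b (h.act a l) = h.act (a * b) l :=
  MonoidHom.ext fun p => congrArg l (h.conjP_conjP a b p)

theorem act_one (l : P →* ℂˣ) : h.act 1 l = l := MonoidHom.ext fun p => congrArg l (h.conjP_one p)

theorem act_nontriv {a : A} {l : P →* ℂˣ} (hl : ¬ ∀ x ∈ I.subgroupOf P, l x = 1) :
    ¬ ∀ x ∈ I.subgroupOf P, h.act a l x = 1 := fun hc => hl fun x hx => by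
  have := hc (h.conjP a⁻¹ x) (Subgroup.mem_subgroupOf.2 (h.A_I _ (a⁻¹).2 _ hx))
  rwa [act_apply, conjP_conjP, mul_inv_cancel, conjP_one] at this

variable [Fintype G] [IsMulCommutative P]

theorem eq_one_of_act_eq {a : A} {l : P →* ℂˣ} (hl : ¬ ∀ x ∈ I.subgroupOf P, l x = 1)
    (he : h.act a l = l) : a = 1 := by
  by_contra ha
  apply hl
  let f : I.subgroupOf P → I.subgroupOf P := fun x =>
    ⟨h.conjP a x.1 * (x.1)⁻¹, mul_mem (Subgroup.mem_subgroupOf.2 (h.A_I _ a.2 _ x.2))
      (inv_mem x.2)⟩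
  have hinj : Function.Injective f := by
    intro x y e
    have e' : h.conjP a x.1 * (x.1)⁻¹ = h.conjP a y.1 * (y.1)⁻¹ := congrArg Subtype.val e
    have hfix : h.conjP a (x.1 * (y.1)⁻¹) = x.1 * (y.1)⁻¹ := by
      rw [map_mul, map_inv, mul_inv_eq_iff_eq_mul.1 e']
      simp only [mul_comm]
      group
    by_contra hxy
    have hne : ((x.1 * (y.1)⁻¹ : P) : G) ≠ 1 := fun e1 =>
      hxy (Subtype.ext (mul_inv_eq_one.1 (Subtype.ext e1)))
    refine h.free a a.2 (fun e1 => ha (Subtype.ext e1)) _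
      (Subgroup.mem_subgroupOf.1 (mul_mem x.2 (inv_mem y.2))) hne ?_
    have := congrArg Subtype.val hfix
    rw [conjP_coe] at this
    exact mul_inv_eq_iff_eq_mul.1 this
  intro x hx
  obtain ⟨y, hy⟩ := Finite.injective_iff_surjective.1 hinj ⟨x, hx⟩
  rw [← show h.conjP a y.1 * (y.1)⁻¹ = x from congrArg Subtype.val hy, map_mul, map_inv,
    ← act_apply, he, mul_inv_cancel]

theorem natCard_I : Nat.card I = q ^ 2 := by
  classical
  let f : ↥Q × ↥I → ↥P := fun z => ⟨z.1.1 * z.2.1, mul_mem (h.Q_le z.1.2) (h.I_le z.2.2)⟩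
  have hf : Function.Bijective f := by
    refine ⟨fun z z' e => ?_, fun p => ?_⟩
    · exact Subgroup.mul_injective_of_disjoint
        (disjoint_iff.2 ((Subgroup.eq_bot_iff_forall _).2 fun x hx => h.disj x hx.1 hx.2))
        (congrArg Subtype.val e)
    · obtain ⟨e, he, i, hi, hp⟩ := h.decomp p p.2
      exact ⟨(⟨e, he⟩, ⟨i, hi⟩), Subtype.ext hp.symm⟩
  have h1 := Nat.card_eq_of_bijective f hf
  rw [Nat.card_prod, h.card_Q, h.card_P] at h1
  have := h.q_ge
  exact Nat.eq_of_mul_eq_mul_left (show 0 < q by omega) (h1.trans (by ring))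

theorem index_I : (I.subgroupOf P).index = q := by
  have h1 := (I.subgroupOf P).card_mul_index
  rw [Nat.card_congr (Subgroup.subgroupOfEquivOfLe h.I_le).toEquiv, h.natCard_I, h.card_P] at h1
  have := h.q_ge
  exact Nat.eq_of_mul_eq_mul_left (show 0 < q ^ 2 by positivity) (h1.trans (by ring))

/-- Induction of a function vanishing at `1`, on `P`. -/
theorem ind_apply [Fintype A] (α : P → ℂ) (h1 : α 1 = 0) (x : P) :
    Cfsg.indFun P α (x : G) = ∑ a : A, α (h.conjP a x) := by
  classical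
  by_cases hx : x = 1
  · subst hx
    rw [OneMemClass.coe_one, Characters.indFun_one, h1, mul_zero]
    exact (Finset.sum_eq_zero fun a _ => by rw [map_one, h1]).symm
  let f : ↥P × ↥A → G := fun z => z.1.1 * z.2.1
  haveI : Fintype P := Fintype.ofFinite _
  have hf : Function.Injective f := by
    rintro ⟨p, a⟩ ⟨p', a'⟩ e
    refine Subgroup.mul_injective_of_disjoint (disjoint_iff.2 ?_) e
    refine Subgroup.inf_eq_bot_of_coprime ?_
    rw [h.card_P, h.card_A]
    refine Nat.Coprime.pow_left _ ?_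
    exact ((Nat.coprime_self_sub_right (by have := h.q_ge; omega)).2 (Nat.coprime_one_right q))
  have hsum := Fintype.sum_of_injective f hf
    (fun z => α (h.conjP (z.2)⁻¹ x)) (fun g => Cfsg.extendByZero P α (g⁻¹ * x * g))
    (fun g hg => by
      refine extendByZero_of_not_mem P α fun hmem => hg ?_
      obtain ⟨p, hp, a, ha, e⟩ := h.PA g (h.ti x x.2 (fun e => hx (Subtype.ext e)) g hmem)
      exact ⟨(⟨p, hp⟩, ⟨a, ha⟩), e.symm⟩)
    (fun z => by
      have hmem : (f z)⁻¹ * (x : G) * f z = (h.conjP (z.2)⁻¹ x : G) := by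
        have hc : ((z.1 : G))⁻¹ * x * z.1 = x := by
          have := congrArg (Subtype.val) (mul_comm x z.1)
          simp only [Subgroup.coe_mul] at this
          rw [mul_assoc, this, inv_mul_cancel_left]
        rw [conjP_coe]
        show ((z.1 : G) * z.2)⁻¹ * x * ((z.1 : G) * z.2) = _
        calc ((z.1 : G) * z.2)⁻¹ * x * ((z.1 : G) * z.2)
            = (z.2 : G)⁻¹ * ((z.1 : G)⁻¹ * x * z.1) * z.2 := by group
          _ = _ := by rw [hc]; simp
      rw [hmem]
      exact (extendByZero_coe P α _).symm)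
  rw [Cfsg.indFun, ← hsum, Fintype.sum_prod_type]
  dsimp only
  rw [Finset.sum_const, Finset.card_univ,
    ← Nat.card_eq_fintype_card, nsmul_eq_mul, ← mul_assoc,
    inv_mul_cancel₀ (subgroup_card_ne_zero P), one_mul]
  exact Fintype.sum_equiv (Equiv.inv A) _ _ fun a => rfl

theorem false_of_config [IsSimpleGroup G] : False := by
  classical
  haveI : Fintype P := Fintype.ofFinite _
  haveI : Fintype A := Fintype.ofFinite _
  haveI : Fintype (P →* ℂˣ) := Fintype.ofFinite _
  have hq := h.q_ge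
  -- orbits of `A` on the characters nontrivial on `I`
  let IP := I.subgroupOf P
  let Λ := {l : P →* ℂˣ // ¬ ∀ x ∈ IP, l x = 1}
  let s : Setoid Λ :=
    { r := fun l l' => ∃ a : A, l'.1 = h.act a l.1
      iseqv :=
        { refl := fun l => ⟨1, (h.act_one _).symm⟩
          symm := fun {l l'} ⟨a, e⟩ => ⟨a⁻¹, by rw [e, act_act, mul_inv_cancel, act_one]⟩
          trans := fun {l l' l''} ⟨a, e⟩ ⟨b, e'⟩ => ⟨a * b, by rw [e', e, act_act]⟩ } }
  let ι := Quotient s
  haveI : Fintype ι := Fintype.ofFinite _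
  let e₀ : ι × A → Λ := fun z => ⟨h.act z.2 z.1.out.1, h.act_nontriv z.1.out.2⟩
  have he₀ : Function.Bijective e₀ := by
    refine ⟨fun z z' e => ?_, fun l => ?_⟩
    · obtain ⟨i, a⟩ := z
      obtain ⟨j, b⟩ := z'
      have e' : h.act a i.out.1 = h.act b j.out.1 := congrArg Subtype.val e
      have hij : i = j := Quotient.out_equiv_out.1 (show s.r i.out j.out from
        ⟨a * b⁻¹, by rw [← act_act, e', act_act, mul_inv_cancel, act_one]⟩)
      subst hij
      have := h.eq_one_of_act_eq i.out.2 (a := a * b⁻¹)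
        (by rw [← act_act, e', act_act, mul_inv_cancel, act_one])
      rw [mul_inv_eq_one.1 this]
    · obtain ⟨a, ha⟩ : s.r (Quotient.mk s l).out l := Quotient.mk_out l
      exact ⟨(Quotient.mk s l, a), Subtype.ext ha.symm⟩
  let e : ι × A ≃ Λ := Equiv.ofBijective e₀ he₀
  -- sums over the characters
  let T : P → ℂ := fun x => ∑ l : Λ, ((l.1 x : ℂˣ) : ℂ)
  have hT : ∀ x, T x = (if x = 1 then ((q : ℂ) ^ 3) else 0) - if x ∈ IP then (q : ℂ) else 0 := by
    intro x
    have h1 := Fintype.sum_subtype_add_sum_subtype (fun l : P →* ℂˣ => ∀ y ∈ IP, l y = 1)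
      (fun l => ((l x : ℂˣ) : ℂ))
    rw [sum_dual, sum_dual_trivial, h.card_P, h.index_I, Nat.cast_pow] at h1
    exact eq_sub_of_add_eq' h1
  have hTe : ∀ F : Λ → ℂ, ∑ l, F l = ∑ i : ι, ∑ a : A, F (e (i, a)) := fun F => by
    rw [← Equiv.sum_comp e, Fintype.sum_prod_type]
  have hf : Fintype.card ι = q * (q + 1) := by
    have h1 := Nat.card_congr e
    have h2 := hT 1
    rw [if_pos rfl, if_pos (one_mem _)] at h2
    simp only [T, map_one, Units.val_one, Finset.sum_const, Finset.card_univ, nsmul_eq_mul,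
      mul_one] at h2
    rw [Nat.card_prod, h.card_A, Nat.card_eq_fintype_card, Nat.card_eq_fintype_card] at h1
    have h3 : ((Fintype.card ι * (q - 1) : ℕ) : ℂ) = ((q * (q + 1) * (q - 1) : ℕ) : ℂ) := by
      rw [h1, h2]
      push_cast [show 1 ≤ q by omega]
      ring
    exact Nat.eq_of_mul_eq_mul_right (show 0 < q - 1 by omega) (Nat.cast_injective h3)
  haveI : Nontrivial ι := Fintype.one_lt_card_iff_nontrivial.1 (by rw [hf]; nlinarith)
  obtain ⟨i₀, j₁, hj₁⟩ : ∃ i₀ j₁ : ι, j₁ ≠ i₀ :=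
    let ⟨a, b, hab⟩ := exists_pair_ne ι
    ⟨b, a, hab⟩
  -- the induced functions and their restrictions
  let ψ : ι → P → ℂ := fun i x => ∑ a : A, lc (h.act a i.out.1) x
  let α : ι → P → ℂ := fun i => lc i.out.1 - lc i₀.out.1
  let τ : ι → G → ℂ := fun i => Cfsg.indFun P (α i)
  have hα1 : ∀ i, α i 1 = 0 := fun i => by simp [α, lc]
  have hτP : ∀ i, (fun x : P => τ i (x : G)) = ψ i - ψ i₀ := fun i => funext fun x => by
    show Cfsg.indFun P (α i) (x : G) = _
    rw [h.ind_apply _ (hα1 i) x]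
    simp [α, ψ, lc, act_apply, Finset.sum_sub_distrib]
  have hlc : ∀ l : P →* ℂˣ, Cfsg.IsIrrCharacter P (lc l) := fun l => isIrr_linChar l
  have hlcinner : ∀ l l' : P →* ℂˣ,
      Cfsg.classInner (lc l) (lc l') = if l = l' then 1 else 0 := by
    intro l l'
    split_ifs with hll
    · subst hll; exact classInner_isIrr_self (hlc l)
    · exact classInner_isIrr_ne (hlc l) (hlc l')
        fun e => hll (MonoidHom.ext fun x => Units.ext (congrFun e x))
  have hψinner : ∀ i j (b : A), Cfsg.classInner (ψ i) (lc (h.act b j.out.1)) =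
      if i = j then 1 else 0 := by
    intro i j b
    have hψeq : ψ i = ∑ a : A, lc (h.act a i.out.1) := funext fun x => by
      simp [ψ, Finset.sum_apply]
    rw [hψeq, classInner_sum_left]
    simp only [hlcinner]
    have hiff : ∀ a, h.act a i.out.1 = h.act b j.out.1 ↔ i = j ∧ a = b := fun a => by
      rw [← Prod.mk.injEq i a j b, ← e.apply_eq_iff_eq, ← Subtype.val_inj]
      rfl
    simp only [hiff]
    split_ifs with hij
    · simp [hij]
    · simp [hij]
  have hgen : ∀ i, Cfsg.IsGeneralizedCharacter G (τ i) := fun i =>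
    isGen_indFun P (isGen_sub (isGen_of_isIrr (hlc _)) (isGen_of_isIrr (hlc _)))
  have hψ0 : ∀ i j, Cfsg.classInner (ψ i) (lc j.out.1) = if i = j then 1 else 0 := fun i j => by
    have := hψinner i j 1
    rwa [act_one] at this
  have hgram : ∀ i j, i ≠ i₀ → j ≠ i₀ →
      Cfsg.classInner (τ i) (τ j) = if i = j then 2 else 1 := by
    intro i j hi hj
    show Cfsg.classInner (τ i) (Cfsg.indFun P (α j)) = _
    rw [classInner_indFun_right P (α j) (isClassFunction_of_isGen (hgen i)), hτP i]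
    simp only [α, classInner_sub_left, classInner_sub_right, hψ0, if_neg hi, if_neg hj.symm,
      if_pos]
    split_ifs <;> norm_num
  have hτ0 : τ i₀ = 0 := by
    show Cfsg.indFun P (α i₀) = 0
    rw [show α i₀ = 0 from sub_self _, indFun_zero]
  have hτ1 : ∀ i, τ i 1 = 0 := fun i => by
    show Cfsg.indFun P (α i) 1 = 0
    rw [Characters.indFun_one, hα1, mul_zero]
  obtain ⟨ε, hε, μ, hμ, hμinj, hτμ⟩ := exists_exceptional i₀ τ hτ0 hgen hτ1 hgram
  have hεε : ε * ε = 1 := by rcases hε with rfl | rfl <;> norm_num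
  have hεc : conj ε = ε := by rcases hε with rfl | rfl <;> simp
  -- multiplicities in `μ i₀`
  set R₀ : P → ℂ := fun x => μ i₀ (x : G) with hR₀
  have hR₀c : Cfsg.IsCharacter P R₀ := isCharacter_restrict P (isCharacter_of_isIrr (hμ i₀))
  choose m hm using fun l => classInner_characters hR₀c (isCharacter_of_isIrr (hlc l))
  have hinv : ∀ a l, m (h.act a l) = m l := by
    intro a l
    apply Nat.cast_injective (R := ℂ)
    rw [← hm, ← hm]
    simp only [Cfsg.classInner]
    congr 1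
    refine Fintype.sum_bijective _ (h.conjP_bijective a) _ _ fun x => ?_
    have hx : R₀ (h.conjP a x) = R₀ x := isClassFunction_of_isIrr (hμ i₀) (x : G) (a : G)
    show R₀ x * conj (((h.act a l) x : ℂˣ) : ℂ) = _
    rw [act_apply, ← hx]
    rfl
  have hrep : ∀ j, j ≠ i₀ → (m j.out.1 : ℂ) = (m i₀.out.1 : ℂ) - ε := by
    intro j hj
    have h1 : Cfsg.classInner (μ i₀) (τ j) = Cfsg.classInner R₀ (α j) :=
      classInner_indFun_right P (α j) (isClassFunction_of_isIrr (hμ i₀))
    rw [classInner_sub_right, hm, hm, hτμ j, classInner_smul_right, classInner_sub_right,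
      classInner_isIrr_ne (hμ i₀) (hμ j) (fun e => hj (hμinj e).symm),
      classInner_isIrr_self (hμ i₀), hεc] at h1
    linear_combination -h1
  set a₀ := m j₁.out.1 with ha₀
  have hcoef : ∀ i a, (m (h.act a i.out.1) : ℂ) = a₀ + if i = i₀ then ε else 0 := by
    intro i a
    rw [hinv]
    split_ifs with hi
    · rw [hi, ha₀, hrep j₁ hj₁]; ring
    · rw [add_zero, hrep i hi, ha₀, hrep j₁ hj₁]
  let S : P → ℂ := fun x =>
    ∑ l : {l : P →* ℂˣ // ∀ y ∈ IP, l y = 1}, (m l.1 : ℂ) * ((l.1 x : ℂˣ) : ℂ)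
  let B : ℕ := ∑ l : {l : P →* ℂˣ // ∀ y ∈ IP, l y = 1}, m l.1
  have hSB : ∀ x ∈ IP, S x = B := fun x hx => by
    simp only [S, B, Nat.cast_sum]
    exact Finset.sum_congr rfl fun l _ => by rw [l.2 x hx, Units.val_one, mul_one]
  have hres : ∀ x, R₀ x = S x + a₀ * T x + ε * ψ i₀ x := by
    intro x
    have hexp := dual_expansion R₀ x
    rw [← hexp, ← Fintype.sum_subtype_add_sum_subtype (fun l : P →* ℂˣ => ∀ y ∈ IP, l y = 1)]
    rw [add_assoc]
    congr 1
    · exact Finset.sum_congr rfl fun l _ => congrArg (· * _) (hm l.1)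
    · show ∑ l : Λ, _ = (a₀ : ℂ) * T x + ε * ψ i₀ x
      simp only [T, ψ]
      rw [hTe, hTe (fun l => ((l.1 x : ℂˣ) : ℂ))]
      have hsplit : ε * ∑ a : A, lc (h.act a i₀.out.1) x =
          ∑ i : ι, if i = i₀ then ∑ a : A, ε * lc (h.act a i.out.1) x else 0 := by
        rw [Finset.sum_ite_eq' Finset.univ i₀, if_pos (Finset.mem_univ _), Finset.mul_sum]
      rw [hsplit]
      simp only [Finset.mul_sum]
      rw [← Finset.sum_add_distrib]
      refine Finset.sum_congr rfl fun i _ => ?_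
      show ∑ a : A, Cfsg.classInner R₀ (lc (h.act a i.out.1)) * lc (h.act a i.out.1) x = _
      simp only [hm, hcoef]
      split_ifs with hi
      · rw [← Finset.sum_add_distrib]
        exact Finset.sum_congr rfl fun a _ => by rw [add_mul]; rfl
      · simp only [add_zero]
        rfl
  have hμP : ∀ i (x : P), μ i (x : G) = S x + a₀ * T x + ε * ψ i x := by
    intro i x
    have h1 := congrFun (hτP i) x
    simp only [Pi.sub_apply, hτμ i, Pi.smul_apply, smul_eq_mul] at h1
    have h2 := hres x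
    simp only [hR₀] at h2
    linear_combination ε * h1 + h2 - (μ i (x : G) - μ i₀ (x : G)) * hεε
  have hψ1 : ∀ i, ψ i 1 = ((q - 1 : ℕ) : ℂ) := fun i => by
    simp [ψ, lc, ← h.card_A, Nat.card_eq_fintype_card]
  -- degrees
  choose dg hdg0 hdg using fun χ : Cfsg.IrrCharacter G => exists_degree_pos χ.2
  let M : ι → Cfsg.IrrCharacter G := fun i => ⟨μ i, hμ i⟩
  have hMinj : Function.Injective M := fun i j e => hμinj (congrArg Subtype.val e)
  have hdeg : ∀ i, (dg (M i) : ℂ) =
      B + a₀ * ((q : ℂ) ^ 3 - q) + ε * ((q - 1 : ℕ) : ℂ) := by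
    intro i
    rw [← hdg]
    show μ i 1 = _
    have := hμP i 1
    rw [OneMemClass.coe_one, hSB 1 (one_mem _), hT, if_pos rfl, if_pos (one_mem _), hψ1] at this
    exact this
  have hdconst : ∀ i, dg (M i) = dg (M i₀) := fun i => by
    exact_mod_cast (hdeg i).trans (hdeg i₀).symm
  have hbound : q * (q + 1) * dg (M i₀) ^ 2 ≤ q ^ 3 * (q ^ 3 + 1) * (q - 1) := by
    rw [← h.card_G, ← hf]
    have h1 : ((∑ χ, dg χ ^ 2 : ℕ) : ℂ) = ((Nat.card G : ℕ) : ℂ) := by
      rw [← sum_degree_sq]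
      push_cast
      exact Finset.sum_congr rfl fun χ _ => by rw [hdg]
    rw [← Nat.cast_injective h1]
    refine le_trans ?_ (Finset.sum_le_sum_of_subset (Finset.subset_univ (Finset.univ.image M)))
    rw [Finset.sum_image hMinj.injOn, Finset.sum_congr rfl fun i _ => by rw [hdconst i],
      Finset.sum_const, Finset.card_univ, smul_eq_mul]
  have hqc : ((q - 1 : ℕ) : ℂ) = (q : ℂ) - 1 := by rw [Nat.cast_sub (by omega), Nat.cast_one]
  have ha0 : a₀ = 0 := by
    by_contra hne
    have ha1 : (1 : ℤ) ≤ a₀ := by exact_mod_cast Nat.pos_of_ne_zero hne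
    obtain ⟨z, hz, hz1⟩ : ∃ z : ℤ, ε = z ∧ -1 ≤ z := by
      rcases hε with rfl | rfl
      exacts [⟨1, by simp, by norm_num⟩, ⟨-1, by simp, le_rfl⟩]
    have hd : (dg (M i₀) : ℤ) = B + a₀ * ((q : ℤ) ^ 3 - q) + z * ((q : ℤ) - 1) := by
      have := hdeg i₀
      rw [hqc, hz] at this
      exact_mod_cast this
    have hq' : (27 : ℤ) ≤ q := by exact_mod_cast hq
    have hlow : (q : ℤ) ^ 3 - 2 * q + 1 ≤ dg (M i₀) := by
      have h3 : (0 : ℤ) ≤ (q : ℤ) ^ 3 - q := by nlinarith
      nlinarith [mul_le_mul_of_nonneg_right ha1 h3,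
        mul_le_mul_of_nonneg_right hz1 (show (0 : ℤ) ≤ (q : ℤ) - 1 by omega),
        (show (0 : ℤ) ≤ B from Int.natCast_nonneg B)]
    have hhalf : (q : ℤ) ^ 3 ≤ 2 * ((q : ℤ) ^ 3 - 2 * q + 1) := by nlinarith
    have hb : ((q : ℤ) * (q + 1)) * (dg (M i₀) : ℤ) ^ 2 ≤
        (q : ℤ) ^ 3 * ((q : ℤ) ^ 3 + 1) * ((q : ℤ) - 1) := by
      have := (Nat.cast_le (α := ℤ)).2 hbound
      push_cast [show 1 ≤ q by omega] at this
      exact this
    have h4 : ((q : ℤ) ^ 3) ^ 2 ≤ 4 * (dg (M i₀) : ℤ) ^ 2 := by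
      nlinarith [pow_le_pow_left₀ (by positivity) (hhalf.trans (by linarith :
        2 * ((q : ℤ) ^ 3 - 2 * q + 1) ≤ 2 * (dg (M i₀) : ℤ))) 2]
    have h5 : (q : ℤ) ^ 2 * ((q : ℤ) ^ 3) ^ 2 ≤ 4 * ((q : ℤ) ^ 3 * ((q : ℤ) ^ 3 + 1) * ((q : ℤ) - 1)) := by
      nlinarith [mul_le_mul (show (q : ℤ) ^ 2 ≤ (q : ℤ) * (q + 1) by nlinarith) h4
        (by positivity) (by positivity)]
    have h6 : (0 : ℤ) < (q : ℤ) ^ 6 := by positivity
    nlinarith [mul_le_mul_of_nonneg_right hq' (show (0 : ℤ) ≤ (q : ℤ) ^ 7 by positivity)]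
  have hε1 : ε = 1 := by
    rcases hε with e1 | e1
    · exact e1
    · exfalso
      have := hrep j₁ hj₁
      rw [← ha₀, ha0, e1, Nat.cast_zero] at this
      have h2 : ((m i₀.out.1 + 1 : ℕ) : ℂ) = 0 := by push_cast; linear_combination -this
      exact absurd (Nat.cast_eq_zero.1 h2) (Nat.succ_ne_zero _)
  simp only [ha0, Nat.cast_zero, zero_mul, add_zero, hε1, one_mul] at hμP hdeg
  obtain ⟨v, hvI, hv1, hvC⟩ := h.cent
  set vP : P := ⟨v, h.I_le hvI⟩
  have hvIP : vP ∈ IP := Subgroup.mem_subgroupOf.2 hvI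
  have hvne : vP ≠ 1 := fun e1 => hv1 (congrArg Subtype.val e1)
  have hB : B = 0 := by
    by_contra hB
    have hB1 : (1 : ℝ) ≤ B := by exact_mod_cast Nat.pos_of_ne_zero hB
    have hsum1 : ∑ i : ι, ψ i vP = -(q : ℂ) := by
      have := hT vP
      rw [if_neg hvne, if_pos hvIP, zero_sub] at this
      rw [← this]
      exact (hTe fun l => ((l.1 vP : ℂˣ) : ℂ)).symm
    have hsum1' : ∑ i : ι, conj (ψ i vP) = -(q : ℂ) := by rw [← map_sum, hsum1]; simp
    have hsum2 : ∑ i : ι, ψ i vP * conj (ψ i vP) =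
        (q : ℂ) ^ 3 - ((q - 1 : ℕ) : ℂ) * q := by
      calc ∑ i : ι, ψ i vP * conj (ψ i vP)
          = ∑ i : ι, ∑ b : A, ψ i vP * conj (lc (h.act b i.out.1) vP) :=
            Finset.sum_congr rfl fun i _ => by rw [← Finset.mul_sum, ← map_sum]
        _ = ∑ i : ι, ∑ b : A, ∑ a : A,
              (((e (i, b)).1 (h.conjP a vP * vP⁻¹) : ℂˣ) : ℂ) := by
            refine Finset.sum_congr rfl fun i _ => Finset.sum_congr rfl fun b _ => ?_
            show (∑ a : A, lc (h.act a i.out.1) vP) * _ = _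
            rw [← Equiv.sum_comp (Equiv.mulLeft b), Finset.sum_mul]
            refine Finset.sum_congr rfl fun a _ => ?_
            simp only [lc, dual_conj, ← Units.val_mul, Equiv.coe_mulLeft]
            show (((h.act (b * a) i.out.1) vP * (h.act b i.out.1) vP⁻¹ : ℂˣ) : ℂ) =
              (((h.act b i.out.1) (h.conjP a vP * vP⁻¹) : ℂˣ) : ℂ)
            rw [map_mul, ← h.act_act b a]
            rfl
        _ = ∑ a : A, T (h.conjP a vP * vP⁻¹) := by
            rw [← hTe (fun l => ∑ a : A, ((l.1 (h.conjP a vP * vP⁻¹) : ℂˣ) : ℂ)), Finset.sum_comm]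
        _ = ∑ a : A, ((if a = 1 then (q : ℂ) ^ 3 else 0) - q) := by
            refine Finset.sum_congr rfl fun a _ => ?_
            rw [hT, if_pos (mul_mem (Subgroup.mem_subgroupOf.2 (h.A_I _ a.2 _ hvI)) (inv_mem hvIP))]
            congr 1
            refine if_congr ⟨fun e1 => ?_, fun e1 => by rw [e1, conjP_one, mul_inv_cancel]⟩ rfl rfl
            by_contra ha
            refine h.free a a.2 (fun e2 => ha (Subtype.ext e2)) v hvI hv1 ?_
            exact mul_inv_eq_iff_eq_mul.1 (congrArg Subtype.val (mul_inv_eq_one.1 e1))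
        _ = _ := by
            rw [Finset.sum_sub_distrib, Finset.sum_ite_eq' Finset.univ (1 : A),
              if_pos (Finset.mem_univ _), Finset.sum_const, Finset.card_univ,
              ← Nat.card_eq_fintype_card, h.card_A, nsmul_eq_mul]
    let one : Cfsg.IrrCharacter G := ⟨fun _ => 1, isIrr_one⟩
    have hone : one ∉ Finset.univ.image M := by
      simp only [Finset.mem_image, Finset.mem_univ, true_and, not_exists]
      intro i hi
      have h1 : (dg (M i) : ℂ) = 1 := by rw [← hdg, hi]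
      rw [hdeg i] at h1
      have h2 : B + (q - 1) = 1 := by exact_mod_cast h1
      omega
    have hcol : ∑ χ : Cfsg.IrrCharacter G, Complex.normSq ((χ : G → ℂ) v) = (q : ℝ) ^ 3 := by
      have h1 := sum_irr_mul_conj_of_isConj (IsConj.refl v)
      rw [hvC, h.card_P] at h1
      simp only [Complex.mul_conj] at h1
      exact_mod_cast h1
    have hle := Finset.sum_le_sum_of_subset_of_nonneg
      (f := fun χ : Cfsg.IrrCharacter G => Complex.normSq ((χ : G → ℂ) v))
      (Finset.subset_univ (insert one (Finset.univ.image M))) fun χ _ _ => Complex.normSq_nonneg _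
    rw [hcol, Finset.sum_insert hone, Finset.sum_image hMinj.injOn] at hle
    have hval : (∑ i : ι, Complex.normSq (μ i v) : ℝ) =
        (q : ℝ) * (q + 1) * B ^ 2 - 2 * q * B + ((q : ℝ) ^ 3 - ((q : ℝ) - 1) * q) := by
      apply Complex.ofReal_injective
      push_cast
      calc ∑ i : ι, (Complex.normSq (μ i v) : ℂ)
          = ∑ i : ι, ((B : ℂ) * B + B * conj (ψ i vP) + B * ψ i vP + ψ i vP * conj (ψ i vP)) := by
            refine Finset.sum_congr rfl fun i _ => ?_
            rw [← Complex.mul_conj, show μ i v = B + ψ i vP by rw [← hSB vP hvIP]; exact hμP i vP,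
              map_add, Complex.conj_natCast]
            ring
        _ = _ := by
            rw [Finset.sum_add_distrib, Finset.sum_add_distrib, Finset.sum_add_distrib,
              Finset.sum_const, Finset.card_univ, hf, ← Finset.mul_sum, ← Finset.mul_sum, hsum1,
              hsum1', hsum2, hqc, nsmul_eq_mul]
            push_cast
            ring
    have hone' : Complex.normSq ((one : G → ℂ) v) = 1 := map_one _
    change Complex.normSq ((one : G → ℂ) v) + ∑ i : ι, Complex.normSq (μ i v) ≤ _ at hle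
    rw [hone', hval] at hle
    have hq' : (27 : ℝ) ≤ q := by exact_mod_cast hq
    nlinarith [mul_le_mul_of_nonneg_left hB1 (show (0 : ℝ) ≤ (q : ℝ) ^ 2 - q by nlinarith),
      mul_le_mul_of_nonneg_left (mul_le_mul_of_nonneg_left hB1 (show (0 : ℝ) ≤ B by positivity))
        (show (0 : ℝ) ≤ (q : ℝ) * (q + 1) by positivity)]
  -- all constituents on `P` are in one orbit
  have hS0 : ∀ x, S x = 0 := fun x => Finset.sum_eq_zero fun l _ => by
    rw [(Finset.sum_eq_zero_iff.1 hB) l (Finset.mem_univ _), Nat.cast_zero, zero_mul]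
  have hQv : vP ∉ Q.subgroupOf P := fun hh => hv1 (h.disj v hh hvI)
  obtain ⟨l, hlQ, hlv⟩ := exists_dual_trivial_ne_one hQv
  obtain ⟨⟨i, b⟩, hib⟩ := e.surjective ⟨l, fun hl => hlv (hl vP hvIP)⟩
  have hout : i.out.1 = h.act b⁻¹ l := by
    rw [show l = h.act b i.out.1 from (congrArg Subtype.val hib).symm, act_act, mul_inv_cancel,
      act_one]
  obtain ⟨n, ρ, hρirr, hρ⟩ := hμ i
  have hker : ∀ x : P, (x : G) ∈ Q → ρ (x : G) = 1 := by
    intro x hx
    refine OddOrderChar.rep_eq_one_of_char_eq ρ ?_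
    rw [hρ, hμP i x, hS0, zero_add, show μ i (1 : G) = ((dg (M i) : ℕ) : ℂ) from hdg (M i), hdeg i,
      hB, Nat.cast_zero, zero_add, ← hψ1 i]
    refine Finset.sum_congr rfl fun a _ => ?_
    simp only [lc, map_one, hout, act_act, act_apply]
    rw [hlQ _ (Subgroup.mem_subgroupOf.2 (h.A_Q _ (b⁻¹ * a).2 _ hx))]
  obtain ⟨x, hxQ, hx1⟩ : ∃ x ∈ Q, x ≠ 1 := by
    by_contra hc
    push Not at hc
    have h1 := h.card_Q
    rw [(Subgroup.eq_bot_iff_forall _).2 hc, Subgroup.card_bot] at h1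
    omega
  have hxk : x ∈ ρ.ker := hker ⟨x, h.Q_le hxQ⟩ hxQ
  rcases IsSimpleGroup.eq_bot_or_eq_top_of_normal ρ.ker inferInstance with hk | hk
  · rw [hk, Subgroup.mem_bot] at hxk
    exact hx1 hxk
  · have hconst : μ i = fun _ => μ i 1 := funext fun g => by
      have hg : ρ g = 1 := by
        have := Subgroup.mem_top g
        rw [← hk] at this
        exact this
      rw [← hρ]
      simp only [Representation.character, hg, map_one]
    have h1 := classInner_isIrr_self (hμ i)
    rw [hconst] at h1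
    simp only [Cfsg.classInner, show μ i 1 = ((dg (M i) : ℕ) : ℂ) from hdg (M i),
      Complex.conj_natCast, Finset.sum_const, Finset.card_univ, ← Nat.card_eq_fintype_card,
      nsmul_eq_mul] at h1
    rw [← mul_assoc, inv_mul_cancel₀ natCard_ne_zero, one_mul] at h1
    have h2 : dg (M i) * dg (M i) = 1 := by exact_mod_cast h1
    have h3 := hdeg i
    rw [Nat.eq_one_of_mul_eq_one_right h2, hB, Nat.cast_zero, zero_add, Nat.cast_one] at h3
    have h4 : 1 = q - 1 := by exact_mod_cast h3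
    omega

end Config

end CfsgLib.WalterCons
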