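import Cfsg.Agent.WalterCons.ReeSemireg
import Cfsg.Agent.WalterCons.ReeChars
import Mathlib

/-!
# No group of Ree order with centraliser `Z₂ × PSL₂(q)` has all Sylow subgroups abelian
-/

set_option autoImplicit false
set_option linter.unusedSectionVars false
set_option linter.style.haveILetI false

namespace CfsgLib.WalterCons

open Matrix CfsgLib.ReeTypeS3
open scoped MatrixGroups

universe u v

variable {G : Type u} [Group G] [Fintype G] {F : Type v} [Field F] [Fintype F]
  {E : Emb G (Matrix.ProjectiveSpecialLinearGroup (Fin 2) F)} {P : Sylow 3 G}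

theorem Loc.config (L : Loc E P) :
    Config (P : Subgroup G) (torusA E) (subQG E) L.invPart (Fintype.card F) := by
  have hnorm : ∀ a ∈ torusA E, ∀ p ∈ (P : Subgroup G), a * p * a⁻¹ ∈ (P : Subgroup G) :=
    fun a ha p hp => (Subgroup.mem_normalizer_iff.1 (L.torusA_le_normalizer ha) p).1 hp
  obtain ⟨v, hv, hv1⟩ := L.exists_inv_ne
  exact
    { q_ge := L.hyp.q_facts.2.1
      Q_le := L.le
      I_le := fun x hx => hx.1
      card_P := L.natCard_P
      card_Q := L.hyp.natCard_Q
      card_A := natCard_torusA L.hyp.two_ne
      decomp := fun p hp => L.decomp hp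
      disj := fun x hx hxI => by
        refine L.eq_one_of_sq hxI.1 ?_
        have hxt : E.t * x = x * E.t := by
          obtain ⟨b, -, rfl⟩ := hx
          exact E.comm b
        have h2 := hxI.2
        rw [hxt, mul_assoc, E.sq, mul_one] at h2
        exact (congrArg (· * x) h2).trans (inv_mul_cancel x)
      A_P := hnorm
      A_Q := fun a ha e he => by
        refine L.mem_Q_of_comm (hnorm a ha e (L.le he)) ?_
        have h1 : Commute a E.t := torusA_comm_t ha
        have h2 : Commute e E.t := by
          obtain ⟨b, -, rfl⟩ := he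
          exact (E.comm b).symm
        exact ((h1.mul_left h2).mul_left h1.inv_left).eq
      A_I := fun a ha i hi => by
        refine ⟨hnorm a ha i hi.1, ?_⟩
        have h1 : Commute a E.t := torusA_comm_t ha
        calc E.t * (a * i * a⁻¹) * E.t = (E.t * a) * i * (a⁻¹ * E.t) := by group
          _ = (a * E.t) * i * (E.t * a⁻¹) := by rw [h1.eq, h1.inv_left.eq]
          _ = a * (E.t * i * E.t) * a⁻¹ := by group
          _ = (a * i * a⁻¹)⁻¹ := by rw [hi.2]; group
      free := fun a ha ha1 i hi hi1 => L.semiregular ha ha1 hi hi1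
      PA := fun n hn => L.exists_PA hn
      ti := L.main_normalizer.2.2
      card_G := L.hyp.card
      cent := ⟨v, hv, hv1, L.cent_invPart hv hv1⟩ }

/-- The main result of the chapter. -/
theorem AHyp.false (hyp : AHyp E) : False := by
  obtain ⟨P, hle, hn⟩ := hyp.exists_sylow
  have L : Loc E P := ⟨hyp, hle, hn⟩
  haveI : IsMulCommutative (P : Subgroup G) := ⟨⟨fun a b => Subtype.ext (L.comm a.2 b.2)⟩⟩
  haveI := hyp.jt.simple
  exact L.config.false_of_config

end CfsgLib.WalterCons
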