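import Cfsg.Agent.WalterCons.ReeBasic
import Cfsg.Agent.Coprime.Generation
import Cfsg.Agent.SpectrumFive.Locals
import Mathlib

/-!
# A group of Ree order with abelian Sylow subgroups: the Sylow 3-normaliser

`P` is a Sylow 3-subgroup containing `ι(Q)` and normalised by `t`.  The `3'`-cores of the
centralisers of the nontrivial elements of `P` generate one subgroup `W`, whence `N(P)` has
index `q³ + 1`, contains all those centralisers, and `P` is a TI subgroup.
-/

set_option autoImplicit false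
set_option linter.unusedSectionVars false
set_option linter.style.haveILetI false

namespace CfsgLib.WalterCons

open Matrix CfsgLib.ReeTypeS3
open scoped MatrixGroups

universe u v

variable {G : Type u} [Group G] [Fintype G] {F : Type v} [Field F] [Fintype F]

local notation "PST" => Matrix.ProjectiveSpecialLinearGroup (Fin 2) F

/-- The `3'`-core of the centraliser of `u`. -/
def theta (u : G) : Subgroup G := coreIn 3 (Subgroup.centralizer ({u} : Set G))

/-- A Sylow 3-subgroup containing `ι(Q)` and normalised by `t`. -/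
structure Loc (E : Emb G (Matrix.ProjectiveSpecialLinearGroup (Fin 2) F)) (P : Sylow 3 G) :
    Prop where
  hyp : AHyp E
  le : subQG E ≤ (P : Subgroup G)
  norm : E.t ∈ Subgroup.normalizer ((P : Subgroup G) : Set G)

namespace Loc

variable {E : Emb G (Matrix.ProjectiveSpecialLinearGroup (Fin 2) F)} {P : Sylow 3 G} (L : Loc E P)
include L

theorem three : Fact (Nat.Prime 3) := ⟨Nat.prime_three⟩

theorem comm {a b : G} (ha : a ∈ (P : Subgroup G)) (hb : b ∈ (P : Subgroup G)) : a * b = b * a := by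
  haveI := L.three
  exact L.hyp.ab.comm P.2 ha hb

theorem natCard_P : Nat.card (P : Subgroup G) = Fintype.card F ^ 3 := L.hyp.natCard_sylow P

theorem pow_three {x : G} (hx : x ∈ (P : Subgroup G)) : ∃ j : ℕ, x ^ 3 ^ j = 1 := by
  obtain ⟨j, hj⟩ := P.2 ⟨x, hx⟩
  exact ⟨j, by simpa using congrArg Subtype.val hj⟩

theorem eq_one_of_sq {x : G} (hx : x ∈ (P : Subgroup G)) (h : x * x = 1) : x = 1 := by
  obtain ⟨j, hj⟩ := L.pow_three hx
  obtain ⟨k, hk⟩ : Odd (3 ^ j) := Odd.pow (by decide)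
  rw [hk, pow_succ, pow_mul, pow_two, h, one_pow, one_mul] at hj
  exact hj

theorem t_conj {x : G} (hx : x ∈ (P : Subgroup G)) : E.t * x * E.t ∈ (P : Subgroup G) := by
  have := (Subgroup.mem_normalizer_iff.1 L.norm x).1 hx
  rwa [E.t_inv] at this

theorem le_cent {u : G} (hu : u ∈ (P : Subgroup G)) :
    (P : Subgroup G) ≤ Subgroup.centralizer ({u} : Set G) := fun _ hx =>
  Subgroup.mem_centralizer_singleton_iff.2 (L.comm hx hu)

theorem exists_Q_ne : ∃ e ∈ subQG E, e ≠ 1 := by
  by_contra h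
  push Not at h
  have hb : subQG E = ⊥ := (Subgroup.eq_bot_iff_forall _).2 h
  have := L.hyp.natCard_Q
  rw [hb, Subgroup.card_bot] at this
  have := L.hyp.q_facts.2.1
  omega

theorem mem_Q_of_comm {x : G} (hx : x ∈ (P : Subgroup G)) (h : x * E.t = E.t * x) :
    x ∈ subQG E := by
  obtain ⟨e, he, he1⟩ := L.exists_Q_ne
  obtain ⟨a, ha, e' | e'⟩ := L.hyp.cent_Q he he1 h (L.comm hx (L.le he))
  · exact ⟨a, ha, e'.symm⟩
  · exfalso
    have ht : E.t ∈ (P : Subgroup G) := by
      have : E.t = x * (E.ι a)⁻¹ := by rw [e', mul_inv_cancel_right]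
      rw [this]
      exact mul_mem hx (inv_mem (L.le ⟨a, ha, rfl⟩))
    exact E.t_ne_one (L.eq_one_of_sq ht E.sq)

omit L in
/-- The part of `P` inverted by `t`. -/
def invPart (L : Loc E P) : Subgroup G where
  carrier := {x | x ∈ (P : Subgroup G) ∧ E.t * x * E.t = x⁻¹}
  one_mem' := ⟨one_mem _, by rw [mul_one, E.sq, inv_one]⟩
  mul_mem' := fun {a b} ha hb => ⟨mul_mem ha.1 hb.1, by
    calc E.t * (a * b) * E.t = E.t * a * 1 * b * E.t := by group
      _ = E.t * a * (E.t * E.t) * b * E.t := by rw [E.sq]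
      _ = (E.t * a * E.t) * (E.t * b * E.t) := by group
      _ = (a * b)⁻¹ := by rw [ha.2, hb.2, ← _root_.mul_inv_rev, L.comm hb.1 ha.1]⟩
  inv_mem' := fun {a} ha => ⟨inv_mem ha.1, by
    calc E.t * a⁻¹ * E.t = (E.t⁻¹ * a * E.t⁻¹)⁻¹ := by group
      _ = a⁻¹⁻¹ := by rw [E.t_inv, ha.2]⟩

theorem mem_invPart {x : G} :
    x ∈ L.invPart ↔ x ∈ (P : Subgroup G) ∧ E.t * x * E.t = x⁻¹ := Iff.rfl

/-- `P = ι(Q) × I`. -/
theorem decomp {x : G} (hx : x ∈ (P : Subgroup G)) :
    ∃ e ∈ subQG E, ∃ i ∈ L.invPart, x = e * i := by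
  obtain ⟨j, hj⟩ := L.pow_three hx
  obtain ⟨k, hk⟩ : Odd (3 ^ j) := Odd.pow (by decide)
  set r := x ^ (k + 1) with hr
  have hrP : r ∈ (P : Subgroup G) := pow_mem hx _
  have hrr : r * r = x := by
    rw [hr, ← pow_add, show k + 1 + (k + 1) = 3 ^ j + 1 by omega, pow_succ, hj, one_mul]
  set r' := E.t * r * E.t with hr'
  have hr'P : r' ∈ (P : Subgroup G) := L.t_conj hrP
  have hback : E.t * r' * E.t = r := by
    rw [hr']
    calc E.t * (E.t * r * E.t) * E.t = (E.t * E.t) * r * (E.t * E.t) := by group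
      _ = r := by rw [E.sq, one_mul, mul_one]
  have key : ∀ a b : G, E.t * (a * b) * E.t = (E.t * a * E.t) * (E.t * b * E.t) := fun a b => by
    calc E.t * (a * b) * E.t = E.t * a * 1 * b * E.t := by group
      _ = E.t * a * (E.t * E.t) * b * E.t := by rw [E.sq]
      _ = _ := by group
  have hkinv : E.t * r'⁻¹ * E.t = r⁻¹ := by
    rw [show E.t * r'⁻¹ * E.t = (E.t⁻¹ * r' * E.t⁻¹)⁻¹ by group, E.t_inv, hback]
  refine ⟨r * r', L.mem_Q_of_comm (mul_mem hrP hr'P) ?_, r * r'⁻¹,
    ⟨mul_mem hrP (inv_mem hr'P), ?_⟩, ?_⟩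
  · have : E.t * (r * r') * E.t = r * r' := by
      rw [key, hback, ← hr', L.comm hr'P hrP]
    calc r * r' * E.t = E.t * (r * r') * E.t * E.t := by rw [this]
      _ = E.t * (r * r') := by rw [mul_assoc _ E.t E.t, E.sq, mul_one]
  · rw [key, ← hr', hkinv, _root_.mul_inv_rev, inv_inv]
  · calc x = r * r := hrr.symm
      _ = r * (r' * r) * r'⁻¹ := by rw [L.comm hr'P hrP]; group
      _ = r * r' * (r * r'⁻¹) := by group

theorem exists_inv_ne : ∃ i ∈ L.invPart, i ≠ 1 := by
  by_contra h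
  push Not at h
  have hle : (P : Subgroup G) ≤ subQG E := fun x hx => by
    obtain ⟨e, he, i, hi, rfl⟩ := L.decomp hx
    rwa [h i hi, mul_one]
  have := Subgroup.card_le_of_le hle
  rw [L.natCard_P, L.hyp.natCard_Q] at this
  have := L.hyp.q_facts.2.1
  nlinarith [Nat.mul_le_mul this this, sq (Fintype.card F), pow_succ (Fintype.card F) 2]

/-! ### `3'`-subgroups normalised by `P` -/

theorem inf_P_eq_bot {X : Subgroup G} (hX : (Nat.card X).Coprime 3) {x : G} (hxX : x ∈ X)
    (hxP : x ∈ (P : Subgroup G)) : x = 1 := by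
  obtain ⟨j, hj⟩ := L.pow_three hxP
  have h1 : orderOf x ∣ Nat.card X := Subgroup.orderOf_dvd_natCard _ hxX
  exact orderOf_eq_one_iff.1
    (Nat.eq_one_of_dvd_coprimes (hX.pow_right j) h1 (orderOf_dvd_of_pow_eq_one hj))

theorem t_notMem {X : Subgroup G} (hX : (Nat.card X).Coprime 3)
    (hPX : (P : Subgroup G) ≤ Subgroup.normalizer (X : Set G)) : E.t ∉ X := by
  intro ht
  obtain ⟨i, ⟨hiP, hi⟩, hi1⟩ := L.exists_inv_ne
  have h1 : i * E.t * i⁻¹ * E.t ∈ X :=
    mul_mem ((Subgroup.mem_normalizer_iff.1 (hPX hiP) _).1 ht) ht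
  have h2 : i * E.t * i⁻¹ * E.t = i * i := by
    calc i * E.t * i⁻¹ * E.t = i * (E.t * i⁻¹ * E.t) := by group
      _ = i * i := by rw [(L.invPart.inv_mem (x := i) ⟨hiP, hi⟩).2, inv_inv]
  rw [h2] at h1
  exact hi1 (L.eq_one_of_sq hiP (L.inf_P_eq_bot hX h1 (mul_mem hiP hiP)))

/-- `t` fixes no nontrivial element of a `3'`-subgroup normalised by `P`. -/
theorem fix_t_eq_one {X : Subgroup G} (hX : (Nat.card X).Coprime 3)
    (hPX : (P : Subgroup G) ≤ Subgroup.normalizer (X : Set G)) {g : G} (hg : g ∈ X)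
    (hgt : g * E.t = E.t * g) : g = 1 := by
  haveI := L.three
  haveI : IsMulCommutative (subQG E) := ⟨⟨fun a b => Subtype.ext (L.hyp.Q_comm a.2 b.2)⟩⟩
  set Y := X ⊓ Subgroup.centralizer ({E.t} : Set G) with hY
  have hle : Y ≤ ⊥ := by
    refine CfsgLib.Coprime.le_of_forall_inf_centralizer_le (A := subQG E) L.hyp.not_isCyclic_Q ?_ ?_
      fun a ha ha1 y hy => ?_
    · intro e he
      have het : e * E.t = E.t * e := by
        obtain ⟨a, -, rfl⟩ := he
        exact (E.comm a).symm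
      rw [Subgroup.mem_normalizer_iff]
      intro y
      have hXe := Subgroup.mem_normalizer_iff.1 (hPX (L.le he)) y
      have hCe : ∀ z, z * E.t = E.t * z ↔ e * z * e⁻¹ * E.t = E.t * (e * z * e⁻¹) := by
        intro z
        have e1 : e * z * e⁻¹ * E.t = e * (z * E.t) * e⁻¹ := by
          have h2 : e⁻¹ * E.t = E.t * e⁻¹ := (show Commute e E.t from het).inv_left.eq
          rw [mul_assoc (e * z), h2]; group
        have e2 : E.t * (e * z * e⁻¹) = e * (E.t * z) * e⁻¹ := by
          rw [← mul_assoc, ← mul_assoc, ← het]; group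
        rw [e1, e2, mul_left_inj, mul_right_inj]
      simp only [hY, Subgroup.mem_inf, Subgroup.mem_centralizer_singleton_iff]
      rw [hXe, hCe y]
    · rw [L.hyp.natCard_Q]
      obtain ⟨m, -, hq⟩ := L.hyp.three
      rw [hq]
      exact ((hX.coprime_dvd_left (Subgroup.card_dvd_of_le inf_le_left)).pow_right _).symm
    · obtain ⟨⟨hyX, hyt⟩, hya⟩ := hy
      obtain ⟨b, hb, e | e⟩ := L.hyp.cent_Q ha ha1 (Subgroup.mem_centralizer_singleton_iff.1 hyt)
        (Subgroup.mem_centralizer_singleton_iff.1 hya)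
      · exact L.inf_P_eq_bot hX hyX (e ▸ L.le ⟨b, hb, rfl⟩)
      · exfalso
        refine L.t_notMem hX hPX ?_
        have h3 : y ^ 3 = E.t := by
          rw [e, (show Commute E.t (E.ι b) from E.comm b).mul_pow, ← map_pow, L.hyp.cube_subQ hb,
            map_one, mul_one, pow_succ, pow_two, E.sq, one_mul]
        exact h3 ▸ pow_mem hyX 3
  exact Subgroup.mem_bot.1 (hle ⟨hg, Subgroup.mem_centralizer_singleton_iff.2 hgt⟩)

/-- If `t` normalises `X` then `I` centralises it. -/
theorem inv_centralizes {X : Subgroup G} (hX : (Nat.card X).Coprime 3)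
    (hPX : (P : Subgroup G) ≤ Subgroup.normalizer (X : Set G))
    (htX : E.t ∈ Subgroup.normalizer (X : Set G)) {g i : G} (hg : g ∈ X) (hi : i ∈ L.invPart) :
    g * i = i * g := by
  have hinv : ∀ x ∈ X, E.t * x * E.t = x⁻¹ := fun x hx => by
    have := SpectrumFive.conj_eq_inv_of_fixedPointFree E.sq htX
      (fun d hd hfix => L.fix_t_eq_one hX hPX hd (mul_inv_eq_iff_eq_mul.1 hfix).symm) hx
    rwa [E.t_inv] at this
  have hconj : i * g * i⁻¹ ∈ X := (Subgroup.mem_normalizer_iff.1 (hPX hi.1) g).1 hg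
  have h1 := hinv _ hconj
  have h2 : E.t * (i * g * i⁻¹) * E.t = i⁻¹ * g⁻¹ * i := by
    calc E.t * (i * g * i⁻¹) * E.t = E.t * i * 1 * g * 1 * i⁻¹ * E.t := by group
      _ = E.t * i * (E.t * E.t) * g * (E.t * E.t) * i⁻¹ * E.t := by rw [E.sq]
      _ = (E.t * i * E.t) * (E.t * g * E.t) * (E.t * i⁻¹ * E.t) := by group
      _ = i⁻¹ * g⁻¹ * i⁻¹⁻¹ := by rw [hi.2, hinv g hg, (L.invPart.inv_mem hi).2]
      _ = _ := by rw [inv_inv]
  rw [h2] at h1
  have hc : Commute (i * i) g := by
    show i * i * g = g * (i * i)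
    have h3 : i⁻¹ * g * i = i * g * i⁻¹ :=
      inv_injective (by rw [← h1]; group)
    calc i * i * g = i * (i * g * i⁻¹) * i := by group
      _ = g * (i * i) := by rw [← h3]; group
  obtain ⟨j, hj⟩ := L.pow_three hi.1
  obtain ⟨k, hk⟩ : Odd (3 ^ j) := Odd.pow (by decide)
  have he : (i * i) ^ (k + 1) = i := by
    rw [← pow_two, ← pow_mul, show 2 * (k + 1) = 3 ^ j + 1 by omega, pow_succ, hj, one_mul]
  exact ((hc.pow_left (k + 1)).eq.trans rfl) |> fun h => by rw [he] at h; exact h.symm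

theorem coprime_theta (u : G) : (Nat.card (theta u)).Coprime 3 := by
  haveI := L.three
  exact coprime_coreIn 3 _

theorem theta_le_cent (u : G) : theta u ≤ Subgroup.centralizer ({u} : Set G) := coreIn_le 3 _

theorem P_le_normalizer_theta {u : G} (hu : u ∈ (P : Subgroup G)) :
    (P : Subgroup G) ≤ Subgroup.normalizer (theta u : Set G) :=
  (L.le_cent hu).trans (le_normalizer_coreIn 3 _)

theorem solvable_cent {u : G} (hu : u ∈ (P : Subgroup G)) (hu1 : u ≠ 1) :
    Group.IsSolvable (Subgroup.centralizer ({u} : Set G)) := by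
  obtain ⟨j, hj⟩ := L.pow_three hu
  exact L.hyp.solvable_cent_three hu1 hj

theorem le_theta {X : Subgroup G} {u : G} (hu : u ∈ (P : Subgroup G)) (hu1 : u ≠ 1)
    (hXu : X ≤ Subgroup.centralizer ({u} : Set G)) (hX : (Nat.card X).Coprime 3)
    (hPX : (P : Subgroup G) ≤ Subgroup.normalizer (X : Set G)) : X ≤ theta u := by
  haveI := L.three
  exact le_coreIn P (fun a ha b hb => L.comm ha hb) (L.solvable_cent hu hu1) (L.le_cent hu) hXu hX
    hPX

theorem conj_theta_le {n u : G} (hn : n ∈ Subgroup.normalizer ((P : Subgroup G) : Set G))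
    (hu : u ∈ (P : Subgroup G)) (hu1 : u ≠ 1) :
    (theta u).map (MulAut.conj n).toMonoidHom ≤ theta (n * u * n⁻¹) := by
  refine L.le_theta ((Subgroup.mem_normalizer_iff.1 hn u).1 hu)
    (fun e => hu1 (conj_eq_one_iff.1 e)) ?_ ?_ ?_
  · rintro _ ⟨x, hx, rfl⟩
    rw [Subgroup.mem_centralizer_singleton_iff]
    show n * x * n⁻¹ * (n * u * n⁻¹) = n * u * n⁻¹ * (n * x * n⁻¹)
    rw [show n * x * n⁻¹ * (n * u * n⁻¹) = n * (x * u) * n⁻¹ by group,
      Subgroup.mem_centralizer_singleton_iff.1 (L.theta_le_cent u hx)]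
    group
  · rw [Subgroup.card_map_of_injective (MulAut.conj n).injective]
    exact L.coprime_theta u
  · intro p hp
    have hp' : n⁻¹ * p * n ∈ (P : Subgroup G) := (Subgroup.mem_normalizer_iff''.1 hn p).1 hp
    have := Subgroup.le_normalizer_map (MulAut.conj n).toMonoidHom
      ⟨n⁻¹ * p * n, L.P_le_normalizer_theta hu hp', rfl⟩
    rwa [show (MulAut.conj n).toMonoidHom (n⁻¹ * p * n) = p from by
      show n * (n⁻¹ * p * n) * n⁻¹ = p
      group] at this

theorem t_normalizes_theta {u : G} (hu : u ∈ subQG E ∨ u ∈ L.invPart) (hu1 : u ≠ 1) :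
    E.t ∈ Subgroup.normalizer (theta u : Set G) := by
  have huP : u ∈ (P : Subgroup G) := hu.elim (fun h => L.le h) fun h => h.1
  have hC : theta (E.t * u * E.t⁻¹) = theta u := by
    rcases hu with h | h
    · obtain ⟨a, -, rfl⟩ := h
      rw [E.comm a, mul_inv_cancel_right]
    · rw [E.t_inv, h.2, theta, theta, ← Subgroup.centralizer_closure, ← Subgroup.zpowers_eq_closure,
        Subgroup.zpowers_inv, Subgroup.zpowers_eq_closure, Subgroup.centralizer_closure]
  have h := L.conj_theta_le L.norm huP hu1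
  rw [hC] at h
  rw [Subgroup.mem_normalizer_iff]
  intro x
  refine ⟨fun hx => h ⟨x, hx, rfl⟩, fun hx => ?_⟩
  have h2 : E.t * (E.t * x * E.t⁻¹) * E.t⁻¹ ∈ theta u := h ⟨_, hx, rfl⟩
  rwa [E.t_inv, show E.t * (E.t * x * E.t) * E.t = (E.t * E.t) * x * (E.t * E.t) by group, E.sq,
    one_mul, mul_one] at h2

theorem theta_le_of_centralizes {u v : G} (hu : u ∈ (P : Subgroup G)) (hv : v ∈ L.invPart)
    (hv1 : v ≠ 1) (hut : u ∈ subQG E ∨ u ∈ L.invPart) (hu1 : u ≠ 1) : theta u ≤ theta v :=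
  L.le_theta hv.1 hv1 (fun _ hx => Subgroup.mem_centralizer_singleton_iff.2
      (L.inv_centralizes (L.coprime_theta u) (L.P_le_normalizer_theta hu)
        (L.t_normalizes_theta hut hu1) hx hv))
    (L.coprime_theta u) (L.P_le_normalizer_theta hu)

/-- A subgroup `W` containing all cores, and equal to one of them. -/
theorem exists_core : ∃ v ∈ (P : Subgroup G), v ≠ 1 ∧
    ∀ u ∈ (P : Subgroup G), u ≠ 1 → theta u ≤ theta v := by
  obtain ⟨v, hv, hv1⟩ := L.exists_inv_ne
  refine ⟨v, hv.1, hv1, fun u hu hu1 => ?_⟩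
  haveI := L.three
  haveI : IsMulCommutative (subQG E) := ⟨⟨fun a b => Subtype.ext (L.hyp.Q_comm a.2 b.2)⟩⟩
  refine CfsgLib.Coprime.le_of_forall_inf_centralizer_le (A := subQG E) L.hyp.not_isCyclic_Q
    (L.le.trans (L.P_le_normalizer_theta hu)) ?_ fun e he he1 => ?_
  · rw [L.hyp.natCard_Q]
    obtain ⟨m, -, hq⟩ := L.hyp.three
    rw [hq]
    exact ((L.coprime_theta u).pow_right _).symm
  · refine le_trans ?_ (L.theta_le_of_centralizes (L.le he) hv hv1 (Or.inl he) he1)
    refine L.le_theta (L.le he) he1 inf_le_right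
      ((L.coprime_theta u).coprime_dvd_left (Subgroup.card_dvd_of_le inf_le_left)) ?_
    intro p hp
    rw [Subgroup.mem_normalizer_iff]
    intro x
    simp only [Subgroup.mem_inf, Subgroup.mem_centralizer_singleton_iff]
    rw [Subgroup.mem_normalizer_iff.1 (L.P_le_normalizer_theta hu hp) x]
    refine and_congr_right fun _ => ?_
    have h2 : p * e = e * p := L.comm hp (L.le he)
    have h3 : p⁻¹ * e = e * p⁻¹ := (show Commute p e from h2).inv_left.eq
    rw [show p * x * p⁻¹ * e = p * (x * e) * p⁻¹ by rw [mul_assoc (p * x), h3]; group,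
      show e * (p * x * p⁻¹) = p * (e * x) * p⁻¹ by rw [← mul_assoc, ← mul_assoc, ← h2]; group,
      mul_left_inj, mul_right_inj]

/-- A proper subgroup containing the normaliser and all centralisers. -/
theorem exists_big : ∃ H : Subgroup G, H ≠ ⊤ ∧
    Subgroup.normalizer ((P : Subgroup G) : Set G) ≤ H ∧
    ∀ u ∈ (P : Subgroup G), u ≠ 1 → Subgroup.centralizer ({u} : Set G) ≤ H := by
  haveI := L.three
  haveI := L.hyp.jt.simple
  obtain ⟨v, hv, hv1, hW⟩ := L.exists_core
  set N := Subgroup.normalizer ((P : Subgroup G) : Set G) with hN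
  have hNW : N ≤ Subgroup.normalizer (theta v : Set G) := by
    intro n hn
    have key : ∀ m ∈ N, ∀ x ∈ theta v, m * x * m⁻¹ ∈ theta v := fun m hm x hx =>
      (L.conj_theta_le hm hv hv1).trans (hW _ ((Subgroup.mem_normalizer_iff.1 hm v).1 hv)
        (fun e => hv1 (conj_eq_one_iff.1 e))) ⟨x, hx, rfl⟩
    rw [Subgroup.mem_normalizer_iff]
    intro x
    refine ⟨key n hn x, fun hx => ?_⟩
    have := key n⁻¹ (inv_mem hn) _ hx
    simpa [mul_assoc] using this
  refine ⟨theta v ⊔ N, fun htop => ?_, le_sup_right, fun u hu hu1 c hc => ?_⟩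
  · have hnorm : (theta v).Normal := Subgroup.normalizer_eq_top_iff.1
      (top_unique (htop ▸ sup_le Subgroup.le_normalizer hNW))
    have h27 := L.hyp.q_facts.2.1
    rcases IsSimpleGroup.eq_bot_or_eq_top_of_normal _ hnorm with h | h
    · rw [h, bot_sup_eq, hN, Subgroup.normalizer_eq_top_iff] at htop
      rcases IsSimpleGroup.eq_bot_or_eq_top_of_normal _ htop with h' | h'
      · have := L.natCard_P
        rw [h', Subgroup.card_bot] at this
        have : 27 ^ 3 ≤ Fintype.card F ^ 3 := Nat.pow_le_pow_left h27 3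
        omega
      · have h1 := L.natCard_P
        rw [h', Subgroup.card_top, L.hyp.card, mul_assoc] at h1
        have hp : 0 < Fintype.card F ^ 3 := by positivity
        have h2 : (Fintype.card F ^ 3 + 1) * (Fintype.card F - 1) = 1 :=
          Nat.eq_of_mul_eq_mul_left hp (by rw [h1, mul_one])
        have := Nat.eq_one_of_mul_eq_one_left h2
        omega
    · have h1 := L.coprime_theta v
      rw [h, Subgroup.card_top] at h1
      have h2 : (Nat.card (P : Subgroup G)) ∣ Nat.card G := Subgroup.card_subgroup_dvd_card _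
      rw [L.natCard_P] at h2
      have h3 : 3 ∣ Nat.card G :=
        ((Nat.dvd_of_mod_eq_zero L.hyp.q_facts.2.2).trans (dvd_pow_self _ three_ne_zero)).trans h2
      have := Nat.eq_one_of_dvd_coprimes h1 h3 dvd_rfl
      omega
  · obtain ⟨o, ho, n, hn, rfl⟩ := exists_mul_normalizer P (fun a ha b hb => L.comm ha hb)
      (L.solvable_cent hu hu1) (L.le_cent hu) hc
    exact mul_mem (le_sup_left (a := theta v) (b := N) (hW u hu hu1 ho)) (le_sup_right (a := theta v) hn)

end Loc

end CfsgLib.WalterCons
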