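import Cfsg.Agent.JankoThompson.TriCase
import Mathlib

/-!
# Groups of Ree order: the signs of the column `vZ 1`

The case analysis of Janko and Thompson shows more than is stated by `concl_main`: the only
nontrivial character occurring positively in the column `vZ 1` has degree `q³`.
-/

set_option autoImplicit false
set_option linter.unusedSectionVars false
set_option linter.style.haveILetI false
set_option maxHeartbeats 1000000

namespace CfsgLib.JankoThompson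

open Matrix CfsgLib.ReeTypeS3
open scoped MatrixGroups

universe u v

variable {G : Type u} [Group G] [Fintype G] {F : Type v} [Field F] [Fintype F]

local notation "PST" => Matrix.ProjectiveSpecialLinearGroup (Fin 2) F
local notation "qI" => (Fintype.card F : ℤ)
local notation "rI" => (rOf F : ℤ)

noncomputable local instance (priority := high) instFintypePSTReeSigns :
    Fintype (Matrix.ProjectiveSpecialLinearGroup (Fin 2) F) := Fintype.ofFinite _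

noncomputable local instance (priority := high) instFintypeSubReeSigns
    (H : Subgroup (Matrix.ProjectiveSpecialLinearGroup (Fin 2) F)) : Fintype H := Fintype.ofFinite _

variable {E : Emb G (Matrix.ProjectiveSpecialLinearGroup (Fin 2) F)}

/-- The only nontrivial character positive in `vZ 1` has degree `q³`. -/
def ReeSigns (D : Dat E) : Prop :=
  ∀ χ : Cfsg.IrrCharacter G, χ ≠ trivC G → 0 < D.vZ 1 χ → (deg χ : ℤ) = qI ^ 3

/-- The configuration reached by the case analysis. -/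
def ReeStd (D : Dat E) : Prop :=
  ∃ s : D.Std, D.vZ 1 s.A = 1 ∧ D.vZ 1 s.B = -1 ∧ D.vZ 1 s.C = -1 ∧ (deg s.A : ℤ) = qI ^ 3 ∧
    (deg s.B : ℤ) = qI * (qI ^ 2 - qI + 1) ∧ (deg s.C : ℤ) = qI ^ 2 - qI + 1

variable (hyp : Hyp E) {D : Dat E}
include hyp

theorem reeSigns_one (s : D.Std) {μ : D.c.Cr →* ℂˣ} (hμ : μ ≠ 1) (o : D.Orb hyp μ)
    (hb : s.bs μ = (1, 0, 0, 1, 1, 1, 1)) : ReeStd D := by
  obtain ⟨hA, hB, hC, hP, hR, hP2, hR2⟩ := s.sign hyp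
  obtain ⟨hD, hPR, hPR2⟩ := s.rel hyp
  obtain ⟨E0, E1, E2⟩ := s.eqs hyp
  obtain ⟨hf, Ea⟩ := s.a_eqs hyp hμ o hb (by norm_num)
  obtain ⟨p, k, hp, hpk⟩ := prime_pow hyp
  have hfp : (0 : ℤ) < o.f := by exact_mod_cast o.f_pos
  push_cast at Ea E1 E2
  obtain ⟨hsg, hj, hof, eA, eB, eC⟩ :=
    case_one (num hyp D.c) hp hpk (K := Kq E) (sd_ne_zero s.x_ne.1)
      (sd_ne_zero s.x_ne.2.1) (sd_ne_zero s.x_ne.2.2) (sd_ne_zero s.y_ne.1) (sd_ne_zero s.y_ne.2)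
      hfp hD hPR (by linarith) (by simpa using o.hK) E0 (by push_cast; exact E1)
      (by push_cast; linear_combination Ea + (-(sg F : ℚ)) * (E1 - E2))
  have hq : 27 ≤ qI := (num hyp D.c).q_large
  have hg : 0 < qI ^ 2 - qI + 1 := by nlinarith
  unfold sd at eA eB eC
  have vA : D.vZ 1 s.A = 1 := hA.resolve_right fun e => by
    rw [e] at eA; nlinarith [pow_pos (show (0 : ℤ) < qI by linarith) 3, (deg s.A).cast_nonneg (α := ℤ)]
  have vB : D.vZ 1 s.B = -1 := hB.resolve_left fun e => by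
    rw [e] at eB; nlinarith [mul_pos (show (0 : ℤ) < qI by linarith) hg, (deg s.B).cast_nonneg (α := ℤ)]
  have vC : D.vZ 1 s.C = -1 := hC.resolve_left fun e => by
    rw [e] at eC; nlinarith [(deg s.C).cast_nonneg (α := ℤ)]
  rw [vA] at eA; rw [vB] at eB; rw [vC] at eC
  exact ⟨s, vA, vB, vC, by linarith, by linarith, by linarith⟩

/-- The multiplicity of one nontrivial character either gives the signs or selects a private
character of `vH1`. -/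
theorem reeSigns_step (s : D.Std) {μ : D.c.Cr →* ℂˣ} (hμ : μ ≠ 1) (o : D.Orb hyp μ) (hnC : ¬ ReeStd D) :
    sb F (D.vZ 1) (D.vA μ) s.C = -1 ∧ ∃ s' : D.Std, s'.A = s.A ∧ s'.B = s.B ∧ s'.C = s.C ∧
      ((s'.P = s.P ∧ s'.R = s.R) ∨ (s'.P = s.R ∧ s'.R = s.P)) ∧
      s'.bs μ = (1, 1, -1, 1, 0, 1, 0) := by
  obtain ⟨a, ha⟩ : ∃ z, z = sb F (D.vZ 1) (D.vA μ) s.A := ⟨_, rfl⟩
  obtain ⟨b, hb⟩ : ∃ z, z = sb F (D.vZ 1) (D.vA μ) s.B := ⟨_, rfl⟩
  obtain ⟨c, hc⟩ : ∃ z, z = sb F (D.vZ 1) (D.vA μ) s.C := ⟨_, rfl⟩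
  obtain ⟨p, hp⟩ : ∃ z, z = sb F D.vH1 (D.vA μ) s.P := ⟨_, rfl⟩
  obtain ⟨r, hr⟩ : ∃ z, z = sb F D.vH1 (D.vA μ) s.R := ⟨_, rfl⟩
  obtain ⟨p2, hp2⟩ : ∃ z, z = sb F D.vH2 (D.vA μ) s.P2 := ⟨_, rfl⟩
  obtain ⟨r2, hr2⟩ : ∃ z, z = sb F D.vH2 (D.vA μ) s.R2 := ⟨_, rfl⟩
  have hbs : s.bs μ = (a, b, c, p, r, p2, r2) := by rw [ha, hb, hc, hp, hr, hp2, hr2]; rfl
  obtain ⟨h1, h2, h3, -, h5⟩ := s.b_rel hyp hμ o hbs
  rcases std_cases h1 h2 h3 h5 with ⟨rfl, rfl, rfl, rfl, rfl, rfl, rfl⟩ |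
    ⟨rfl, rfl, rfl, rfl, rfl, rfl, rfl⟩ | ⟨rfl, rfl, rfl, hpr, hst⟩
  · exact absurd (reeSigns_one hyp s hμ o hbs) hnC
  · refine absurd (reeSigns_one hyp s.swapAB hμ o ?_) hnC
    simp only [Dat.Std.bs, Dat.Std.swapAB, ← ha, ← hb, ← hc, ← hp, ← hr, ← hp2, ← hr2]
  refine ⟨hc.symm, ?_⟩
  rcases hpr with ⟨rfl, rfl⟩ | ⟨rfl, rfl⟩ <;> rcases hst with ⟨rfl, rfl⟩ | ⟨rfl, rfl⟩
  · exact ⟨s, rfl, rfl, rfl, Or.inl ⟨rfl, rfl⟩, hbs⟩
  · exact ⟨s.swapW, rfl, rfl, rfl, Or.inl ⟨rfl, rfl⟩, by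
      simp only [Dat.Std.bs, Dat.Std.swapW, ← ha, ← hb, ← hc, ← hp, ← hr, ← hp2, ← hr2]⟩
  · exact ⟨s.swapY, rfl, rfl, rfl, Or.inr ⟨rfl, rfl⟩, by
      simp only [Dat.Std.bs, Dat.Std.swapY, ← ha, ← hb, ← hc, ← hp, ← hr, ← hp2, ← hr2]⟩
  · exact ⟨s.swapY.swapW, rfl, rfl, rfl, Or.inr ⟨rfl, rfl⟩, by
      simp only [Dat.Std.bs, Dat.Std.swapY, Dat.Std.swapW, ← ha, ← hb, ← hc, ← hp, ← hr, ← hp2, ← hr2]⟩

/-- Two common characters give the signs. -/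
theorem reeSigns_of_std (s : D.Std) : ReeStd D := by
  classical
  by_contra hnC
  haveI := D.c.isCyclic_Cr
  have hr7 := Cyc.seven_le_r hyp D.c
  have hμ₀ : D.μ₀ ≠ 1 := fun e => by
    have h := pow_ne_one_of_pos D.μ₀_inj (j := 1) (by rw [D.c.natCard_Cr]; omega) one_ne_zero
    exact h (MonoidHom.ext fun x => by simp [e])
  obtain ⟨o⟩ := D.exists_orb hyp hμ₀
  obtain ⟨-, t, -, -, -, -, htb⟩ := reeSigns_step hyp s hμ₀ o hnC
  obtain ⟨hPRne, hP2, hf⟩ := t.type_two hyp hμ₀ o htb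
  obtain ⟨hA, hB, hC, hP, hR, -, -⟩ := t.sign hyp
  -- the same selection for every character
  have hall : ∀ μ, μ ≠ 1 → sb F (D.vZ 1) (D.vA μ) t.C = -1 ∧ sb F D.vH1 (D.vA μ) t.P = 1 := by
    intro μ hμ
    obtain ⟨o'⟩ := D.exists_orb hyp hμ
    obtain ⟨hc, t', -, -, eC, hsel, hb'⟩ := reeSigns_step hyp t hμ o' hnC
    obtain ⟨-, -, hf'⟩ := t'.type_two hyp hμ o' hb'
    rw [eC, show (o'.f : ℤ) = (o.f : ℤ) by exact_mod_cast Dat.Orb.f_eq hyp D o' o] at hf'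
    simp only [Dat.Std.bs, Prod.mk.injEq] at hb'
    refine ⟨hc, ?_⟩
    rcases hsel with ⟨e1, -⟩ | ⟨e1, -⟩
    · rw [← e1]; exact hb'.2.2.2.1
    · exfalso
      rw [e1] at hf'
      exact hPRne (by linarith)
  -- congruences
  obtain ⟨tA, tB, tC, tP, -, -, -⟩ := t.hT hyp
  have hsum : ∀ (v : Cfsg.IrrCharacter G → ℤ) (χ : Cfsg.IrrCharacter G) (z : ℤ),
      (v χ = 1 ∨ v χ = -1) → (∀ μ, μ ≠ 1 → sb F v (D.vA μ) χ = z) →
      ∑ j ∈ Finset.range (rOf F), D.vA (D.μ₀ ^ j) χ = (rI - 1) * (-(sg F) * z * v χ) := by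
    intro v χ z hv hz
    rw [← D.c.natCard_Cr, ← Finset.add_sum_erase _ _
      (Finset.mem_range.2 (Nat.card_pos (α := D.c.Cr))), pow_zero_hom D.μ₀_inj,
      show D.vA 1 χ = 0 from sub_self _, zero_add,
      Finset.sum_congr rfl (g := fun _ => -(sg F) * z * v χ) fun j hj => ?_, Finset.sum_const,
      Finset.card_erase_of_mem (Finset.mem_range.2 Nat.card_pos), Finset.card_range, nsmul_eq_mul,
      D.c.natCard_Cr, Nat.cast_sub (by omega : 1 ≤ rOf F), Nat.cast_one]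
    rw [← hz _ (pow_ne_one_of_pos D.μ₀_inj (Finset.mem_range.1 (Finset.mem_erase.1 hj).2)
      (Finset.mem_erase.1 hj).1)]
    rcases hv with e | e <;> rcases sg_cases (F := F) with e' | e' <;> simp [sb, e, e']
  have hq := q_eq hyp.mod8
  have hodd : Odd rI := (num hyp D.c).hodd
  have hDc : 8 * rI ∣ sd (D.vZ 1) t.C + sg F := by
    have h4 := D.dvd_sum_vA hyp t.C
    rw [hsum _ _ (-1) hC fun μ hμ => (hall μ hμ).1, tC] at h4
    have h8 := D.eight_dvd hyp t.C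
    rw [tC] at h8
    refine eight_r_dvd hodd ?_ ?_
    · obtain ⟨k, hk⟩ := h4
      refine ⟨D.vZ 1 t.C * k + sg F, ?_⟩
      unfold sd
      rcases hC with e | e <;> rw [e] at hk ⊢ <;> linear_combination (norm := ring_nf) (D.vZ 1 t.C) * hk <;>
        rw [e] <;> ring
    · obtain ⟨k, hk⟩ := h8
      refine ⟨D.vZ 1 t.C * k + sg F, ?_⟩
      unfold sd
      rcases hC with e | e <;> rw [e] at hk ⊢ <;> linarith
  have hPc : 8 * rI ∣ sd D.vH1 t.P - (2 * rI + sg F) := by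
    have h4 := D.dvd_sum_vA hyp t.P
    rw [hsum _ _ 1 hP fun μ hμ => (hall μ hμ).2, tP] at h4
    have h8 := D.eight_dvd hyp t.P
    rw [tP] at h8
    refine eight_r_dvd hodd ?_ ?_
    · obtain ⟨k, hk⟩ := h4
      refine ⟨D.vH1 t.P * k - sg F - 2, ?_⟩
      unfold sd
      rcases hP with e | e <;> rw [e] at hk ⊢ <;> linarith
    · obtain ⟨k, hk⟩ := h8
      refine ⟨D.vH1 t.P * k - (2 * rI + sg F), ?_⟩
      unfold sd
      rcases hP with e | e <;> rw [e] at hk ⊢ <;> linarith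
  obtain ⟨E0, E1, E2⟩ := t.eqs hyp
  obtain ⟨hfe, Ea⟩ := t.a_eqs hyp hμ₀ o htb (by norm_num)
  refine case_two (num hyp D.c) (K := Kq E) (sd_ne_zero t.x_ne.1) (sd_ne_zero t.x_ne.2.1)
    (sd_ne_zero t.x_ne.2.2) (sd_ne_zero t.y_ne.1) (by exact_mod_cast o.f_pos) hf (m_dvd_f hyp o)
    ?_ ?_ (sd_dvd hyp o hP tP) hPc hDc (by simpa using o.hK) E0 ?_
  · have := sd_dvd hyp o hA tA
    rwa [show qI ^ 2 * qI = qI ^ 3 by ring] at this
  · have := sd_dvd hyp o hB tB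
    rwa [show qI ^ 2 * qI = qI ^ 3 by ring] at this
  · rw [hP2] at Ea
    push_cast at Ea ⊢
    linear_combination Ea

theorem reeStd (D : Dat E) : ReeStd D := by
  rcases D.exists_shape hyp with ⟨⟨s⟩⟩ | ⟨⟨s⟩⟩
  · exact reeSigns_of_std hyp s
  · exact (s.false hyp).elim

theorem reeSigns (D : Dat E) : ReeSigns D := by
  obtain ⟨s, vA, vB, vC, eA, -, -⟩ := reeStd hyp D
  intro χ hχ hpos
  by_cases h1 : χ = s.A
  · rw [h1]; exact eA
  exfalso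
  by_cases h2 : χ = s.B
  · rw [h2, vB] at hpos; omega
  by_cases h3 : χ = s.C
  · rw [h3, vC] at hpos; omega
  rw [s.x_zero χ hχ h1 h2 h3] at hpos
  omega

end CfsgLib.JankoThompson
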