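import Cfsg.Agent.WalterCons.ReeBorelSylow
import Cfsg.Agent.WalterCons.ReeSigns
import Mathlib

/-!
# Groups of Ree order: the column `vZ 1` on the section of `t` over `ι(Q)` and `ι(D)`
-/

set_option autoImplicit false
set_option linter.unusedSectionVars false
set_option linter.style.haveILetI false
set_option maxHeartbeats 1000000

namespace CfsgLib.WalterCons

open Matrix CfsgLib.ReeTypeS3
open scoped MatrixGroups

universe u v

variable {G : Type u} [Group G] [Fintype G] {F : Type v} [Field F] [Fintype F]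

local notation "PST" => Matrix.ProjectiveSpecialLinearGroup (Fin 2) F
local notation "qI" => (Fintype.card F : ℤ)

noncomputable local instance (priority := high) instFintypePSTReeSection :
    Fintype (Matrix.ProjectiveSpecialLinearGroup (Fin 2) F) := Fintype.ofFinite _

noncomputable local instance (priority := high) instFintypeSubReeSection
    (H : Subgroup (Matrix.ProjectiveSpecialLinearGroup (Fin 2) F)) : Fintype H := Fintype.ofFinite _

variable {E : Emb G (Matrix.ProjectiveSpecialLinearGroup (Fin 2) F)}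

/-- The class function of an integral column. -/
noncomputable def colFun (v : Cfsg.IrrCharacter G → ℤ) (g : G) : ℂ :=
  ∑ χ : Cfsg.IrrCharacter G, (v χ : ℂ) * (χ : G → ℂ) g

theorem colFun_conj (v : Cfsg.IrrCharacter G → ℤ) (g x : G) :
    colFun v (x * g * x⁻¹) = colFun v g := by
  refine Finset.sum_congr rfl fun χ _ => ?_
  rw [(Characters.isClassFunction_of_isIrr χ.2) g x]

theorem sum_colFun (v : Cfsg.IrrCharacter G → ℤ) (K : Subgroup PST) :
    ∑ h : K, colFun v (E.t * E.ι (h : PST)) =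
      (Nat.card K : ℂ) * (dotp v (Pz E K 1) : ℂ) := by
  rw [dotp, Int.cast_sum, Finset.mul_sum]
  simp only [colFun]
  rw [Finset.sum_comm]
  refine Finset.sum_congr rfl fun χ _ => ?_
  rw [Int.cast_mul, cast_Pz, P, avg, ← Finset.mul_sum, Nat.card_eq_fintype_card,
    show (Fintype.card K : ℂ) * ((v χ : ℂ) * ((Fintype.card K : ℂ)⁻¹ *
        ∑ h : K, (χ : G → ℂ) (E.t * (E.ι.comp K.subtype) h) * ((((1 : K →* ℂˣ) h)⁻¹ : ℂˣ) : ℂ))) =
      (v χ : ℂ) * ((Fintype.card K : ℂ) * (Fintype.card K : ℂ)⁻¹) *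
        ∑ h : K, (χ : G → ℂ) (E.t * (E.ι.comp K.subtype) h) * ((((1 : K →* ℂˣ) h)⁻¹ : ℂˣ) : ℂ)
      by ring,
    mul_inv_cancel₀ (Nat.cast_ne_zero.2 Fintype.card_ne_zero), mul_one]
  congr 1
  exact Finset.sum_congr rfl fun h _ => by simp

theorem lam_zero : lam (0 : F) = 1 := by
  refine MonoidHom.ext fun h => Units.ext ?_
  obtain ⟨_, b, rfl⟩ := h
  obtain ⟨x, rfl⟩ := Multiplicative.ofAdd.surjective b
  refine (lam_apply 0 x (uQ_mem _)).trans ?_
  rw [zero_mul, AddChar.map_zero_eq_one]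
  rfl

namespace RHyp

variable (hyp : RHyp E)
include hyp

theorem sg_eq : JankoThompson.sg F = -1 ∧ JankoThompson.uOf F = Nat.card (subD (F := F)) ∧
    4 * JankoThompson.rOf F = Fintype.card F + 1 := by
  obtain ⟨h8, h27, -⟩ := hyp.q_facts
  have h := natCard_subD (F := F) hyp.two_ne
  refine ⟨?_, ?_, ?_⟩
  · rw [JankoThompson.sg, if_pos h8]
  · rw [JankoThompson.uOf, if_pos h8]; omega
  · rw [JankoThompson.rOf, if_pos h8]; omega

theorem exists_dat_split : ∃ D : JankoThompson.Dat E, tor D.g₁ = subD (F := F) := by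
  obtain ⟨D⟩ := JankoThompson.exists_dat hyp.jt
  obtain ⟨a, ha⟩ := IsCyclic.exists_generator (α := Fˣ)
  have hord : orderOf a = Fintype.card F - 1 := by
    rw [orderOf_eq_card_of_forall_mem_zpowers ha, Nat.card_units, Nat.card_eq_fintype_card]
  have h27 := hyp.q_facts.2.1
  have hsq : (a : F) * a ≠ 1 := fun h => by
    have : orderOf a ∣ 2 :=
      orderOf_dvd_of_pow_eq_one (Units.ext (by rw [pow_two, Units.val_mul, Units.val_one]; exact h))
    have := Nat.le_of_dvd two_pos this
    omega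
  set g : SL(2, F) := LocalEven50.diagHom a with hg
  have htr : SL2Tori.tr g ^ 2 ≠ 4 := by
    show Matrix.trace !![(a : F), 0; 0, ((a⁻¹ : Fˣ) : F)] ^ 2 ≠ 4
    rw [Matrix.trace_fin_two]
    intro h
    apply hsq
    have hm : (a : F) * ((a⁻¹ : Fˣ) : F) = 1 := by rw [← Units.val_mul, mul_inv_cancel, Units.val_one]
    have h0 : ((a : F) - ((a⁻¹ : Fˣ) : F)) ^ 2 = 0 := by
      simp only [Matrix.of_apply, Matrix.cons_val', Matrix.cons_val_zero, Matrix.cons_val_one,
        Matrix.empty_val', Matrix.cons_val_fin_one] at h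
      linear_combination h - 4 * hm
    have h1 := sub_eq_zero.1 (pow_eq_zero_iff two_ne_zero |>.1 h0)
    calc (a : F) * a = a * ((a⁻¹ : Fˣ) : F) := congrArg (fun x => (a : F) * x) h1
      _ = 1 := hm
  have hsub : subD (F := F) = tor g := by
    refine le_antisymm ?_ fun x hx => ?_
    · rintro _ ⟨b, rfl⟩
      refine ⟨LocalEven50.diagHom b, ?_, rfl⟩
      show LocalEven50.diagHom b ∈ Subgroup.centralizer ({g} : Set SL(2, F))
      rw [Subgroup.mem_centralizer_singleton_iff, hg, ← map_mul, ← map_mul, mul_comm]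
    · refine mem_subD_of_fix hyp.not_sq_neg_one (a := a) ?_ ?_
      · rw [Ne, dQ_eq_one_iff]
        rintro (h | h) <;> exact hsq (by rw [h]; simp)
      · exact tor_comm htr hx ⟨g, Subgroup.mem_centralizer_singleton_iff.2 rfl, rfl⟩
  exact ⟨⟨D.c, g, D.ns, htr, by rw [← hsub, hyp.sg_eq.2.1], D.hns⟩, hsub.symm⟩

/-- The column and its sums on the section of `t`. -/
theorem exists_col : ∃ v : Cfsg.IrrCharacter G → ℤ, v (JankoThompson.trivC G) = 1 ∧
    (∀ g : G, Odd (orderOf g) → colFun v g = 0) ∧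
    (∀ χ, χ ≠ JankoThompson.trivC G → 0 < v χ → (ReeTypeS3.deg χ : ℤ) = qI ^ 3) ∧
    colFun v E.t = 2 * (Fintype.card F : ℂ) + 2 ∧
    ∑ h : subQ (F := F), colFun v (E.t * E.ι (h : PST)) = 4 * (Fintype.card F : ℂ) ∧
    ∑ h : subD (F := F), colFun v (E.t * E.ι (h : PST)) = 8 * (Nat.card (subD (F := F)) : ℂ) := by
  classical
  obtain ⟨D, hD⟩ := hyp.exists_dat_split
  obtain ⟨hsg, hu, hr⟩ := hyp.sg_eq
  have hj := hyp.jt
  obtain ⟨h8, h27, -⟩ := hyp.q_facts
  have h2u : 2 * (JankoThompson.uOf F : ℤ) = qI - 1 := by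
    have := natCard_subD (F := F) hyp.two_ne
    rw [hu]; omega
  have hr' : 4 * (JankoThompson.rOf F : ℤ) = qI + 1 := by exact_mod_cast hr
  set v := D.vZ 1 with hv
  have hexp : ∀ (K : Subgroup PST) (β : K →* ℂˣ), dotp v (Pz E K β) =
      dotp (Pz E (tor D.g₁) 1) (Pz E K β) - dotp D.vN (Pz E K β) := by
    intro K β
    rw [hv]
    unfold JankoThompson.Dat.vZ
    simp only [dotp_smul, dotp_sub]
    rw [hsg]; ring
  refine ⟨v, ?_, fun g hg => ?_, JankoThompson.reeSigns hj D, ?_, ?_, ?_⟩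
  · rw [hv, D.vZ_trivC hj, if_pos rfl, hsg]; norm_num
  · rw [colFun, ← D.col_vZ (1 : tor D.g₁ →* ℂˣ) g hg]
    exact Finset.sum_congr rfl fun χ _ => mul_comm _ _
  · have hbot : Odd (Nat.card (⊥ : Subgroup PST)) := by rw [Subgroup.card_bot]; exact odd_one
    have hc : ∀ (H : Subgroup PST) (α : H →* ℂˣ), Odd (Nat.card H) → ∀ z : ℤ,
        2 * (Nat.card PST : ℤ) = (Nat.card H : ℤ) * z →
        dotp (Pz E H α) (Pz E (⊥ : Subgroup PST) 1) = z := by
      intro H α hH z hz
      refine JankoThompson.Dat.dot_of_gsum' hj _ _ _ _ hH hbot _ ?_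
      rw [gsum_coprime _ _ _ _ (by rw [Subgroup.card_bot]; exact Nat.coprime_one_right _),
        Subgroup.card_bot, Nat.cast_one, mul_one, ← Nat.card_eq_fintype_card]
      exact_mod_cast hz
    have hL : (Nat.card PST : ℤ) =
        4 * qI * (JankoThompson.rOf F : ℤ) * (JankoThompson.uOf F : ℤ) := by
      exact_mod_cast JankoThompson.natCard_L hj.mod8
    have hQ : ∀ e : F, dotp (Pz E (subQ (F := F)) (lam e)) (Pz E (⊥ : Subgroup PST) 1) =
        8 * (JankoThompson.rOf F : ℤ) * (JankoThompson.uOf F : ℤ) := fun e =>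
      hc _ _ (JankoThompson.Dat.odd_subQ' hj) _ (by
        rw [natCard_subQ, Nat.card_eq_fintype_card (α := F), hL]; ring)
    have hT : dotp (Pz E (tor D.g₁) 1) (Pz E (⊥ : Subgroup PST) 1) =
        8 * qI * (JankoThompson.rOf F : ℤ) :=
      hc _ _ (D.odd_g₁ hj) _ (by rw [D.card₁, hL]; ring)
    have h := sum_colFun (E := E) v (⊥ : Subgroup PST)
    rw [Fintype.sum_eq_single (1 : (⊥ : Subgroup PST)) (fun h hh => absurd (Subsingleton.elim h 1) hh),
      Subgroup.card_bot, Nat.cast_one, one_mul, OneMemClass.coe_one, map_one, mul_one] at h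
    rw [h, hexp, hT, show dotp D.vN (Pz E (⊥ : Subgroup PST) 1) =
        16 * (JankoThompson.rOf F : ℤ) * (JankoThompson.uOf F : ℤ) by
      unfold JankoThompson.Dat.vN
      simp only [dotp_add, hQ]; ring]
    have e : 8 * qI * (JankoThompson.rOf F : ℤ) -
        16 * (JankoThompson.rOf F : ℤ) * (JankoThompson.uOf F : ℤ) = 2 * qI + 2 := by
      linear_combination (-8 * (JankoThompson.rOf F : ℤ)) * h2u + 2 * hr'
    rw [e]
    push_cast
    ring
  · have hcross : ∀ e : F, e ≠ 0 →
        dotp (Pz E (subQ (F := F)) (lam e)) (Pz E (subQ (F := F)) (lam 0)) = qI - 1 := by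
      intro e he
      refine JankoThompson.Dat.dot_of_gsum' hj _ _ _ _ (JankoThompson.Dat.odd_subQ' hj)
        (JankoThompson.Dat.odd_subQ' hj) _ ?_
      rw [JankoThompson.Dat.gsum_subQ' hj he (fun a ha => absurd (ha ▸ (zero_mul (a * a))) he),
        if_neg he, natCard_subQ, Nat.card_eq_fintype_card]
      push_cast
      ring
    rw [sum_colFun, ← lam_zero, hexp,
      show dotp (Pz E (tor D.g₁) 1) (Pz E (subQ (F := F)) (lam 0)) =
          8 * (JankoThompson.rOf F : ℤ) by rw [dotp_comm, D.dot_QK hj],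
      show dotp D.vN (Pz E (subQ (F := F)) (lam 0)) = 2 * qI - 2 by
        unfold JankoThompson.Dat.vN
        simp only [dotp_add, hcross 1 one_ne_zero, hcross D.ns D.ns_ne_zero]; ring,
      show 8 * (JankoThompson.rOf F : ℤ) - (2 * qI - 2) = 4 by linear_combination 2 * hr',
      natCard_subQ, Nat.card_eq_fintype_card]
    push_cast
    ring
  · have key : ∀ K : Subgroup PST, K = tor D.g₁ →
        ∑ h : K, colFun v (E.t * E.ι (h : PST)) = 8 * (Nat.card K : ℂ) := by
      rintro K rfl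
      rw [sum_colFun, hexp, D.dot_KK hj, D.dot_NK hj, JankoThompson.dlt_one_one, hsg,
        show 4 * (qI - 2 * (-1)) + 2 * 2 - 16 * (JankoThompson.rOf F : ℤ) = 8 by
          linear_combination (-4) * hr']
      push_cast
      ring
    exact key _ hD.symm

end RHyp

end CfsgLib.WalterCons
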