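import Cfsg.Agent.WalterCons.ReeNormalizer
import Cfsg.Agent.Solvable.Fitting
import Mathlib

/-!
# A group of Ree order with abelian Sylow subgroups: `A₀` acts semiregularly on `I`
-/

set_option autoImplicit false
set_option linter.unusedSectionVars false
set_option linter.style.haveILetI false

namespace CfsgLib.WalterCons

open Matrix CfsgLib.ReeTypeS3
open scoped MatrixGroups

universe u v

/-- A nilpotent group with abelian Sylow subgroups is abelian. -/
theorem comm_of_nilpotent {X : Type*} [Group X] [Finite X] [Group.IsNilpotent X]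
    (hA : AGroups.AbelianSylows X) (a b : X) : a * b = b * a := by
  classical
  let e := Sylow.directProductOfNormal (G := X) fun {p} _ P => inferInstance
  apply e.symm.injective
  rw [map_mul, map_mul]
  funext p P
  haveI : Fact (p.1).Prime := ⟨Nat.prime_of_mem_primeFactors p.2⟩
  exact (hA p.1 P).is_comm.comm _ _

/-- Conjugation invariance passes to characteristic subgroups. -/
theorem conj_mem_map_char {G : Type*} [Group G] [Finite G] {K : Subgroup G} {c : G}
    (h : ∀ k ∈ K, c * k * c⁻¹ ∈ K) (X : Subgroup K) [hX : X.Characteristic] {x : G}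
    (hx : x ∈ X.map K.subtype) : c * x * c⁻¹ ∈ X.map K.subtype := by
  let f : K →* K := ((MulAut.conj c).toMonoidHom.comp K.subtype).codRestrict K fun k => h k.1 k.2
  have hf : Function.Bijective f := Finite.injective_iff_bijective.1 fun a b e =>
    Subtype.ext ((MulAut.conj c).injective (congrArg Subtype.val e))
  obtain ⟨y, hy, rfl⟩ := hx
  exact ⟨f y, (Subgroup.characteristic_iff_map_le.1 hX (MulEquiv.ofBijective f hf)) ⟨y, hy, rfl⟩, rfl⟩

variable {G : Type u} [Group G] [Fintype G] {F : Type v} [Field F] [Fintype F]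

local notation "PST" => Matrix.ProjectiveSpecialLinearGroup (Fin 2) F

namespace Loc

variable {E : Emb G (Matrix.ProjectiveSpecialLinearGroup (Fin 2) F)} {P : Sylow 3 G} (L : Loc E P)
include L

theorem not_sq_neg_one : ∀ x : F, x * x ≠ -1 := fun x hx =>
  (show Fintype.card F % 4 ≠ 3 from
    FiniteField.isSquare_neg_one_iff.1 ⟨x, hx.symm⟩) (by have := L.hyp.q_facts.1; omega)

theorem wQ_notMem_normalizer :
    E.ι wQ ∉ Subgroup.normalizer ((P : Subgroup G) : Set G) := by
  intro h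
  obtain ⟨p, hp, a, ha, e⟩ := L.exists_PA h
  have hpt : p * E.t = E.t * p := by
    have h1 : p = E.ι wQ * a⁻¹ := by rw [e, mul_inv_cancel_right]
    rw [h1]
    exact ((show Commute E.t (E.ι wQ) from E.comm wQ).mul_right
      ((show Commute E.t a from (torusA_comm_t ha).symm).inv_right)).symm.eq
  obtain ⟨b, hb, rfl⟩ := L.mem_Q_of_comm hp hpt
  obtain ⟨d, hd, rfl | rfl⟩ := mem_torusA ha
  · rw [← map_mul] at e
    obtain ⟨x, rfl⟩ := hb
    obtain ⟨c, rfl⟩ := hd
    exact wQ_not_inB (E.inj e ▸ (inB_iff.2 (mul_mem (inB_iff.1 (inB_uQ x))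
      (inB_iff.1 (inB_dQ c)))))
  · refine E.ι_eq_t_mul_iff (a := wQ) (b := b * d) ?_
    rw [e, map_mul, ← mul_assoc, ← E.comm b, mul_assoc]

/-- An element of `ι(D)#` fixes no element of `I#`. -/
theorem torus_fixed_point_free {d : PST} (hd : d ∈ subD (F := F)) (hd1 : d ≠ 1) {v : G}
    (hv : v ∈ L.invPart) (hv1 : v ≠ 1) : E.ι d * v ≠ v * E.ι d := by
  intro hcomm
  haveI := L.three
  classical
  set C := Subgroup.centralizer ({E.ι d} : Set G) with hC
  have htC : E.t ∈ C := Subgroup.mem_centralizer_singleton_iff.2 (E.comm d)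
  -- what commutes with `t` and `d`
  have hfix : ∀ l : PST, E.ι l * E.ι d = E.ι d * E.ι l → l ∈ subD (F := F) := by
    intro l hl
    obtain ⟨a, rfl⟩ := hd
    exact mem_subD_of_fix L.not_sq_neg_one hd1 (E.inj (by rw [map_mul, map_mul, hl]))
  have hDodd : Odd (Nat.card (subD (F := F))) := by
    have h1 := natCard_subD (F := F) L.hyp.two_ne
    have := L.hyp.q_facts.1
    rw [Nat.odd_iff]; omega
  obtain ⟨O, hO, hOodd⟩ := L.hyp.exists_odd_index_two htC fun y hy hyt hyy => by
    obtain ⟨l, hl⟩ := E.cent y hyt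
    have hyd := Subgroup.mem_centralizer_singleton_iff.1 hy
    have hlD : l ∈ subD (F := F) := by
      apply hfix
      have := E.conj_ι hl d
      rw [hyd, mul_inv_cancel_right] at this
      rw [← map_mul, ← map_mul]
      exact congrArg E.ι (mul_inv_eq_iff_eq_mul.1 (E.inj this).symm)
    have hl2 : l * l = 1 := by
      refine E.inj ?_
      rw [map_mul, map_one]
      rcases hl with e | e
      · rw [← e, hyy]
      · have e' : E.ι l = E.t * y := by rw [e, ← mul_assoc, E.sq, one_mul]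
        rw [e', show E.t * y * (E.t * y) = E.t * (y * E.t) * y by group, hyt, ← mul_assoc E.t E.t,
          E.sq, one_mul, hyy]
    have hl1 : l = 1 := by
      obtain ⟨k, hk⟩ := hDodd
      have h1 : (⟨l, hlD⟩ : subD (F := F)) ^ (2 * k + 1) = 1 := hk ▸ pow_card_eq_one'
      rw [pow_succ, pow_mul, pow_two, show (⟨l, hlD⟩ : subD (F := F)) * ⟨l, hlD⟩ = 1 from
        Subtype.ext hl2, one_pow, one_mul] at h1
      exact congrArg Subtype.val h1
    rw [hl1, map_one, mul_one] at hl
    exact hl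
  set K := O.map C.subtype with hK
  have hKodd : Odd (Nat.card K) := by
    rw [hK, Subgroup.card_map_of_injective C.subtype_injective]; exact hOodd
  have hKC : K ≤ C := Subgroup.map_subtype_le _
  have hKmem : ∀ x ∈ C, ∀ m : ℕ, Odd m → x ^ m = 1 → x ∈ K := fun x hx m hm hxm =>
    ⟨⟨x, hx⟩, ReeTypeS3.mem_of_odd_order hO hm (Subtype.ext (by simpa using hxm)), rfl⟩
  have hKord : ∀ k ∈ K, k ^ Nat.card K = 1 := fun k hk => by
    have h1 := congrArg Subtype.val (pow_card_eq_one' (x := (⟨k, hk⟩ : K)))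
    rwa [SubmonoidClass.coe_pow, OneMemClass.coe_one] at h1
  have hKconj : ∀ c : G, (∀ y ∈ C, c * y * c⁻¹ ∈ C) → ∀ k ∈ K, c * k * c⁻¹ ∈ K := fun c hc k hk =>
    hKmem _ (hc k (hKC hk)) _ hKodd (by rw [conj_pow, hKord k hk, mul_one, mul_inv_cancel])
  have hvP := hv.1
  obtain ⟨j, hj⟩ := L.pow_three hvP
  have hvC : v ∈ C := Subgroup.mem_centralizer_singleton_iff.2 hcomm.symm
  have hvK : v ∈ K := hKmem v hvC _ (Odd.pow (by decide)) hj
  haveI hKs : Group.IsSolvable K := Cfsg.Agent.S0205.result hKodd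
  -- the 3-core of `K` is trivial
  have hcore : Cfsg.pCore 3 K = ⊥ := by
    haveI : (Cfsg.pCore 3 K).Characteristic := Solvable.pCore_characteristic 3
    have hMp : IsPGroup 3 ((Cfsg.pCore 3 K).map K.subtype) := (Solvable.isPGroup_pCore 3).map _
    have hMn : Subgroup.zpowers v ≤
        Subgroup.normalizer (((Cfsg.pCore 3 K).map K.subtype : Subgroup G) : Set G) := by
      rw [Subgroup.zpowers_le, Subgroup.mem_normalizer_iff]
      intro x
      refine ⟨fun hx => conj_mem_map_char (fun k hk => K.mul_mem (K.mul_mem hvK hk) (K.inv_mem hvK))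
        _ hx, fun hx => ?_⟩
      have := conj_mem_map_char (c := v⁻¹)
        (fun k hk => K.mul_mem (K.mul_mem (K.inv_mem hvK) hk) (K.inv_mem (K.inv_mem hvK))) _ hx
      simpa [mul_assoc] using this
    have hvp : IsPGroup 3 (Subgroup.zpowers v) :=
      IsPGroup.to_le P.2 (Subgroup.zpowers_le.2 hvP)
    have hsup := hvp.to_sup_of_normal_right' hMp hMn
    rw [← Subgroup.map_eq_bot_iff_of_injective _ K.subtype_injective,
      Subgroup.eq_bot_iff_forall]
    intro x hx
    by_contra hx1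
    have hxv : x * v = v * x := L.hyp.ab.comm hsup (le_sup_right (a := Subgroup.zpowers v)
      (b := (Cfsg.pCore 3 K).map K.subtype) hx)
      (le_sup_left (a := Subgroup.zpowers v) (b := (Cfsg.pCore 3 K).map K.subtype)
        (Subgroup.mem_zpowers v))
    have hmemP : ∀ y ∈ (Cfsg.pCore 3 K).map K.subtype, y ∈ (P : Subgroup G) := by
      intro y hy
      obtain ⟨i, hi⟩ := hMp ⟨y, hy⟩
      refine L.mem_P_of_normalizer ((L.main_normalizer.2.1 v hvP hv1) ?_) (j := i)
        (by simpa using congrArg Subtype.val hi)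
      exact Subgroup.mem_centralizer_singleton_iff.2 (L.hyp.ab.comm hsup
        (le_sup_right (a := Subgroup.zpowers v) (b := (Cfsg.pCore 3 K).map K.subtype) hy)
        (le_sup_left (a := Subgroup.zpowers v) (b := (Cfsg.pCore 3 K).map K.subtype)
          (Subgroup.mem_zpowers v)))
    have hu : ∀ y ∈ C, E.ι wQ * y * (E.ι wQ)⁻¹ ∈ C := by
      intro y hy
      obtain ⟨a, ha⟩ := hd
      rw [Subgroup.mem_centralizer_singleton_iff] at hy ⊢
      have hw : E.ι wQ * E.ι d * (E.ι wQ)⁻¹ = (E.ι d)⁻¹ := by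
        rw [← ha, ← map_mul, ← map_inv, ← map_mul, wQ_conj_dQ, map_inv]
      have h2 : E.ι wQ * y * (E.ι wQ)⁻¹ * (E.ι d)⁻¹ = (E.ι d)⁻¹ * (E.ι wQ * y * (E.ι wQ)⁻¹) := by
        rw [← hw]
        calc E.ι wQ * y * (E.ι wQ)⁻¹ * (E.ι wQ * E.ι d * (E.ι wQ)⁻¹)
            = E.ι wQ * (y * E.ι d) * (E.ι wQ)⁻¹ := by group
          _ = _ := by rw [hy]; group
      exact (Commute.inv_right_iff.1 (show Commute (E.ι wQ * y * (E.ι wQ)⁻¹) (E.ι d)⁻¹ from h2)).eq
    have hux := hmemP _ (conj_mem_map_char (hKconj _ hu) _ hx)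
    have := L.main_normalizer.2.2 x (hmemP x hx) hx1 (E.ι wQ)⁻¹ (by rwa [inv_inv])
    exact L.wQ_notMem_normalizer (inv_inv (E.ι wQ) ▸ inv_mem this)
  -- the Fitting subgroup of `K`
  haveI hFn : (Cfsg.fittingSubgroup K).Characteristic := Solvable.fittingSubgroup_characteristic
  haveI := Solvable.fittingSubgroup_isNilpotent (G := K)
  have hFcomm : ∀ a ∈ Cfsg.fittingSubgroup K, ∀ b ∈ Cfsg.fittingSubgroup K, a * b = b * a :=
    fun a ha b hb => congrArg Subtype.val (comm_of_nilpotent ((L.hyp.ab.subgroup K).subgroup _)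
      (⟨a, ha⟩ : Cfsg.fittingSubgroup K) ⟨b, hb⟩)
  set X := (Cfsg.fittingSubgroup K).map K.subtype with hX
  have hXcomm : ∀ a ∈ X, ∀ b ∈ X, a * b = b * a := by
    rintro _ ⟨a, ha, rfl⟩ _ ⟨b, hb, rfl⟩
    rw [← map_mul, ← map_mul, hFcomm a ha b hb]
  have hX3 : ∀ g ∈ X, g ^ 3 = 1 → g = 1 := by
    intro g hg hg3
    let T : Subgroup K :=
      { carrier := {a | a ∈ Cfsg.fittingSubgroup K ∧ a ^ 3 = 1}
        one_mem' := ⟨one_mem _, one_pow 3⟩
        mul_mem' := fun {a b} ha hb => ⟨mul_mem ha.1 hb.1, by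
          rw [(show Commute a b from hFcomm a ha.1 b hb.1).mul_pow, ha.2, hb.2, one_mul]⟩
        inv_mem' := fun {a} ha => ⟨inv_mem ha.1, by rw [inv_pow, ha.2, inv_one]⟩ }
    haveI : T.Normal := ⟨fun a ha b =>
      ⟨(Solvable.fittingSubgroup_normal (G := K)).conj_mem a ha.1 b,
        by rw [conj_pow, ha.2, mul_one, mul_inv_cancel]⟩⟩
    have hT : IsPGroup 3 T := fun a => ⟨1, Subtype.ext (by simpa using a.2.2)⟩
    have hle := Solvable.le_pCore (p := 3) hT
    rw [hcore] at hle
    obtain ⟨a, ha, rfl⟩ := hg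
    have : a ∈ T := ⟨ha, Subtype.ext (by simpa using hg3)⟩
    rw [Subgroup.mem_bot.1 (hle this), map_one]
  have hXpow : ∀ g ∈ X, ∀ i : ℕ, g ^ 3 ^ i = 1 → g = 1 := by
    intro g hg i
    induction i with
    | zero => simp
    | succ i ih =>
      intro h
      refine ih (hX3 _ (pow_mem hg _) ?_)
      rw [← pow_mul, ← pow_succ]; exact h
  have hXK : X ≤ K := Subgroup.map_subtype_le _
  have hXconj : ∀ c : G, (∀ y ∈ C, c * y * c⁻¹ ∈ C) → ∀ g ∈ X, c * g * c⁻¹ ∈ X := fun c hc g hg =>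
    conj_mem_map_char (hKconj c hc) _ hg
  have hvconj : ∀ g ∈ X, v * g * v⁻¹ ∈ X :=
    hXconj v fun y hy => C.mul_mem (C.mul_mem hvC hy) (C.inv_mem hvC)
  have htconj : ∀ g ∈ X, E.t * g * E.t ∈ X := fun g hg => by
    have := hXconj E.t (fun y hy => C.mul_mem (C.mul_mem htC hy) (C.inv_mem htC)) g hg
    rwa [E.t_inv] at this
  -- `v` centralises the fixed points of `t`
  have hfixv : ∀ g ∈ X, g * E.t = E.t * g → v * g = g * v := by
    intro g hg hgt
    obtain ⟨l, rfl, -⟩ := JankoThompson.exists_ι_of_odd L.hyp.jt hgt hKodd (hKord g (hXK hg))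
    have hlD : l ∈ subD (F := F) :=
      hfix l (Subgroup.mem_centralizer_singleton_iff.1 (hKC (hXK hg)))
    have h1 : v * E.ι l * v⁻¹ * (E.ι l)⁻¹ ∈ X := X.mul_mem (hvconj _ hg) (X.inv_mem hg)
    have h2 : v * E.ι l * v⁻¹ * (E.ι l)⁻¹ ∈ (P : Subgroup G) := by
      rw [show v * E.ι l * v⁻¹ * (E.ι l)⁻¹ = v * (E.ι l * v⁻¹ * (E.ι l)⁻¹) by group]
      exact mul_mem hvP ((Subgroup.mem_normalizer_iff.1 (L.torus_mem_normalizer hlD) _).1
        (inv_mem hvP))
    obtain ⟨i, hi⟩ := L.pow_three h2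
    exact mul_inv_eq_iff_eq_mul.1 (mul_inv_eq_one.1 (hXpow _ h1 i hi))
  -- `s = vt` is conjugate to `t` by a power of `v`
  obtain ⟨k, hk⟩ : Odd (3 ^ j) := Odd.pow (by decide)
  set w := v ^ (k + 1) with hw
  have hww : w * w = v := by
    rw [hw, ← pow_add, show k + 1 + (k + 1) = 3 ^ j + 1 by omega, pow_succ, hj, one_mul]
  have hwI : w ∈ L.invPart := pow_mem hv _
  have hws : w * E.t * w⁻¹ = v * E.t := by
    have : E.t * w⁻¹ = w * E.t := by
      have h1 := hwI.2
      calc E.t * w⁻¹ = E.t * (E.t * w * E.t) := by rw [h1]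
        _ = w * E.t := by rw [← mul_assoc, ← mul_assoc, E.sq, one_mul]
    rw [mul_assoc, this, ← mul_assoc, hww]
  set s := v * E.t with hs
  have hss : s * s = 1 := by
    rw [← hws, show w * E.t * w⁻¹ * (w * E.t * w⁻¹) = w * (E.t * E.t) * w⁻¹ by group, E.sq]
    group
  have hfixs : ∀ g ∈ X, g * s = s * g → g * E.t = E.t * g ∧ v * g = g * v := by
    intro g hg hgs
    have hwX : w⁻¹ * g * w ∈ X := by
      have hwC : w ∈ C := pow_mem hvC _
      have := hXconj w⁻¹ (fun y hy => C.mul_mem (C.mul_mem (C.inv_mem hwC) hy)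
        (C.inv_mem (C.inv_mem hwC))) g hg
      rwa [inv_inv] at this
    have h1 : w⁻¹ * g * w * E.t = E.t * (w⁻¹ * g * w) := by
      calc w⁻¹ * g * w * E.t = w⁻¹ * (g * (w * E.t * w⁻¹)) * w := by group
        _ = w⁻¹ * ((w * E.t * w⁻¹) * g) * w := by rw [hws, hgs]
        _ = E.t * (w⁻¹ * g * w) := by group
    have h2 : Commute w (w⁻¹ * g * w) :=
      (show Commute v (w⁻¹ * g * w) from hfixv _ hwX h1).pow_left (k + 1)
    have h3 : w⁻¹ * g * w = g := by
      calc w⁻¹ * g * w = (w * (w⁻¹ * g * w)) * w⁻¹ := by rw [h2.eq]; group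
        _ = g := by group
    rw [h3] at h1
    exact ⟨h1, hfixv g hg h1⟩
  have hall : ∀ g ∈ X, v * g = g * v := by
    intro g hg
    set g' := E.t * g * E.t with hg'
    have hg'X : g' ∈ X := htconj g hg
    have hg'' : E.t * g' * E.t = g := by
      rw [hg', show E.t * (E.t * g * E.t) * E.t = (E.t * E.t) * g * (E.t * E.t) by group, E.sq,
        one_mul, mul_one]
    have hc1 : v * (g * g') = g * g' * v := hfixv _ (X.mul_mem hg hg'X) (by
      calc g * g' * E.t = g * (E.t * g) := by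
            rw [hg', mul_assoc, mul_assoc (E.t * g), E.sq, mul_one]
        _ = E.t * (g' * g) := by rw [hg', ← mul_assoc g E.t g]; group
                                 simp [E.sq, mul_assoc]
        _ = E.t * (g * g') := by rw [hXcomm g' hg'X g hg])
    set e := v * g' * v⁻¹ with he
    have heX : e ∈ X := hvconj _ hg'X
    have hse : s * g * s⁻¹ = e := by
      rw [hs, he, hg', _root_.mul_inv_rev, E.t_inv]; group
    have hc2 : v * (g * e) = g * e * v := (hfixs _ (X.mul_mem hg heX) (by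
      have hsi : s⁻¹ = s := inv_eq_of_mul_eq_one_right hss
      have hse' : s * e * s⁻¹ = g := by
        rw [← hse, hsi, show s * (s * g * s) * s = (s * s) * g * (s * s) by group, hss, one_mul,
          mul_one]
      refine (mul_inv_eq_iff_eq_mul.1 ?_).symm
      rw [show s * (g * e) * s⁻¹ = (s * g * s⁻¹) * (s * e * s⁻¹) by group, hse, hse',
        hXcomm e heX g hg])).2
    set z := g * (v * g⁻¹ * v⁻¹) with hz
    have hzX : z ∈ X := X.mul_mem hg (hvconj _ (X.inv_mem hg))
    have hvz : Commute v z := by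
      have h1 : z * (g * g') = g * e := by
        have : z * (g * g') = g * (v * g⁻¹ * (v⁻¹ * (g * g'))) := by rw [hz]; group
        rw [this, show v⁻¹ * (g * g') = g * g' * v⁻¹ from
          ((show Commute v (g * g') from hc1).inv_left).eq, he]
        group
      have h2 : z = g * e * (g * g')⁻¹ := eq_mul_inv_of_mul_eq h1
      rw [h2]
      exact (show Commute v (g * e) from hc2).mul_right
        (show Commute v (g * g') from hc1).inv_right
    have hvg : v * g * v⁻¹ = z⁻¹ * g := by rw [hz]; group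
    have hiter : ∀ i : ℕ, v ^ i * g * (v ^ i)⁻¹ = z⁻¹ ^ i * g := by
      intro i
      induction i with
      | zero => simp
      | succ i ih =>
        rw [pow_succ' v i, show v * v ^ i * g * (v * v ^ i)⁻¹ = v * (v ^ i * g * (v ^ i)⁻¹) * v⁻¹ by
          group, ih, show v * (z⁻¹ ^ i * g) * v⁻¹ = (v * z⁻¹ ^ i * v⁻¹) * (v * g * v⁻¹) by group,
          hvg, ((hvz.inv_right).pow_right i).eq, mul_inv_cancel_right, ← mul_assoc, ← pow_succ]
    have h1 := hiter (3 ^ j)
    rw [hj, one_mul, inv_one, mul_one, eq_comm, mul_eq_right, inv_pow, inv_eq_one] at h1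
    have hz1 := hXpow z hzX j h1
    rw [hz1, inv_one, one_mul] at hvg
    exact mul_inv_eq_iff_eq_mul.1 hvg
  -- so `v` lies in the Fitting subgroup
  have hvF : (⟨v, hvK⟩ : K) ∈ Cfsg.fittingSubgroup K :=
    Solvable.centralizer_fittingSubgroup_le (Subgroup.mem_centralizer_iff.2 fun a ha =>
      Subtype.ext (hall a.1 ⟨a, ha, rfl⟩).symm)
  exact hv1 (hXpow v ⟨_, hvF, rfl⟩ j hj)

/-- `A₀` acts semiregularly on `I#`. -/
theorem semiregular {a : G} (ha : a ∈ torusA E) (ha1 : a ≠ 1) {v : G} (hv : v ∈ L.invPart)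
    (hv1 : v ≠ 1) : a * v ≠ v * a := by
  intro h
  obtain ⟨d, hd, e⟩ := mem_torusA ha
  by_cases hd1 : d = 1
  · rw [hd1, map_one, mul_one] at e
    rcases e with e | e
    · exact ha1 e
    · subst e
      refine hv1 (L.eq_one_of_sq hv.1 ?_)
      have h2 := hv.2
      rw [h, mul_assoc, E.sq, mul_one] at h2
      calc v * v = v⁻¹ * v := by rw [← h2]
        _ = 1 := inv_mul_cancel v
  have hd2 : d * d ≠ 1 := by
    intro h2
    have h1 := natCard_subD (F := F) L.hyp.two_ne
    have := L.hyp.q_facts.1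
    obtain ⟨k, hk⟩ : Odd (Nat.card (subD (F := F))) := by rw [Nat.odd_iff]; omega
    have h3 : (⟨d, hd⟩ : subD (F := F)) ^ (2 * k + 1) = 1 := hk ▸ pow_card_eq_one'
    rw [pow_succ, pow_mul, pow_two, show (⟨d, hd⟩ : subD (F := F)) * ⟨d, hd⟩ = 1 from
      Subtype.ext h2, one_pow, one_mul] at h3
    exact hd1 (congrArg Subtype.val h3)
  refine L.torus_fixed_point_free (mul_mem hd hd) hd2 hv hv1 ?_
  have haa : a * a = E.ι (d * d) := by
    rcases e with rfl | rfl
    · rw [map_mul]
    · rw [map_mul, show E.t * E.ι d * (E.t * E.ι d) = E.t * (E.ι d * E.t) * E.ι d by group,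
        ← E.comm d, ← mul_assoc E.t E.t, E.sq, one_mul]
  rw [← haa]
  exact ((show Commute a v from h).mul_left (show Commute a v from h)).eq

/-- An element of `I#` has centraliser `P`. -/
theorem cent_invPart {v : G} (hv : v ∈ L.invPart) (hv1 : v ≠ 1) :
    Subgroup.centralizer ({v} : Set G) = (P : Subgroup G) := by
  refine le_antisymm (fun x hx => ?_) (L.le_cent hv.1)
  obtain ⟨p, hp, a, ha, rfl⟩ := L.exists_PA (L.main_normalizer.2.1 v hv.1 hv1 hx)
  by_cases ha1 : a = 1
  · rw [ha1, mul_one]; exact hp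
  refine absurd ?_ (L.semiregular ha ha1 hv hv1)
  have h := Subgroup.mem_centralizer_singleton_iff.1 hx
  rw [mul_assoc, ← mul_assoc v p, L.comm hv.1 hp, mul_assoc p v] at h
  exact mul_left_cancel h

end Loc

end CfsgLib.WalterCons
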