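import Cfsg.Agent.WalterCons.ReeTwoTransitive
import Cfsg.Agent.WalterCons.InducedTwo
import Mathlib

/-!
# Groups of Ree order: the columns `vZ τ`, `τ ≠ 1`, consist of induced characters

Both characters of `vZ τ` are induced from linear characters of `H = P (⟨t⟩ × ι(D))`, so they
vanish at the elements without a conjugate in `H`.
-/

set_option autoImplicit false
set_option linter.unusedSectionVars false
set_option linter.style.haveILetI false
set_option maxHeartbeats 1000000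

namespace CfsgLib.WalterCons

open Matrix CfsgLib.ReeTypeS3
open scoped MatrixGroups

universe u v

variable {G : Type u} [Group G] [Fintype G] {F : Type v} [Field F] [Fintype F]

local notation "PST" => Matrix.ProjectiveSpecialLinearGroup (Fin 2) F
local notation "qI" => (Fintype.card F : ℤ)

noncomputable local instance (priority := high) instFintypePSTReeTorus :
    Fintype (Matrix.ProjectiveSpecialLinearGroup (Fin 2) F) := Fintype.ofFinite _

noncomputable local instance (priority := high) instFintypeSubReeTorus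
    (H : Subgroup (Matrix.ProjectiveSpecialLinearGroup (Fin 2) F)) : Fintype H := Fintype.ofFinite _

variable {E : Emb G (Matrix.ProjectiveSpecialLinearGroup (Fin 2) F)}

theorem sum_colFun_lin (v : Cfsg.IrrCharacter G → ℤ) (K : Subgroup PST) (κ : K →* ℂˣ) :
    ∑ h : K, colFun v (E.t * E.ι (h : PST)) * (((κ h)⁻¹ : ℂˣ) : ℂ) =
      (Nat.card K : ℂ) * (dotp v (Pz E K κ) : ℂ) := by
  rw [dotp, Int.cast_sum, Finset.mul_sum]
  simp only [colFun, Finset.sum_mul]
  rw [Finset.sum_comm]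
  refine Finset.sum_congr rfl fun χ _ => ?_
  rw [Int.cast_mul, cast_Pz, P, avg, Nat.card_eq_fintype_card, ← mul_assoc, ← mul_assoc,
    mul_comm (Fintype.card K : ℂ) (v χ : ℂ), mul_assoc (v χ : ℂ),
    mul_inv_cancel₀ (Nat.cast_ne_zero.2 Fintype.card_ne_zero), mul_one, Finset.mul_sum]
  refine Finset.sum_congr rfl fun h _ => ?_
  simp [mul_assoc]

theorem torElt_mul (b b' : Bool) (d d' : PST) :
    torElt E b d * torElt E b' d' = torElt E (xor b b') (d * d') := by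
  cases b <;> cases b' <;> simp only [torElt, cond_true, cond_false, Bool.xor_false, Bool.false_xor,
    Bool.xor_true, Bool.not_false, Bool.not_true, map_mul]
  · rw [← mul_assoc, ← E.comm, mul_assoc]
  · rw [mul_assoc]
  · rw [mul_assoc, ← mul_assoc (E.ι d), ← E.comm, mul_assoc E.t (E.ι d), ← mul_assoc, E.sq, one_mul]

namespace RHyp

variable (hyp : RHyp E)
include hyp

/-- The sums of `vZ τ` on the section of `t`. -/
theorem vZ_sums {D : JankoThompson.Dat E} {τ : tor D.g₁ →* ℂˣ} (hτ : τ ≠ 1) :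
    colFun (D.vZ τ) E.t = 2 * (Fintype.card F : ℂ) + 2 ∧
    ∑ h : subQ (F := F), colFun (D.vZ τ) (E.t * E.ι (h : PST)) = 4 * (Fintype.card F : ℂ) ∧
    ∑ h : tor D.g₁, colFun (D.vZ τ) (E.t * E.ι (h : PST)) * (((τ h)⁻¹ : ℂˣ) : ℂ) =
      6 * (Nat.card (tor D.g₁) : ℂ) := by
  classical
  obtain ⟨hsg, hu, hr⟩ := hyp.sg_eq
  have hj := hyp.jt
  obtain ⟨h8, h27, -⟩ := hyp.q_facts
  have h2u : 2 * (JankoThompson.uOf F : ℤ) = qI - 1 := by
    have := natCard_subD (F := F) hyp.two_ne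
    rw [hu]; omega
  have hr' : 4 * (JankoThompson.rOf F : ℤ) = qI + 1 := by exact_mod_cast hr
  have hexp : ∀ (K : Subgroup PST) (β : K →* ℂˣ), dotp (D.vZ τ) (Pz E K β) =
      dotp (Pz E (tor D.g₁) τ) (Pz E K β) - dotp D.vN (Pz E K β) := by
    intro K β
    unfold JankoThompson.Dat.vZ
    simp only [dotp_smul, dotp_sub]
    rw [hsg]; ring
  refine ⟨?_, ?_, ?_⟩
  · have hbot : Odd (Nat.card (⊥ : Subgroup PST)) := by rw [Subgroup.card_bot]; exact odd_one
    have hc : ∀ (H : Subgroup PST) (α : H →* ℂˣ), Odd (Nat.card H) → ∀ z : ℤ,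
        2 * (Nat.card PST : ℤ) = (Nat.card H : ℤ) * z →
        dotp (Pz E H α) (Pz E (⊥ : Subgroup PST) 1) = z := by
      intro H α hH z hz
      refine JankoThompson.Dat.dot_of_gsum' hj _ _ _ _ hH hbot _ ?_
      rw [gsum_coprime _ _ _ _ (by rw [Subgroup.card_bot]; exact Nat.coprime_one_right _),
        Subgroup.card_bot, Nat.cast_one, mul_one, ← Nat.card_eq_fintype_card]
      exact_mod_cast hz
    have hL : (Nat.card PST : ℤ) =
        4 * qI * (JankoThompson.rOf F : ℤ) * (JankoThompson.uOf F : ℤ) := by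
      exact_mod_cast JankoThompson.natCard_L hj.mod8
    have hQ : ∀ e : F, dotp (Pz E (subQ (F := F)) (lam e)) (Pz E (⊥ : Subgroup PST) 1) =
        8 * (JankoThompson.rOf F : ℤ) * (JankoThompson.uOf F : ℤ) := fun e =>
      hc _ _ (JankoThompson.Dat.odd_subQ' hj) _ (by
        rw [natCard_subQ, Nat.card_eq_fintype_card (α := F), hL]; ring)
    have hT : dotp (Pz E (tor D.g₁) τ) (Pz E (⊥ : Subgroup PST) 1) =
        8 * qI * (JankoThompson.rOf F : ℤ) :=
      hc _ _ (D.odd_g₁ hj) _ (by rw [D.card₁, hL]; ring)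
    have h := sum_colFun (E := E) (D.vZ τ) (⊥ : Subgroup PST)
    rw [Fintype.sum_eq_single (1 : (⊥ : Subgroup PST)) (fun h hh => absurd (Subsingleton.elim h 1) hh),
      Subgroup.card_bot, Nat.cast_one, one_mul, OneMemClass.coe_one, map_one, mul_one] at h
    rw [h, hexp, hT, show dotp D.vN (Pz E (⊥ : Subgroup PST) 1) =
        16 * (JankoThompson.rOf F : ℤ) * (JankoThompson.uOf F : ℤ) by
      unfold JankoThompson.Dat.vN
      simp only [dotp_add, hQ]; ring]
    have e : 8 * qI * (JankoThompson.rOf F : ℤ) -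
        16 * (JankoThompson.rOf F : ℤ) * (JankoThompson.uOf F : ℤ) = 2 * qI + 2 := by
      linear_combination (-8 * (JankoThompson.rOf F : ℤ)) * h2u + 2 * hr'
    rw [e]
    push_cast
    ring
  · have hcross : ∀ e : F, e ≠ 0 →
        dotp (Pz E (subQ (F := F)) (lam e)) (Pz E (subQ (F := F)) (lam 0)) = qI - 1 := by
      intro e he
      refine JankoThompson.Dat.dot_of_gsum' hj _ _ _ _ (JankoThompson.Dat.odd_subQ' hj)
        (JankoThompson.Dat.odd_subQ' hj) _ ?_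
      rw [JankoThompson.Dat.gsum_subQ' hj he (fun a ha => absurd (ha ▸ (zero_mul (a * a))) he),
        if_neg he, natCard_subQ, Nat.card_eq_fintype_card]
      push_cast
      ring
    rw [sum_colFun, ← lam_zero, hexp,
      show dotp (Pz E (tor D.g₁) τ) (Pz E (subQ (F := F)) (lam 0)) =
          8 * (JankoThompson.rOf F : ℤ) by rw [dotp_comm, D.dot_QK hj],
      show dotp D.vN (Pz E (subQ (F := F)) (lam 0)) = 2 * qI - 2 by
        unfold JankoThompson.Dat.vN
        simp only [dotp_add, hcross 1 one_ne_zero, hcross D.ns D.ns_ne_zero]; ring,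
      show 8 * (JankoThompson.rOf F : ℤ) - (2 * qI - 2) = 4 by linear_combination 2 * hr',
      natCard_subQ, Nat.card_eq_fintype_card]
    push_cast
    ring
  · rw [sum_colFun_lin, hexp, D.dot_KK hj, D.dot_NK hj,
      JankoThompson.dlt_self_odd (D.odd_g₁ hj) hτ, hsg,
      show 4 * (qI - 2 * (-1)) + 2 * 1 - 16 * (JankoThompson.rOf F : ℤ) = 6 by
        linear_combination (-4) * hr']
    push_cast
    ring

section Twist

variable {P : Sylow 3 G} (hQP : subQG E ≤ (P : Subgroup G))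
  (hAP : torusA E ≤ Subgroup.normalizer ((P : Subgroup G) : Set G))
  {D : JankoThompson.Dat E} (hD : tor D.g₁ = subD (F := F)) (τ : tor D.g₁ →* ℂˣ)
  {ε : ℂˣ} (hε : ε * ε = 1)

/-- Coordinates on `P (⟨t⟩ × ι(D))`. -/
noncomputable def coord : ((P : Subgroup G) ⊔ torusA E : Subgroup G) ≃
    ↥(P : Subgroup G) × Bool × subD (F := F) :=
  (Equiv.ofBijective _ (hyp.bijective_param hQP hAP)).symm

theorem coord_spec (h : ((P : Subgroup G) ⊔ torusA E : Subgroup G)) :
    (h : G) = ((hyp.coord hQP hAP h).1 : G) *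
      torElt E (hyp.coord hQP hAP h).2.1 ((hyp.coord hQP hAP h).2.2 : PST) :=
  (congrArg Subtype.val ((Equiv.ofBijective _ (hyp.bijective_param hQP hAP)).apply_symm_apply h)).symm

theorem coord_mul (h h' : ((P : Subgroup G) ⊔ torusA E : Subgroup G)) :
    (hyp.coord hQP hAP (h * h')).2 = (xor (hyp.coord hQP hAP h).2.1 (hyp.coord hQP hAP h').2.1,
      (hyp.coord hQP hAP h).2.2 * (hyp.coord hQP hAP h').2.2) := by
  have e1 := hyp.coord_spec hQP hAP h
  have e2 := hyp.coord_spec hQP hAP h'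
  set c := hyp.coord hQP hAP h
  set c' := hyp.coord hQP hAP h'
  have hn : torElt E c.2.1 (c.2.2 : PST) ∈ Subgroup.normalizer ((P : Subgroup G) : Set G) :=
    hAP (mem_torusA_iff.2 ⟨_, _, c.2.2.2, rfl⟩)
  let p'' : (P : Subgroup G) :=
    ⟨(c.1 : G) * (torElt E c.2.1 (c.2.2 : PST) * c'.1 * (torElt E c.2.1 (c.2.2 : PST))⁻¹),
      mul_mem c.1.2 ((Subgroup.mem_normalizer_iff.1 hn _).1 c'.1.2)⟩
  have : hyp.coord hQP hAP (h * h') = (p'', xor c.2.1 c'.2.1, c.2.2 * c'.2.2) := by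
    refine (Equiv.symm_apply_eq _).2 (Subtype.ext ?_)
    show ((h : G) * h') = (p'' : G) * torElt E (xor c.2.1 c'.2.1) ((c.2.2 : PST) * c'.2.2)
    rw [e1, e2, ← torElt_mul]
    simp only [p'']
    group
  rw [this]

/-- The linear character `ε^b τ(d)`. -/
noncomputable def linH : ((P : Subgroup G) ⊔ torusA E : Subgroup G) →* ℂˣ :=
  MonoidHom.mk' (fun h => cond (hyp.coord hQP hAP h).2.1 ε 1 *
      τ ⟨((hyp.coord hQP hAP h).2.2 : PST), hD.symm ▸ (hyp.coord hQP hAP h).2.2.2⟩) fun h h' => by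
    have e := hyp.coord_mul hQP hAP h h'
    simp only [e]
    rw [mul_mul_mul_comm, ← map_mul]
    congr 1
    cases (hyp.coord hQP hAP h).2.1 <;> cases (hyp.coord hQP hAP h').2.1 <;> simp [hε]

theorem linH_param (p : (P : Subgroup G)) (b : Bool) (d : subD (F := F))
    (h : (p : G) * torElt E b (d : PST) ∈ (P : Subgroup G) ⊔ torusA E) :
    hyp.linH hQP hAP hD τ hε ⟨_, h⟩ = cond b ε 1 * τ ⟨(d : PST), hD.symm ▸ d.2⟩ := by
  have e : hyp.coord hQP hAP ⟨_, h⟩ = (p, b, d) := (Equiv.symm_apply_eq _).2 (Subtype.ext rfl)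
  show cond (hyp.coord hQP hAP ⟨_, h⟩).2.1 ε 1 * τ _ = _
  simp only [e]

/-- The twisted sum over `H`. -/
theorem sum_twist (hτ : τ ≠ 1) [Fintype ((P : Subgroup G) ⊔ torusA E : Subgroup G)] :
    ∑ h : ((P : Subgroup G) ⊔ torusA E : Subgroup G),
        colFun (D.vZ τ) (h : G) * (((hyp.linH hQP hAP hD τ hε h)⁻¹ : ℂˣ) : ℂ) =
      (Nat.card ((P : Subgroup G) ⊔ torusA E : Subgroup G) : ℂ) * ((ε⁻¹ : ℂˣ) : ℂ) := by
  classical
  haveI := Fintype.ofFinite (P : Subgroup G)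
  obtain ⟨ht, hQ, hTτ⟩ := hyp.vZ_sums hτ
  obtain ⟨h8, h27, -⟩ := hyp.q_facts
  have hu2 := natCard_subD (F := F) hyp.two_ne
  set v := D.vZ τ with hv
  have hodd : ∀ g : G, Odd (orderOf g) → colFun v g = 0 := fun g hg => by
    rw [colFun, ← D.col_vZ τ g hg]
    exact Finset.sum_congr rfl fun χ _ => mul_comm _ _
  set T : subD (F := F) → ℂˣ := fun d => τ ⟨(d : PST), hD.symm ▸ d.2⟩ with hT
  have hD6 : ∑ d : subD (F := F), colFun v (E.t * E.ι (d : PST)) * (((T d)⁻¹ : ℂˣ) : ℂ) =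
      6 * (Nat.card (subD (F := F)) : ℂ) := by
    have key : ∀ (K : Subgroup PST) (hK : K = tor D.g₁),
        ∑ h : K, colFun v (E.t * E.ι (h : PST)) *
          (((τ ⟨(h : PST), hK ▸ h.2⟩)⁻¹ : ℂˣ) : ℂ) = 6 * (Nat.card K : ℂ) := by
      rintro K rfl
      exact hTτ
    exact key _ hD.symm
  rw [← Fintype.sum_bijective _ (hyp.bijective_param hQP hAP)
      (fun z => colFun v ((z.1 : G) * torElt E z.2.1 (z.2.2 : PST)) *
        (((cond z.2.1 ε 1 * T z.2.2)⁻¹ : ℂˣ) : ℂ)) _ (fun z => by rw [hyp.linH_param]),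
    Fintype.sum_prod_type, Finset.sum_comm, Fintype.sum_prod_type, Fintype.sum_bool]
  simp only [cond_true, cond_false, torElt]
  rw [Finset.sum_eq_zero (s := (Finset.univ : Finset (subD (F := F)))) (f := fun d =>
      ∑ p : (P : Subgroup G), colFun v ((p : G) * E.ι (d : PST)) *
        (((1 * T d)⁻¹ : ℂˣ) : ℂ)) fun d _ => Finset.sum_eq_zero fun p _ => by
      rw [hodd _ (hyp.odd_mul_ι hQP p.2 d.2 (hAP (mem_torusA_iff.2 ⟨false, _, d.2, rfl⟩))), zero_mul],
    add_zero]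
  have hrow : ∀ d : subD (F := F),
      ∑ p : (P : Subgroup G), colFun v ((p : G) * (E.t * E.ι (d : PST))) *
        (((ε * T d)⁻¹ : ℂˣ) : ℂ) =
      ((ε⁻¹ : ℂˣ) : ℂ) * ((∑ p : (P : Subgroup G), colFun v ((p : G) * (E.t * E.ι (d : PST)))) *
        (((T d)⁻¹ : ℂˣ) : ℂ)) := fun d => by
    rw [Finset.sum_mul, Finset.mul_sum]
    refine Finset.sum_congr rfl fun p _ => ?_
    rw [mul_inv, Units.val_mul]
    ring
  rw [Finset.sum_congr rfl fun d _ => hrow d, ← Finset.mul_sum, mul_comm (Nat.card _ : ℂ)]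
  congr 1
  have hT1 : T 1 = 1 := map_one τ
  rw [← Finset.add_sum_erase _ _ (Finset.mem_univ (1 : subD (F := F))),
    Finset.sum_congr rfl (g := fun d : subD (F := F) => (Nat.card (P : Subgroup G) : ℂ) *
      (colFun v (E.t * E.ι (d : PST)) * (((T d)⁻¹ : ℂˣ) : ℂ))) fun d hd => by
      rw [hyp.sum_coset hQP hAP d.2
        (fun e => (Finset.mem_erase.1 hd).1 (Subtype.ext (e.trans rfl))) v, mul_assoc],
    ← Finset.mul_sum, Finset.sum_erase_eq_sub (Finset.mem_univ _), hD6]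
  simp only [OneMemClass.coe_one, map_one, mul_one, hT1, inv_one, Units.val_one]
  have h1 := hyp.sum_coset_t hQP hAP v
  rw [hQ, ← mul_assoc, mul_comm (Nat.card (P : Subgroup G) : ℂ) 4, mul_comm _ (Fintype.card F : ℂ)]
    at h1
  rw [ht, mul_left_cancel₀ (Nat.cast_ne_zero.2 (by omega)) h1, hyp.natCard_sup hQP hAP,
    ← hyp.natCard_sylow P, ← hu2]
  have hu' : (Fintype.card F : ℂ) = 2 * (Nat.card (subD (F := F)) : ℂ) + 1 := by
    have h' : Fintype.card F = 2 * Nat.card (subD (F := F)) + 1 := by omega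
    exact_mod_cast h'
  rw [hu']
  push_cast
  ring

include hQP hAP in
/-- `ι(w)` lies outside `H`. -/
theorem wQ_not_mem : E.ι wQ ∉ (P : Subgroup G) ⊔ torusA E := by
  intro h
  obtain ⟨⟨p, b, d⟩, e⟩ := (hyp.bijective_param hQP hAP).2 ⟨_, h⟩
  have e' : (p : G) * torElt E b (d : PST) = E.ι wQ := congrArg Subtype.val e
  have hp : (p : G) = E.ι wQ * (torElt E b (d : PST))⁻¹ := eq_mul_inv_of_mul_eq e'
  have hpt : (p : G) * E.t = E.t * p := by
    rw [hp]
    exact ((show Commute E.t (E.ι wQ) from E.comm wQ).mul_right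
      (show Commute E.t (torElt E b (d : PST)) from
        (torusA_comm_t (mem_torusA_iff.2 ⟨b, _, d.2, rfl⟩)).symm).inv_right).symm.eq
  obtain ⟨a, ha, hae⟩ := hyp.fix_le P.2 hQP p.2 hpt
  rw [← hae] at e'
  obtain ⟨c, hc⟩ := d.2
  obtain ⟨x, rfl⟩ := ha
  cases b
  · simp only [torElt, cond_false, ← map_mul] at e'
    obtain ⟨g₁, hg₁, hc₁⟩ := inB_uQ (F := F) x
    obtain ⟨g₂, hg₂, hc₂⟩ := inB_dQ (F := F) c
    refine wQ_not_inB ⟨g₁ * g₂, ?_, ?_⟩
    · rw [← E.inj e', ← hc, ← hg₁, ← hg₂]; exact QuotientGroup.mk_mul _ _ _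
    · rw [Matrix.SpecialLinearGroup.coe_mul]
      simp [Matrix.mul_apply, Fin.sum_univ_two, hc₁, hc₂]
  · simp only [torElt, cond_true] at e'
    rw [← mul_assoc, ← E.comm, mul_assoc, ← map_mul] at e'
    exact E.ι_eq_t_mul_iff e'.symm

end Twist

/-- The characters of `vZ τ`, `τ ≠ 1`, vanish off the conjugates of `H`. -/
theorem eq_zero_of_vZ {P : Sylow 3 G} (hQP : subQG E ≤ (P : Subgroup G))
    (hAP : torusA E ≤ Subgroup.normalizer ((P : Subgroup G) : Set G))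
    {D : JankoThompson.Dat E} (hD : tor D.g₁ = subD (F := F))
    {τ : tor D.g₁ →* ℂˣ} (hτ : τ ≠ 1) {χ : Cfsg.IrrCharacter G} (hχ : D.vZ τ χ ≠ 0) {g : G}
    (hg : ∀ x : G, x * g * x⁻¹ ∉ (P : Subgroup G) ⊔ torusA E) : (χ : G → ℂ) g = 0 := by
  classical
  set H := (P : Subgroup G) ⊔ torusA E with hH
  haveI := Fintype.ofFinite H
  have h2 := hyp.two_pretransitive_sup hQP hAP
  have hw := hyp.wQ_not_mem hQP hAP
  have htwo : ∀ x : G, x ∉ H → ∃ a b : H, x = (a : G) * E.ι wQ * (b : G) := by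
    intro x hx
    have hne : ∀ z : G, z ∉ H → ((z : G) : G ⧸ H) ≠ ((1 : G) : G ⧸ H) := fun z hz e => by
      rw [QuotientGroup.eq, mul_one] at e
      exact hz (inv_mem_iff.1 e)
    obtain ⟨k, hk1, hk2⟩ := (MulAction.is_two_pretransitive_iff.1 h2) (hne _ hw).symm (hne _ hx).symm
    rw [MulAction.Quotient.smul_mk, smul_eq_mul, mul_one, QuotientGroup.eq, mul_one] at hk1
    rw [MulAction.Quotient.smul_mk, smul_eq_mul, QuotientGroup.eq] at hk2
    refine ⟨⟨k, inv_mem_iff.1 hk1⟩, ⟨_, hk2⟩, ?_⟩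
    show x = k * E.ι wQ * ((k * E.ι wQ)⁻¹ * x)
    rw [mul_inv_cancel_left]
  obtain ⟨d, hd⟩ : ∃ d : subD (F := F), τ ⟨(d : PST), hD.symm ▸ d.2⟩ ≠ 1 := by
    by_contra hno
    push Not at hno
    exact hτ (MonoidHom.ext fun x => hno ⟨x, hD ▸ x.2⟩)
  have hu := hyp.u_facts.1
  have hdmem : ∀ e : subD (F := F), E.ι (e : PST) ∈ H := fun e =>
    Subgroup.mem_sup_right (mem_torusA_iff.2 ⟨false, _, e.2, rfl⟩)
  have hconj : E.ι wQ * E.ι (d : PST) * (E.ι wQ)⁻¹ = E.ι ((d⁻¹ : subD (F := F)) : PST) := by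
    obtain ⟨a, ha⟩ := d.2
    rw [← map_inv, ← map_mul, ← map_mul, ← ha, wQ_conj_dQ, Subgroup.coe_inv, ← ha]
  have key : ∀ (ε : ℂˣ) (hε : ε * ε = 1), ∃ χ' : Cfsg.IrrCharacter G,
      0 < (D.vZ τ χ' : ℝ) * ((ε⁻¹ : ℂˣ) : ℂ).re ∧ (χ' : G → ℂ) g = 0 := by
    intro ε hε
    set l := hyp.linH hQP hAP hD τ hε with hl
    have hlin : ∀ e : subD (F := F), l ⟨E.ι (e : PST), hdmem e⟩ = τ ⟨(e : PST), hD.symm ▸ e.2⟩ := by
      intro e
      have h' : ((1 : (P : Subgroup G)) : G) * torElt E false (e : PST) ∈ H := by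
        rw [OneMemClass.coe_one, one_mul]; exact hdmem e
      have := hyp.linH_param hQP hAP hD τ hε 1 false e h'
      simp only [cond_false, one_mul, OneMemClass.coe_one] at this
      exact this
    have hwd : E.ι wQ * ((⟨_, hdmem d⟩ : H) : G) * (E.ι wQ)⁻¹ ∈ H := by
      show E.ι wQ * E.ι (d : PST) * (E.ι wQ)⁻¹ ∈ H
      rw [hconj]; exact hdmem _
    have hne : l ⟨_, hwd⟩ ≠ l ⟨_, hdmem d⟩ := by
      rw [show (⟨_, hwd⟩ : H) = ⟨_, hdmem d⁻¹⟩ from Subtype.ext hconj, hlin, hlin]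
      intro e
      apply hd
      set z := τ ⟨(d : PST), hD.symm ▸ d.2⟩ with hz
      have h2 : z * z = 1 := by
        have h3 : τ ⟨((d⁻¹ : subD (F := F)) : PST), hD.symm ▸ (d⁻¹).2⟩ = z⁻¹ := by
          rw [hz, ← map_inv]; rfl
        rw [h3, inv_eq_iff_mul_eq_one] at e
        exact e
      have hodd : z ^ Nat.card (subD (F := F)) = 1 := by
        rw [hz, ← map_pow]
        have e1 : (⟨(d : PST), hD.symm ▸ d.2⟩ : tor D.g₁) ^ Nat.card (subD (F := F)) = 1 :=
          Subtype.ext (orderOf_dvd_iff_pow_eq_one.1 (Subgroup.orderOf_dvd_natCard _ d.2))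
        rw [e1, map_one]
      obtain ⟨j, hj⟩ := hu
      rw [hj, pow_succ, pow_mul, pow_two, h2, one_pow, one_mul] at hodd
      exact hodd
    obtain ⟨m, hm⟩ := exists_lin_mult l
    have hsum : ∑ χ : Cfsg.IrrCharacter G, (D.vZ τ χ : ℂ) * (m χ : ℂ) = ((ε⁻¹ : ℂˣ) : ℂ) := by
      refine mul_left_cancel₀ (Nat.cast_ne_zero.2 (Nat.card_pos (α := H)).ne') ?_
      rw [Finset.mul_sum, ← hyp.sum_twist hQP hAP hD τ hε hτ]
      simp only [colFun, Finset.sum_mul]
      rw [Finset.sum_comm]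
      refine Finset.sum_congr rfl fun χ _ => ?_
      rw [← hl]
      simp only [mul_assoc, ← Finset.mul_sum, hm χ]
      ring
    have hre : ∑ χ : Cfsg.IrrCharacter G, (D.vZ τ χ : ℝ) * (m χ : ℝ) = ((ε⁻¹ : ℂˣ) : ℂ).re := by
      rw [← hsum, Complex.re_sum]
      exact Finset.sum_congr rfl fun χ _ => by simp
    have hsq : ((ε⁻¹ : ℂˣ) : ℂ).re ^ 2 = 1 := by
      have h1 : ((ε⁻¹ : ℂˣ) : ℂ) * ((ε⁻¹ : ℂˣ) : ℂ) = 1 := by
        rw [← Units.val_mul, ← mul_inv, hε, inv_one, Units.val_one]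
      rcases mul_self_eq_one_iff.1 h1 with e | e <;> rw [e] <;> simp
    obtain ⟨χ', -, hχ'⟩ : ∃ χ' ∈ (Finset.univ : Finset (Cfsg.IrrCharacter G)),
        0 < (D.vZ τ χ' : ℝ) * (m χ' : ℝ) * ((ε⁻¹ : ℂˣ) : ℂ).re := by
      refine Finset.exists_lt_of_sum_lt (f := fun _ => (0 : ℝ)) ?_
      rw [Finset.sum_const_zero, ← Finset.sum_mul, hre, ← pow_two, hsq]
      exact one_pos
    have hm0 : (0 : ℝ) < (m χ' : ℝ) := by
      rcases Nat.eq_zero_or_pos (m χ') with h | h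
      · rw [h, Nat.cast_zero, mul_zero, zero_mul] at hχ'; exact absurd hχ' (lt_irrefl _)
      · exact_mod_cast h
    refine ⟨χ', pos_of_mul_pos_left (by rwa [mul_right_comm] at hχ') hm0.le, ?_⟩
    refine eq_zero_of_two_cosets l (d := ⟨_, hdmem d⟩) hwd hne htwo ?_ hg
    rw [hm χ']
    exact mul_ne_zero (Nat.cast_ne_zero.2 Nat.card_pos.ne') (by exact_mod_cast hm0.ne')
  obtain ⟨Y, Y', hYne, hY, hY', -, hz⟩ := JankoThompson.exists_pair ReeTypeS3.deg_pos
    (by rw [D.dot_ZZ hyp.jt, JankoThompson.dlt_self_odd (D.odd_g₁ hyp.jt) hτ, mul_one])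
    (D.col_vZ τ).deg_orth
  obtain ⟨χp, hp, hp0⟩ := key 1 (one_mul 1)
  obtain ⟨χn, hn, hn0⟩ := key (-1) (by simp)
  have e1 : χp = Y := by
    by_contra h
    by_cases h' : χp = Y'
    · rw [h', hY'] at hp; norm_num at hp
    · rw [hz χp h h', Int.cast_zero, zero_mul] at hp; exact lt_irrefl _ hp
  have e2 : χn = Y' := by
    by_contra h
    by_cases h' : χn = Y
    · rw [h', hY] at hn; norm_num at hn
    · rw [hz χn h' h, Int.cast_zero, zero_mul] at hn; exact lt_irrefl _ hn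
  by_cases h : χ = Y
  · rw [h, ← e1]; exact hp0
  by_cases h' : χ = Y'
  · rw [h', ← e2]; exact hn0
  exact absurd (hz χ h h') hχ

end RHyp

end CfsgLib.WalterCons
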