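import Cfsg.Agent.WalterCons.ReeSection
import Cfsg.Agent.WalterCons.PermTwo
import Mathlib

/-!
# Groups of Ree order act doubly transitively on `q³ + 1` points
-/

set_option autoImplicit false
set_option linter.unusedSectionVars false
set_option linter.style.haveILetI false
set_option maxHeartbeats 1000000

namespace CfsgLib.WalterCons

open Matrix CfsgLib.ReeTypeS3
open scoped MatrixGroups

universe u v

variable {G : Type u} [Group G] [Fintype G] {F : Type v} [Field F] [Fintype F]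

local notation "PST" => Matrix.ProjectiveSpecialLinearGroup (Fin 2) F

noncomputable local instance (priority := high) instFintypePSTReeTwo :
    Fintype (Matrix.ProjectiveSpecialLinearGroup (Fin 2) F) := Fintype.ofFinite _

noncomputable local instance (priority := high) instFintypeSubReeTwo
    (H : Subgroup (Matrix.ProjectiveSpecialLinearGroup (Fin 2) F)) : Fintype H := Fintype.ofFinite _

variable {E : Emb G (Matrix.ProjectiveSpecialLinearGroup (Fin 2) F)}

/-- The powers of `p d`, with `d` normalising the subgroup containing `p`. -/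
theorem pow_mul_mem {X : Type*} [Group X] {P : Subgroup X} {p d : X} (hp : p ∈ P)
    (hd : d ∈ Subgroup.normalizer (P : Set X)) : ∀ n : ℕ, (p * d) ^ n * (d ^ n)⁻¹ ∈ P
  | 0 => by simp
  | n + 1 => by
    have h := pow_mul_mem hp hd n
    rw [show (p * d) ^ (n + 1) * (d ^ (n + 1))⁻¹ =
      (p * d) ^ n * (d ^ n)⁻¹ * (d ^ n * p * (d ^ n)⁻¹) by rw [pow_succ, pow_succ]; group]
    exact mul_mem h ((Subgroup.mem_normalizer_iff.1 (pow_mem hd n) p).1 hp)

/-- The element of `⟨t⟩ × ι(D)` with given coordinates. -/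
noncomputable def torElt (E : Emb G (Matrix.ProjectiveSpecialLinearGroup (Fin 2) F))
    (b : Bool) (d : PST) : G :=
  cond b (E.t * E.ι d) (E.ι d)

theorem mem_torusA_iff {a : G} :
    a ∈ torusA E ↔ ∃ b, ∃ d ∈ subD (F := F), a = torElt E b d := by
  constructor
  · intro ha
    obtain ⟨d, hd, h | h⟩ := mem_torusA ha
    · exact ⟨false, d, hd, h⟩
    · exact ⟨true, d, hd, h⟩
  · rintro ⟨b, d, hd, rfl⟩
    cases b
    · exact ⟨(1, d), ⟨Subgroup.mem_top _, hd⟩, by simp [Emb.prodHom, torElt]⟩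
    · exact ⟨(Multiplicative.ofAdd 1, d), ⟨Subgroup.mem_top _, hd⟩, by simp [Emb.prodHom, torElt]⟩

theorem torElt_injective {b b' : Bool} {d d' : PST} (h : torElt E b d = torElt E b' d') :
    b = b' ∧ d = d' := by
  cases b <;> cases b'
  · exact ⟨rfl, E.inj h⟩
  · exact absurd h E.ι_eq_t_mul_iff
  · exact absurd h.symm E.ι_eq_t_mul_iff
  · exact ⟨rfl, E.inj (mul_left_cancel h)⟩

namespace RHyp

variable (hyp : RHyp E) {P : Sylow 3 G} (hQP : subQG E ≤ (P : Subgroup G))
  (hAP : torusA E ≤ Subgroup.normalizer ((P : Subgroup G) : Set G))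
include hyp hQP hAP

theorem disjoint_torus {x : G} (hx : x ∈ (P : Subgroup G)) (hxA : x ∈ torusA E) : x = 1 := by
  haveI : Fact (Nat.Prime 3) := ⟨Nat.prime_three⟩
  obtain ⟨i, hi⟩ := P.2 ⟨x, hx⟩
  have hi' : x ^ 3 ^ i = 1 := congrArg Subtype.val hi
  obtain ⟨h8, h27, h3⟩ := hyp.q_facts
  refine orderOf_eq_one_iff.1 (Nat.dvd_one.1 ?_)
  rw [← (((Nat.prime_three).coprime_iff_not_dvd.2 (show ¬ 3 ∣ Fintype.card F - 1 by omega)).pow_left
    i).gcd_eq_one]
  exact Nat.dvd_gcd (orderOf_dvd_of_pow_eq_one hi')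
    (natCard_torusA (E := E) hyp.two_ne ▸ Subgroup.orderOf_dvd_natCard (torusA E) hxA)

/-- Parameters of `P (⟨t⟩ × ι(D))`. -/
theorem bijective_param : Function.Bijective
    (fun z : ↥(P : Subgroup G) × Bool × subD (F := F) =>
      (⟨(z.1 : G) * torElt E z.2.1 (z.2.2 : PST), Subgroup.mul_mem_sup z.1.2
        (mem_torusA_iff.2 ⟨_, _, z.2.2.2, rfl⟩)⟩ : ((P : Subgroup G) ⊔ torusA E : Subgroup G))) := by
  constructor
  · rintro ⟨p, b, d⟩ ⟨p', b', d'⟩ h
    have h' : (p : G) * torElt E b (d : PST) = p' * torElt E b' (d' : PST) := congrArg Subtype.val h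
    have e : (p' : G)⁻¹ * p = torElt E b' (d' : PST) * (torElt E b (d : PST))⁻¹ := by
      rw [eq_mul_inv_iff_mul_eq, mul_assoc, h']; group
    have h1 := hyp.disjoint_torus hQP hAP (mul_mem (inv_mem p'.2) p.2) (e ▸ mul_mem
      (mem_torusA_iff.2 ⟨_, _, d'.2, rfl⟩) (inv_mem (mem_torusA_iff.2 ⟨_, _, d.2, rfl⟩)))
    have hp : p = p' := Subtype.ext (inv_mul_eq_one.1 h1).symm
    subst hp
    obtain ⟨rfl, hd⟩ := torElt_injective (mul_left_cancel h')
    rw [Subtype.ext hd]
  · rintro ⟨x, hx⟩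
    rw [← SetLike.mem_coe, Subgroup.coe_mul_of_right_le_normalizer_left _ _ hAP] at hx
    obtain ⟨p, hp, a, ha, rfl⟩ := hx
    obtain ⟨b, d, hd, rfl⟩ := mem_torusA_iff.1 ha
    exact ⟨(⟨p, hp⟩, b, ⟨d, hd⟩), rfl⟩

theorem natCard_sup : Nat.card ((P : Subgroup G) ⊔ torusA E : Subgroup G) =
    Fintype.card F ^ 3 * (Fintype.card F - 1) := by
  rw [← Nat.card_eq_of_bijective _ (hyp.bijective_param hQP hAP), Nat.card_prod, Nat.card_prod,
    hyp.natCard_sylow, ← natCard_subD (F := F) hyp.two_ne]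
  simp

omit hAP in
theorem odd_mul_ι {p : G} (hp : p ∈ (P : Subgroup G)) {d : PST} (hd : d ∈ subD (F := F))
    (hn : E.ι d ∈ Subgroup.normalizer ((P : Subgroup G) : Set G)) :
    Odd (orderOf (p * E.ι d)) := by
  haveI : Fact (Nat.Prime 3) := ⟨Nat.prime_three⟩
  set u := Nat.card (subD (F := F)) with hu
  have hdu : E.ι d ^ u = 1 := by
    rw [← map_pow, orderOf_dvd_iff_pow_eq_one.1 (Subgroup.orderOf_dvd_natCard _ hd), map_one]
  have h := pow_mul_mem hp hn u
  rw [hdu, inv_one, mul_one] at h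
  obtain ⟨i, hi⟩ := P.2 ⟨_, h⟩
  have hi' : ((p * E.ι d) ^ u) ^ 3 ^ i = 1 := congrArg Subtype.val hi
  rw [← pow_mul] at hi'
  exact (hyp.u_facts.1.mul (Odd.pow (by decide))).of_dvd_nat (orderOf_dvd_of_pow_eq_one hi')

/-- The sum of the column over the coset `P t ι(d)`, `d ≠ 1`. -/
theorem sum_coset {d : PST} (hd : d ∈ subD (F := F)) (hd1 : d ≠ 1)
    (v : Cfsg.IrrCharacter G → ℤ) [Fintype (P : Subgroup G)] :
    ∑ p : (P : Subgroup G), colFun v ((p : G) * (E.t * E.ι d)) =
      (Nat.card (P : Subgroup G) : ℂ) * colFun v (E.t * E.ι d) := by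
  set s := E.t * E.ι d with hs
  have hsN : s ∈ Subgroup.normalizer ((P : Subgroup G) : Set G) :=
    hAP (mem_torusA_iff.2 ⟨true, d, hd, rfl⟩)
  let f : ↥(P : Subgroup G) → ↥(P : Subgroup G) := fun p => ⟨(p : G) * s * (p : G)⁻¹ * s⁻¹, by
    rw [show (p : G) * s * (p : G)⁻¹ * s⁻¹ = p * (s * (p : G)⁻¹ * s⁻¹) by group]
    exact mul_mem p.2 ((Subgroup.mem_normalizer_iff.1 hsN _).1 (inv_mem p.2))⟩
  have hf : Function.Bijective f := by
    refine Finite.injective_iff_bijective.1 fun p p' h => ?_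
    have h' : (p : G) * s * (p : G)⁻¹ = p' * s * (p' : G)⁻¹ :=
      mul_right_cancel (congrArg Subtype.val h)
    have hc : Commute ((p' : G)⁻¹ * p) s := by
      show (p' : G)⁻¹ * p * s = s * ((p' : G)⁻¹ * p)
      calc (p' : G)⁻¹ * p * s = (p' : G)⁻¹ * (p * s * (p : G)⁻¹) * p := by group
        _ = (p' : G)⁻¹ * (p' * s * (p' : G)⁻¹) * p := by rw [h']
        _ = _ := by group
    set c := (p' : G)⁻¹ * p with hcdef
    have hst : s ^ Nat.card (subD (F := F)) = E.t := by
      obtain ⟨j, hj⟩ := hyp.u_facts.1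
      rw [hs, (show Commute E.t (E.ι d) from E.comm d).mul_pow, ← map_pow,
        orderOf_dvd_iff_pow_eq_one.1 (Subgroup.orderOf_dvd_natCard _ hd), map_one, mul_one, hj,
        pow_succ, pow_mul, pow_two, E.sq, one_pow, one_mul]
    have hct : Commute c E.t := hst ▸ hc.pow_right _
    have hcQ := hyp.fix_le P.2 hQP (mul_mem (inv_mem p'.2) p.2) hct.eq
    obtain ⟨a, ha, hae⟩ := hcQ
    have hcd : Commute c (E.ι d) := by
      have h2 : E.ι d = E.t * s := by rw [hs, ← mul_assoc, E.sq, one_mul]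
      rw [h2]; exact hct.mul_right hc
    have had : d * a * d⁻¹ = a := by
      apply E.inj
      rw [map_mul, map_mul, map_inv, hae, ← hcd.eq, mul_inv_cancel_right]
    obtain ⟨b, rfl⟩ := hd
    have ha1 : a = 1 := by
      by_contra ha1
      exact hd1 (dQ_fix ha ha1 had)
    rw [ha1, map_one] at hae
    exact Subtype.ext (inv_mul_eq_one.1 hae.symm).symm
  rw [← Fintype.sum_bijective f hf _ _ (fun p => rfl),
    Finset.sum_congr rfl (g := fun _ => colFun v s) fun p _ => ?_, Finset.sum_const, Finset.card_univ,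
    nsmul_eq_mul, Nat.card_eq_fintype_card]
  show colFun v ((p : G) * s * (p : G)⁻¹ * s⁻¹ * s) = _
  rw [inv_mul_cancel_right, colFun_conj]

/-- The sum of the column over the coset `P t`. -/
theorem sum_coset_t (v : Cfsg.IrrCharacter G → ℤ) [Fintype (P : Subgroup G)] :
    (Fintype.card F : ℂ) * ∑ p : (P : Subgroup G), colFun v ((p : G) * E.t) =
      (Nat.card (P : Subgroup G) : ℂ) *
        ∑ h : subQ (F := F), colFun v (E.t * E.ι (h : PST)) := by
  classical
  have htN : E.t ∈ Subgroup.normalizer ((P : Subgroup G) : Set G) :=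
    hAP (mem_torusA_iff.2 ⟨true, 1, one_mem _, by simp [torElt]⟩)
  have hti : E.t⁻¹ = E.t := inv_eq_of_mul_eq_one_right E.sq
  have heP : ∀ e : subQ (F := F), E.ι (e : PST) ∈ (P : Subgroup G) := fun e =>
    hQP ⟨_, e.2, rfl⟩
  let φ : ↥(P : Subgroup G) × subQ (F := F) → (P : Subgroup G) := fun z =>
    ⟨(z.1 : G) * (E.t * E.ι (z.2 : PST)) * (z.1 : G)⁻¹ * E.t, by
      rw [show (z.1 : G) * (E.t * E.ι (z.2 : PST)) * (z.1 : G)⁻¹ * E.t =
        (z.1 : G) * (E.t * (E.ι (z.2 : PST) * (z.1 : G)⁻¹) * E.t⁻¹) by rw [hti]; group]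
      exact mul_mem z.1.2 ((Subgroup.mem_normalizer_iff.1 htN _).1
        (mul_mem (heP z.2) (inv_mem z.1.2)))⟩
  have hcube : ∀ e : subQ (F := F), (E.t * E.ι (e : PST)) ^ 3 = E.t := fun e => by
    rw [(show Commute E.t (E.ι (e : PST)) from E.comm _).mul_pow, ← map_pow,
      hyp.cube_subQ e.2, map_one, mul_one, pow_succ, pow_two, E.sq, one_mul]
  have hfib : ∀ x : (P : Subgroup G),
      (Finset.univ.filter fun z => φ z = x).card ≤ Fintype.card F := by
    intro x
    rcases (Finset.univ.filter fun z => φ z = x).eq_empty_or_nonempty with h | ⟨z₀, hz₀⟩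
    · rw [h, Finset.card_empty]; exact Nat.zero_le _
    obtain ⟨-, hz₀⟩ := Finset.mem_filter.1 hz₀
    have key : ∀ z, φ z = x → ∃ c : subQ (F := F),
        (z.1 : G) = z₀.1 * E.ι (c : PST) ∧ z.2 = z₀.2 := by
      intro z hz
      have h : (z.1 : G) * (E.t * E.ι (z.2 : PST)) * (z.1 : G)⁻¹ =
          z₀.1 * (E.t * E.ι (z₀.2 : PST)) * (z₀.1 : G)⁻¹ :=
        mul_right_cancel (congrArg Subtype.val (hz.trans hz₀.symm))
      have h3 : (z.1 : G) * E.t * (z.1 : G)⁻¹ = z₀.1 * E.t * (z₀.1 : G)⁻¹ := by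
        have := congrArg (· ^ 3) h
        simpa only [conj_pow, hcube] using this
      set c := (z₀.1 : G)⁻¹ * z.1 with hc
      have hct : c * E.t = E.t * c := by
        calc c * E.t = (z₀.1 : G)⁻¹ * (z.1 * E.t * (z.1 : G)⁻¹) * z.1 := by rw [hc]; group
          _ = (z₀.1 : G)⁻¹ * (z₀.1 * E.t * (z₀.1 : G)⁻¹) * z.1 := by rw [h3]
          _ = E.t * c := by rw [hc]; group
      obtain ⟨a, ha, hae⟩ := hyp.fix_le P.2 hQP (mul_mem (inv_mem z₀.1.2) z.1.2) hct
      refine ⟨⟨a, ha⟩, by rw [hae, mul_inv_cancel_left], Subtype.ext (E.inj ?_)⟩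
      have hz1 : (z.1 : G) = z₀.1 * E.ι a := by rw [hae, mul_inv_cancel_left]
      rw [hz1] at h
      have hcomm : E.ι a * E.ι (z.2 : PST) = E.ι (z.2 : PST) * E.ι a := by
        obtain ⟨a', rfl⟩ := ha
        obtain ⟨b', hb'⟩ := z.2.2
        rw [← hb', ← map_mul, ← map_mul, ← map_mul, ← map_mul, mul_comm]
      have h' : (z₀.1 : G) * (E.t * E.ι (z.2 : PST)) * (z₀.1 : G)⁻¹ =
          z₀.1 * (E.t * E.ι (z₀.2 : PST)) * (z₀.1 : G)⁻¹ := by
        rw [← h]
        calc (z₀.1 : G) * (E.t * E.ι (z.2 : PST)) * (z₀.1 : G)⁻¹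
            = z₀.1 * (E.t * (E.ι (z.2 : PST) * E.ι a)) * ((z₀.1 : G) * E.ι a)⁻¹ := by group
          _ = z₀.1 * (E.t * E.ι a * E.ι (z.2 : PST)) * ((z₀.1 : G) * E.ι a)⁻¹ := by
              rw [← hcomm, mul_assoc E.t]
          _ = _ := by rw [E.comm a]; group
      exact mul_left_cancel (mul_left_cancel (mul_right_cancel h'))
    choose! c hc1 hc2 using key
    refine (Finset.card_le_card_of_injOn c (t := Finset.univ) (fun _ _ => Finset.mem_univ _) ?_).trans
      ?_
    · intro z hz z' hz' e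
      have hz := (Finset.mem_filter.1 hz).2
      have hz' := (Finset.mem_filter.1 hz').2
      exact Prod.ext (Subtype.ext (by rw [hc1 z hz, hc1 z' hz', e])) ((hc2 z hz).trans (hc2 z' hz').symm)
    · rw [Finset.card_univ, ← Nat.card_eq_fintype_card, natCard_subQ, Nat.card_eq_fintype_card]
  have hall : ∀ x ∈ (Finset.univ : Finset (P : Subgroup G)),
      (Finset.univ.filter fun z => φ z = x).card = Fintype.card F := by
    refine (Finset.sum_eq_sum_iff_of_le fun x _ => hfib x).1 ?_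
    rw [← Finset.card_eq_sum_card_fiberwise (fun _ _ => Finset.mem_univ _), Finset.sum_const,
      Finset.card_univ, Finset.card_univ, Fintype.card_prod, smul_eq_mul]
    congr 1
    rw [← Nat.card_eq_fintype_card, natCard_subQ, Nat.card_eq_fintype_card]
  have h1 : ∑ z : ↥(P : Subgroup G) × subQ (F := F), colFun v ((φ z : G) * E.t) =
      (Nat.card (P : Subgroup G) : ℂ) * ∑ h : subQ (F := F), colFun v (E.t * E.ι (h : PST)) := by
    rw [Fintype.sum_prod_type, Finset.sum_congr rfl fun p _ => Finset.sum_congr rfl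
      (g := fun h : subQ (F := F) => colFun v (E.t * E.ι (h : PST))) fun e _ => ?_,
      Finset.sum_const, Finset.card_univ, nsmul_eq_mul, Nat.card_eq_fintype_card]
    show colFun v ((p : G) * (E.t * E.ι (e : PST)) * (p : G)⁻¹ * E.t * E.t) = _
    rw [mul_assoc _ E.t E.t, E.sq, mul_one, colFun_conj]
  rw [← h1, ← Finset.sum_fiberwise Finset.univ φ, Finset.mul_sum]
  refine Finset.sum_congr rfl fun x hx => ?_
  rw [Finset.sum_congr rfl (g := fun _ => colFun v ((x : G) * E.t)) fun z hz => by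
    rw [(Finset.mem_filter.1 hz).2], Finset.sum_const, nsmul_eq_mul, hall x hx]

/-- `P (⟨t⟩ × ι(D))` has a doubly transitive coset action. -/
theorem two_pretransitive_sup :
    MulAction.IsMultiplyPretransitive G (G ⧸ ((P : Subgroup G) ⊔ torusA E)) 2 := by
  classical
  haveI := Fintype.ofFinite (P : Subgroup G)
  obtain ⟨v, hv1, hodd, hpos, ht, hQ, hD⟩ := hyp.exists_col
  set H := (P : Subgroup G) ⊔ torusA E with hH
  haveI := Fintype.ofFinite H
  obtain ⟨h8, h27, -⟩ := hyp.q_facts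
  have hcH := hyp.natCard_sup hQP hAP
  have hcP := hyp.natCard_sylow P
  have hu2 := natCard_subD (F := F) hyp.two_ne
  set u := Nat.card (subD (F := F)) with hu
  have hP0 : (Nat.card (P : Subgroup G) : ℂ) ≠ 0 := Nat.cast_ne_zero.2 Nat.card_pos.ne'
  -- the sum of the column over `H`
  have hsum : ∑ h : H, colFun v (h : G) = 2 * (Nat.card H : ℂ) := by
    rw [← Fintype.sum_bijective _ (hyp.bijective_param hQP hAP) _ _ (fun z => rfl),
      Fintype.sum_prod_type, Finset.sum_comm, Fintype.sum_prod_type, Fintype.sum_bool]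
    show (∑ d : subD (F := F), ∑ p : (P : Subgroup G), colFun v ((p : G) * (E.t * E.ι (d : PST)))) +
      ∑ d : subD (F := F), ∑ p : (P : Subgroup G), colFun v ((p : G) * E.ι (d : PST)) = _
    rw [Finset.sum_eq_zero (s := (Finset.univ : Finset (subD (F := F)))) (f := fun d =>
        ∑ p : (P : Subgroup G), colFun v ((p : G) * E.ι (d : PST))) fun d _ =>
        Finset.sum_eq_zero fun p _ => hodd _ (hyp.odd_mul_ι hQP p.2 d.2
          (hAP (mem_torusA_iff.2 ⟨false, _, d.2, rfl⟩))),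
      add_zero, ← Finset.add_sum_erase _ _ (Finset.mem_univ (1 : subD (F := F))),
      Finset.sum_congr rfl fun (d : subD (F := F)) hd => hyp.sum_coset hQP hAP d.2
        (fun e => (Finset.mem_erase.1 hd).1 (Subtype.ext (e.trans rfl))) v,
      ← Finset.mul_sum, Finset.sum_erase_eq_sub (Finset.mem_univ _)]
    simp only [OneMemClass.coe_one, map_one, mul_one]
    rw [hD, ht]
    have h1 := hyp.sum_coset_t hQP hAP v
    rw [hQ, ← mul_assoc, mul_comm (Nat.card (P : Subgroup G) : ℂ) 4, mul_comm _ (Fintype.card F : ℂ)]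
      at h1
    rw [mul_left_cancel₀ (Nat.cast_ne_zero.2 (by omega)) h1, hcH, ← hcP, ← hu2]
    have hu' : (Fintype.card F : ℂ) = 2 * (u : ℂ) + 1 := by
      have h' : Fintype.card F = 2 * u + 1 := by omega
      exact_mod_cast h'
    rw [hu']
    push_cast
    ring
  obtain ⟨m, hm⟩ := exists_mult H
  have hex : ∑ χ : Cfsg.IrrCharacter G, (v χ : ℂ) * (m χ : ℂ) = 2 := by
    refine mul_left_cancel₀ (Nat.cast_ne_zero.2 (Nat.card_pos (α := H)).ne') ?_
    rw [Finset.mul_sum, mul_comm (Nat.card H : ℂ) 2, ← hsum]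
    simp only [colFun]
    rw [Finset.sum_comm]
    refine Finset.sum_congr rfl fun χ _ => ?_
    rw [← Finset.mul_sum, hm χ]
    ring
  have hex' : ∑ χ : Cfsg.IrrCharacter G, v χ * (m χ : ℤ) = 2 := by exact_mod_cast hex
  have hm₀ : m (JankoThompson.trivC G) = 1 := by
    have h : ∑ k : H, (1 : ℂ) = (Nat.card H : ℂ) * (m (JankoThompson.trivC G) : ℂ) :=
      hm (JankoThompson.trivC G)
    simp only [Finset.sum_const, Finset.card_univ, nsmul_eq_mul, mul_one,
      ← Nat.card_eq_fintype_card] at h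
    have h' : Nat.card H = Nat.card H * m (JankoThompson.trivC G) := by exact_mod_cast h
    exact (mul_eq_left₀ Nat.card_pos.ne').1 h'.symm
  obtain ⟨χ, hχ, hvm⟩ : ∃ χ, χ ≠ JankoThompson.trivC G ∧ 0 < v χ * (m χ : ℤ) := by
    by_contra hno
    push Not at hno
    have := Finset.sum_nonpos (s := Finset.univ.erase (JankoThompson.trivC G))
      fun χ hχ => hno χ (Finset.mem_erase.1 hχ).1
    rw [← Finset.add_sum_erase _ _ (Finset.mem_univ (JankoThompson.trivC G)), hv1, hm₀] at hex'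
    push_cast at hex'
    linarith
  have hvpos : 0 < v χ := by
    rcases (lt_trichotomy (v χ) 0) with h | h | h
    · have h0 : (0 : ℤ) ≤ (m χ : ℤ) := by positivity
      have := mul_nonpos_of_nonpos_of_nonneg h.le h0
      omega
    · rw [h, zero_mul] at hvm; omega
    · exact h
  have hm1 : m χ ≠ 0 := fun h => by rw [h, Nat.cast_zero, mul_zero] at hvm; omega
  have hidx : H.index = Fintype.card F ^ 3 + 1 := by
    have h := H.card_mul_index
    rw [hcH, hyp.card, mul_comm (Fintype.card F ^ 3) (Fintype.card F - 1),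
      show Fintype.card F ^ 3 * (Fintype.card F ^ 3 + 1) * (Fintype.card F - 1) =
        (Fintype.card F - 1) * Fintype.card F ^ 3 * (Fintype.card F ^ 3 + 1) by ring] at h
    exact Nat.eq_of_mul_eq_mul_left
      (Nat.mul_pos (by omega) (pow_pos (by omega) 3)) h
  refine two_pretransitive_of_constituent (χ₀ := JankoThompson.trivC G) (χ₁ := χ) (fun g => rfl) hχ
    ?_ ?_
  · rw [ReeTypeS3.deg_spec, hidx]
    have := hpos χ hχ hvpos
    have h' : ReeTypeS3.deg χ = Fintype.card F ^ 3 := by exact_mod_cast this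
    rw [h']
    push_cast
    rfl
  · rw [hm χ]
    exact mul_ne_zero (Nat.cast_ne_zero.2 Nat.card_pos.ne') (Nat.cast_ne_zero.2 hm1)

end RHyp

/-- A group of Ree order has a doubly transitive action on `q³ + 1` cosets. -/
theorem RHyp.exists_two_pretransitive (hyp : RHyp E) : ∃ H : Subgroup G, H.index = Fintype.card F ^ 3 + 1 ∧
    MulAction.IsMultiplyPretransitive G (G ⧸ H) 2 := by
  obtain ⟨P, hQP, hAP⟩ := hyp.exists_sylow_torus
  refine ⟨_, ?_, hyp.two_pretransitive_sup hQP hAP⟩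
  have h := ((P : Subgroup G) ⊔ torusA E).card_mul_index
  rw [hyp.natCard_sup hQP hAP, hyp.card,
    show Fintype.card F ^ 3 * (Fintype.card F ^ 3 + 1) * (Fintype.card F - 1) =
      Fintype.card F ^ 3 * (Fintype.card F - 1) * (Fintype.card F ^ 3 + 1) by ring] at h
  have h27 := hyp.q_facts.2.1
  exact Nat.eq_of_mul_eq_mul_left (Nat.mul_pos (pow_pos (by omega) 3) (by omega)) h

end CfsgLib.WalterCons
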