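import Mathlib

/-!
# Semisimple elements of `SL₂` with trace in a subfield
-/

set_option autoImplicit false
set_option linter.style.haveILetI false

namespace CfsgLib.WalterCons

open scoped MatrixGroups

/-- A root of `X² - tX + 1`, `t² ≠ 4`, `t` fixed by the `Q`-th power, is fixed by the `Q²`-th. -/
theorem pow_sq_eq_self {A : Type*} [CommRing A] {p : ℕ} [Fact p.Prime] [CharP A p] (n : ℕ)
    {x x' t c : A} (hsum : x + x' = t) (hprod : x * x' = 1) (ht : t ^ p ^ n = t)
    (hc : c * (t ^ 2 - 4) = 1) : (x ^ p ^ n) ^ p ^ n = x := by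
  set Q := p ^ n with hQ
  set y := x ^ Q with hy
  set y' := x' ^ Q with hy'
  have hy1 : y + y' = t := by rw [hy, hy', ← add_pow_char_pow, hsum, ht]
  have hy2 : y * y' = 1 := by rw [hy, hy', ← mul_pow, hprod, one_pow]
  set u := y - x with hu
  set d := x' - x with hd
  have hd2 : d * d = t ^ 2 - 4 := by
    rw [hd]
    linear_combination (x + x' + t) * hsum - 4 * hprod
  have huu : u * u = u * d := by
    rw [hu, hd]
    linear_combination y * hy1 - y * hsum - hy2 + hprod
  set e := c * (u * d) with he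
  have hee : e * e = e := by
    rw [he]
    linear_combination c ^ 2 * d ^ 2 * huu + c ^ 2 * u * d * hd2 + c * u * d * hc
  have hed : e * d = u := by
    rw [he]
    linear_combination c * u * hd2 + u * hc
  have heQ : e ^ Q = e := by
    have hpos : 0 < Q := by rw [hQ]; exact pow_pos (Fact.out : p.Prime).pos n
    obtain ⟨m, hm⟩ : ∃ m, Q = m + 1 := ⟨Q - 1, by omega⟩
    rw [hm]
    clear hm
    induction m with
    | zero => exact pow_one e
    | succ m ih => rw [pow_succ, ih, hee]
  have hdQ : d ^ Q = d - 2 * u := by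
    rw [hd, sub_pow_char_pow, ← hy', ← hy, hu]
    linear_combination hy1 - hsum
  have huQ : u ^ Q = y ^ Q - y := by rw [hu, sub_pow_char_pow, ← hy]
  have huQ' : u ^ Q = -u := by
    have h1 : u ^ Q = e * (d - 2 * u) :=
      calc u ^ Q = (e * d) ^ Q := by rw [hed]
        _ = e * (d - 2 * u) := by rw [mul_pow, heQ, hdQ]
    rw [h1]
    linear_combination (2 * e - 1) * hed - 2 * d * hee
  linear_combination huQ.symm.trans huQ' + hu

variable {F : Type*} [Field F]

/-- An element with trace `t`, `t² ≠ 4`, in the field of `p^n` elements has order dividing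
`p^(2n) - 1`. -/
theorem sl_two_pow_sub_one_eq_one {p : ℕ} [Fact p.Prime] [CharP F p] (n : ℕ) (s : SL(2, F))
    (ht : (Matrix.trace s.1) ^ p ^ n = Matrix.trace s.1) (h4 : Matrix.trace s.1 ^ 2 ≠ 4) :
    s ^ ((p ^ n) ^ 2 - 1) = 1 := by
  set M := s.1 with hM
  set t := Matrix.trace M with htdef
  set S := Algebra.adjoin F ({M} : Set (Matrix (Fin 2) (Fin 2) F)) with hS
  letI : CommRing S := Algebra.adjoinCommRingOfComm F (s := {M}) (by simp)
  haveI : CharP S p := charP_of_injective_algebraMap (algebraMap F S).injective p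
  have hMS : M ∈ S := Algebra.subset_adjoin (Set.mem_singleton M)
  set x : S := ⟨M, hMS⟩
  have hscal : ∀ a : F, ((algebraMap F S a : S) : Matrix (Fin 2) (Fin 2) F) =
      algebraMap F (Matrix (Fin 2) (Fin 2) F) a := fun a => rfl
  have hCH : M * (algebraMap F _ t - M) = 1 := by
    have hd : M 0 0 * M 1 1 - M 0 1 * M 1 0 = 1 := by
      have := s.2
      rwa [← hM, Matrix.det_fin_two] at this
    ext i j
    fin_cases i <;> fin_cases j <;>
      simp [htdef, Matrix.trace_fin_two, Matrix.mul_apply, Fin.sum_univ_two,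
        Matrix.algebraMap_matrix_apply] <;>
      first | linear_combination hd | ring
  have h := pow_sq_eq_self (A := S) (p := p) n (x := x) (x' := algebraMap F S t - x)
    (t := algebraMap F S t) (c := algebraMap F S (t ^ 2 - 4)⁻¹) (add_sub_cancel _ _)
    (Subtype.ext hCH) (by rw [← map_pow, ht])
    (by
      have h4' : (algebraMap F S) 4 = 4 := map_ofNat _ _
      rw [← map_pow, ← h4', ← map_sub, ← map_mul, inv_mul_cancel₀ (sub_ne_zero.2 h4), map_one])
  rw [← pow_mul, ← pow_two] at h
  have h2 : s ^ (p ^ n) ^ 2 = s := by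
    apply Subtype.ext
    rw [Matrix.SpecialLinearGroup.coe_pow]
    exact congrArg Subtype.val h
  have hpos : 1 ≤ (p ^ n) ^ 2 := Nat.one_le_pow _ _ (pow_pos (Fact.out : p.Prime).pos n)
  refine mul_right_cancel (b := s) ?_
  rw [one_mul, ← pow_succ, show (p ^ n) ^ 2 - 1 + 1 = (p ^ n) ^ 2 by omega, h2]

/-- An element of trace `t`, `t² = 4`, has order dividing `2p`. -/
theorem sl_two_pow_two_mul_eq_one {p : ℕ} [Fact p.Prime] [CharP F p] (s : SL(2, F))
    (h4 : Matrix.trace s.1 ^ 2 = 4) : s ^ (2 * p) = 1 := by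
  set M := s.1 with hM
  have hd : M 0 0 * M 1 1 - M 0 1 * M 1 0 = 1 := by
    have := s.2
    rwa [← hM, Matrix.det_fin_two] at this
  obtain ⟨h, hh, h2⟩ : ∃ h : F, h * h = 1 ∧ 2 * h = Matrix.trace M := by
    by_cases h2 : (2 : F) = 0
    · refine ⟨1, one_mul 1, ?_⟩
      have h40 : (4 : F) = 0 := by linear_combination (2 : F) * h2
      rw [h40] at h4
      rw [eq_zero_of_pow_eq_zero h4, h2, zero_mul]
    · refine ⟨Matrix.trace M / 2, ?_, by field_simp⟩
      field_simp
      linear_combination h4
  have hnil : (M - algebraMap F _ h) ^ 2 = 0 := by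
    rw [Matrix.trace_fin_two] at h2
    ext i j
    fin_cases i <;> fin_cases j <;>
      simp [pow_two, Matrix.mul_apply, Fin.sum_univ_two, Matrix.algebraMap_matrix_apply]
    · linear_combination hh - hd - M 0 0 * h2
    · linear_combination -(M 0 1) * h2
    · linear_combination -(M 1 0) * h2
    · linear_combination hh - hd - M 1 1 * h2
  have hp : (M - algebraMap F _ h) ^ p = 0 := pow_eq_zero_of_le (Fact.out : p.Prime).two_le hnil
  haveI : CharP (Matrix (Fin 2) (Fin 2) F) p := Matrix.charP p
  rw [sub_pow_char_of_commute _ (Algebra.commute_algebraMap_right h M), sub_eq_zero] at hp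
  apply Subtype.ext
  rw [Matrix.SpecialLinearGroup.coe_pow, ← hM, mul_comm, pow_mul, hp, ← pow_mul, ← map_pow,
    mul_comm, pow_mul, pow_two, hh, one_pow, map_one]
  rfl

end CfsgLib.WalterCons
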